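import Cfsg.Agent.Lib.Perm.SuborbitThree.InvolutionFixed
import Cfsg.Agent.Lib.Small.RepSymFour
import Cfsg.Agent.Lib.Dickson.PSLTwo

/-!
# Groups with a normal `SL₂(q)` and an involution with centralizer of order four: `GL(2,3)`
-/

set_option autoImplicit false
set_option linter.style.haveILetI false
set_option linter.unusedSectionVars false

namespace Cfsg.Lib.Perm.SubThree

open Subgroup Cfsg.Lib.Small.RepSymFour
open scoped commutatorElement

universe u

/-- The quaternion subgroup of `SL(2,3)`. -/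
def quatSL : QuaternionGroup 2 →* Matrix.SpecialLinearGroup (Fin 2) (ZMod 3) where
  toFun x := ⟨quatMat x, (quatMat_det x).1⟩
  map_one' := Subtype.ext (by decide +kernel)
  map_mul' x y := Subtype.ext (quatMat_mul x y)

theorem quatSL_injective : Function.Injective quatSL := by
  rw [injective_iff_map_eq_one]
  intro x hx
  exact quatMat_injective x (congrArg Subtype.val hx)

theorem mat_two_three : ∀ M : Matrix (Fin 2) (Fin 2) (ZMod 3),
    M 0 0 * M 1 1 - M 0 1 * M 1 0 = 1 → M * M = 1 → M = 1 ∨ M = quatMat (QuaternionGroup.a 2) := by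
  decide +kernel

theorem quat_facts : quatMat (QuaternionGroup.a 2) ≠ 1 ∧
    (∀ N : Matrix (Fin 2) (Fin 2) (ZMod 3),
      quatMat (QuaternionGroup.a 2) * N = N * quatMat (QuaternionGroup.a 2)) ∧
    (∀ x : QuaternionGroup 2, x * x = 1 ∨ x * x = QuaternionGroup.a 2) ∧
    (∀ x y : QuaternionGroup 2, x * y * x⁻¹ * y⁻¹ = 1 ∨ x * y * x⁻¹ * y⁻¹ = QuaternionGroup.a 2) ∧
    (∀ x : QuaternionGroup 2, x * QuaternionGroup.a 1 = QuaternionGroup.a 1 * x →
      x * QuaternionGroup.xa 0 = QuaternionGroup.xa 0 * x → x = 1 ∨ x = QuaternionGroup.a 2) ∧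
    (QuaternionGroup.a 1 : QuaternionGroup 2) ≠ 1 ∧
    (QuaternionGroup.a 1 : QuaternionGroup 2) ≠ QuaternionGroup.a 2 := by
  decide +kernel

variable {K : Type u} [Group K] [Finite K]

/-- In a `v`-invariant subgroup which is abelian modulo `⟨z⟩` some element is moved by `v` to its
multiple by `z`. -/
theorem exists_twist {X : Subgroup K} {v z : K} (hv : v * v = 1)
    (hz : ∀ g : K, g * z = z * g) (hz2 : z * z = 1)
    (hX : ∀ x ∈ X, v * x * v ∈ X) (hcomm : ∀ x ∈ X, ∀ y ∈ X, x * y * x⁻¹ * y⁻¹ = 1 ∨ x * y * x⁻¹ * y⁻¹ = z)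
    (hfix : ∀ x ∈ X, v * x * v = x → x = 1 ∨ x = z) {w : K} (hw : w ∈ X) (hw1 : w ≠ 1) (hwz : w ≠ z)
    (hw2 : w * w = 1 ∨ w * w = z) :
    ∃ u ∈ X, u ≠ 1 ∧ u ≠ z ∧ v * u * v = u * z := by
  have hzi : z⁻¹ = z := inv_eq_of_mul_eq_one_right hz2
  have key : ∀ u ∈ X, u ≠ 1 → u ≠ z → (v * u * v = u ∨ v * u * v = u * z) → v * u * v = u * z :=
    fun u hu h1 h2 hor => hor.resolve_left fun h => (hfix u hu h).elim h1 h2
  set u := w * (v * w * v) with hu
  by_cases hu1 : u = 1 ∨ u = z
  · refine ⟨w, hw, hw1, hwz, key w hw hw1 hwz ?_⟩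
    have e : v * w * v = w⁻¹ * u := by rw [hu, inv_mul_cancel_left]
    rcases hw2 with h2 | h2
    · have hwi : w⁻¹ = w := inv_eq_of_mul_eq_one_right h2
      rcases hu1 with h | h
      · exact Or.inl (by rw [e, h, mul_one, hwi])
      · exact Or.inr (by rw [e, h, hwi])
    · have hwi : w⁻¹ = w * z := inv_eq_of_mul_eq_one_right (by rw [← mul_assoc, h2, hz2])
      rcases hu1 with h | h
      · exact Or.inr (by rw [e, h, mul_one, hwi])
      · exact Or.inl (by rw [e, h, hwi, mul_assoc, hz2, mul_one])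
  push Not at hu1
  refine ⟨u, X.mul_mem hw (hX w hw), hu1.1, hu1.2, key u (X.mul_mem hw (hX w hw)) hu1.1 hu1.2 ?_⟩
  have e : v * u * v = v * w * v * w := by
    calc v * u * v = v * w * v * w * (v * v) := by rw [hu]; group
      _ = _ := by rw [hv, mul_one]
  rcases hcomm _ (hX w hw) _ hw with h | h
  · left
    rw [e, mul_inv_eq_one] at *
    rw [mul_inv_eq_iff_eq_mul] at h
    rw [hu, h]
  · right
    rw [mul_inv_eq_iff_eq_mul, mul_inv_eq_iff_eq_mul] at h
    rw [e, h, hu, mul_assoc z, hz]

/-- **The shape of the centralizer modulo its odd core.** -/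
theorem nonempty_gl_of_sl {F : Type} [Field F] [Fintype F] (hodd : Odd (Fintype.card F))
    (hO : Cfsg.oddCore K = ⊥) (h16 : 16 ∣ Nat.card K) (L : Subgroup K) [L.Normal]
    (hL : commutator K ≤ L) (e : L ≃* Matrix.SpecialLinearGroup (Fin 2) F) (v : K) (hv : v * v = 1)
    (h4 : Nat.card ↥(centralizer ({v} : Set K)) ≤ 4) :
    Nonempty (K ≃* GL (Fin 2) (ZMod 3)) := by
  classical
  haveI : Fact (Nat.Prime 3) := ⟨Nat.prime_three⟩
  haveI : Fact (Nat.Prime 2) := ⟨Nat.prime_two⟩
  have hq : Fintype.card F = 3 := by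
    have h2 : 2 ≤ Fintype.card F := Fintype.one_lt_card
    by_contra hne
    have h5 : 5 ≤ Fintype.card F := by obtain ⟨k, hk⟩ := hodd; omega
    exact absurd (sl_no_small_centralizer hodd h5 L e v hv) (not_lt.2 h4)
  let f : L ≃* Matrix.SpecialLinearGroup (Fin 2) (ZMod 3) :=
    e.trans (Cfsg.Lib.Dickson.slEquiv (FiniteField.ringEquivOfCardEq (by rw [ZMod.card, hq])))
  obtain ⟨hz1m, hzc, hsq, hcommQ, hcent, ha1, ha1z⟩ := quat_facts
  -- the quaternion subgroup
  set Q := ((quatSL.range).comap f.toMonoidHom).map L.subtype with hQd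
  have hmemQ : ∀ x (hx : x ∈ L), x ∈ Q ↔ (f ⟨x, hx⟩) ^ 4 = 1 := by
    intro x hx
    constructor
    · rintro ⟨y, ⟨q, hq⟩, hyx⟩
      rw [show (⟨x, hx⟩ : L) = y from Subtype.ext hyx.symm, show f y = quatSL q from hq.symm]
      exact Subtype.ext (quatMat_det q).2
    · intro h
      obtain ⟨q, hq⟩ := quatMat_range (f ⟨x, hx⟩).1 (by rw [← Matrix.det_fin_two]; exact (f ⟨x, hx⟩).2)
        (congrArg Subtype.val h)
      exact ⟨⟨x, hx⟩, ⟨q, Subtype.ext hq⟩, rfl⟩
  have hQL : Q ≤ L := map_subtype_le _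
  haveI hQn : Q.Normal := ⟨fun x hx g => by
    have hxL := hQL hx
    refine (hmemQ _ ((inferInstance : L.Normal).conj_mem x hxL g)).2 ?_
    have h1 := (hmemQ x hxL).1 hx
    rw [← map_pow, map_eq_one_iff _ f.injective] at h1 ⊢
    have h2 : x ^ 4 = 1 := congrArg Subtype.val h1
    refine Subtype.ext ?_
    rw [SubmonoidClass.coe_pow, conj_pow, h2, mul_one, mul_inv_cancel]
    rfl⟩
  let ι : QuaternionGroup 2 →* K := L.subtype.comp (f.symm.toMonoidHom.comp quatSL)
  have hι : Function.Injective ι := fun a b h => quatSL_injective (f.symm.injective (Subtype.ext h))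
  have hιQ : ι.range = Q := by
    ext x
    constructor
    · rintro ⟨q, rfl⟩
      exact ⟨f.symm (quatSL q), ⟨q, (f.apply_symm_apply _).symm⟩, rfl⟩
    · rintro ⟨y, ⟨q, hq⟩, rfl⟩
      refine ⟨q, ?_⟩
      show ((f.symm (quatSL q) : L) : K) = y
      rw [show quatSL q = f y from hq, f.symm_apply_apply]
  let eQ : Q ≃* QuaternionGroup 2 :=
    ((MonoidHom.ofInjective hι).trans (MulEquiv.subgroupCongr hιQ)).symm
  have hQι : ∀ x ∈ Q, ∃ q, ι q = x := fun x hx => (hιQ.ge hx :)
  have hιmem : ∀ q, ι q ∈ Q := fun q => hιQ ▸ ⟨q, rfl⟩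
  set z := ι (QuaternionGroup.a 2) with hzd
  have hzQ : z ∈ Q := hιmem _
  have hz1 : z ≠ 1 := fun h => by
    have := hι (h.trans (map_one ι).symm)
    exact absurd this (by decide)
  have hz2 : z * z = 1 := by
    rw [hzd, ← map_mul, show (QuaternionGroup.a 2 : QuaternionGroup 2) * QuaternionGroup.a 2 = 1 by decide,
      map_one]
  have hinvol : ∀ (x : K) (hx : x ∈ L), x * x = 1 → x = 1 ∨ x = z := by
    intro x hx h
    have h' : f ⟨x, hx⟩ * f ⟨x, hx⟩ = 1 := by
      rw [← map_mul, show (⟨x, hx⟩ : L) * ⟨x, hx⟩ = 1 from Subtype.ext h, map_one]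
    rcases mat_two_three (f ⟨x, hx⟩).1 (by rw [← Matrix.det_fin_two]; exact (f ⟨x, hx⟩).2)
      (congrArg Subtype.val h') with h1 | h1
    · left
      exact congrArg Subtype.val (f.injective (a₁ := ⟨x, hx⟩) (a₂ := 1) (by rw [map_one]; exact Subtype.ext h1))
    · right
      have : f ⟨x, hx⟩ = quatSL (QuaternionGroup.a 2) := Subtype.ext h1
      show x = ((f.symm (quatSL (QuaternionGroup.a 2)) : L) : K)
      rw [← this, f.symm_apply_apply]
  have hzK : ∀ g : K, g * z = z * g := by
    intro g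
    rcases hinvol _ ((inferInstance : L.Normal).conj_mem z (hQL hzQ) g) (by
      rw [show g * z * g⁻¹ * (g * z * g⁻¹) = g * (z * z) * g⁻¹ by group, hz2, mul_one, mul_inv_cancel]) with
      h | h
    · exact absurd (conj_eq_one_iff.1 h) hz1
    · exact mul_inv_eq_iff_eq_mul.1 h
  have hL24 : Nat.card L = 24 := by
    rw [Nat.card_congr f.toEquiv, Nat.card_eq_fintype_card]
    decide +kernel
  have hvL : v ∉ L := fun hvL => by
    have hle : L ≤ centralizer ({v} : Set K) := fun l hl => mem_centralizer_singleton_iff.2 (by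
      rcases hinvol v hvL hv with h | h
      · rw [h, mul_one, one_mul]
      · rw [h, hzK])
    have := card_le_of_le hle
    omega
  have hv1 : v ≠ 1 := fun h => hvL (h ▸ L.one_mem)
  have hvz : v ≠ z := fun h => hvL (h ▸ hQL hzQ)
  -- the centralizer of `v`
  have hCv : ∀ y, v * y * v = y → y = 1 ∨ y = z ∨ y = v ∨ y = z * v := by
    intro y hy
    by_contra hno
    push Not at hno
    haveI := Fintype.ofFinite ↥(centralizer ({v} : Set K))
    have hvi : v⁻¹ = v := inv_eq_of_mul_eq_one_right hv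
    have hyc : y * v = v * y := by
      calc y * v = v * y * v * v := by rw [hy]
        _ = v * y := by rw [mul_assoc (v * y), hv, mul_one]
    have hvv : v * v = v * v := rfl
    have hmem : ∀ a, a * v = v * a → a ∈ centralizer ({v} : Set K) := fun a ha =>
      mem_centralizer_singleton_iff.2 ha
    have hzv : z * v * v = v * (z * v) := by rw [← mul_assoc v z v, hzK v]
    have h5 : ({⟨1, one_mem _⟩, ⟨z, hmem z (hzK v).symm⟩, ⟨v, hmem v hvv⟩, ⟨z * v, hmem _ hzv⟩,
        ⟨y, hmem y hyc⟩} : Finset ↥(centralizer ({v} : Set K))).card = 5 := by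
      have e1 : z * v ≠ 1 := fun h => hvz (by rw [mul_eq_one_iff_eq_inv, hvi] at h; exact h.symm)
      have e2 : z * v ≠ z := fun h => hv1 (mul_eq_left.1 h)
      have e3 : z * v ≠ v := fun h => hz1 (mul_eq_right.1 h)
      simp [Subtype.ext_iff, hz1.symm, hv1.symm, hvz.symm, e1.symm, e2.symm, e3.symm, hno.1.symm,
        hno.2.1.symm, hno.2.2.1.symm, hno.2.2.2.symm]
    have := Finset.card_le_univ ({⟨1, one_mem _⟩, ⟨z, hmem z (hzK v).symm⟩, ⟨v, hmem v hvv⟩,
      ⟨z * v, hmem _ hzv⟩, ⟨y, hmem y hyc⟩} : Finset ↥(centralizer ({v} : Set K)))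
    rw [h5, ← Nat.card_eq_fintype_card] at this
    omega
  have hvi : v⁻¹ = v := inv_eq_of_mul_eq_one_right hv
  set W := centralizer (Q : Set K) with hWd
  haveI : W.Normal := normal_centralizer
  have hvinv : ∀ X : Subgroup K, X.Normal → ∀ x ∈ X, v * x * v ∈ X := fun X hX x hx => by
    have := hX.conj_mem x hx v
    rwa [hvi] at this
  have hWL : ∀ x ∈ W, x ∈ L → x = 1 ∨ x = z := by
    intro x hx hxL
    have hc : ∀ q, f ⟨x, hxL⟩ * quatSL q = quatSL q * f ⟨x, hxL⟩ := fun q => by
      have h := mem_centralizer_iff.1 hx (ι q) (hιmem q)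
      rw [← f.apply_symm_apply (quatSL q), ← map_mul, ← map_mul]
      exact congrArg f (Subtype.ext h.symm)
    have hdet := (f ⟨x, hxL⟩).2
    rw [Matrix.det_fin_two] at hdet
    obtain ⟨q, hq⟩ := quatMat_commutant (f ⟨x, hxL⟩).1
      (by have := congrArg Subtype.val (hc (QuaternionGroup.a 1)); rw [← quatMat_gens.1]; exact this)
      (by have := congrArg Subtype.val (hc (QuaternionGroup.xa 0)); rw [← quatMat_gens.2]; exact this)
      (by rw [hdet]; decide)
    have hx' : x = ι q := by
      show x = ((f.symm (quatSL q) : L) : K)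
      rw [show quatSL q = f ⟨x, hxL⟩ from Subtype.ext hq, f.symm_apply_apply]
    have hcq : ∀ r, q * r = r * q := fun r => hι (by
      rw [map_mul, map_mul, ← hx']
      exact (mem_centralizer_iff.1 hx (ι r) (hιmem r)).symm)
    rcases hcent q (hcq _) (hcq _) with h | h
    · exact Or.inl (by rw [hx', h, map_one])
    · exact Or.inr (by rw [hx', h])
  have hzW : z ∈ W := mem_centralizer_iff.2 fun y _ => hzK y
  have hWcomm : ∀ x ∈ W, ∀ y ∈ W, x * y * x⁻¹ * y⁻¹ = 1 ∨ x * y * x⁻¹ * y⁻¹ = z := fun x hx y hy =>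
    hWL _ (W.mul_mem (W.mul_mem (W.mul_mem hx hy) (W.inv_mem hx)) (W.inv_mem hy))
      (hL (commutator_mem_commutator (mem_top x) (mem_top y)))
  have hvW : ∀ x, (x = v ∨ x = z * v) → x ∉ W := by
    intro x hx hxW
    have hvW : v ∈ W := by
      rcases hx with rfl | rfl
      · exact hxW
      · simpa using W.mul_mem (W.inv_mem hzW) hxW
    have hQc : Q ≤ centralizer ({v} : Set K) := fun y hy =>
      mem_centralizer_singleton_iff.2 (mem_centralizer_iff.1 hvW y hy)
    have := card_le_of_le hQc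
    rw [Nat.card_congr eQ.toEquiv, Nat.card_eq_fintype_card, QuaternionGroup.card] at this
    omega
  have hfixW : ∀ x ∈ W, v * x * v = x → x = 1 ∨ x = z := by
    intro x hx h
    rcases hCv x h with h' | h' | h' | h'
    · exact Or.inl h'
    · exact Or.inr h'
    · exact absurd hx (hvW x (Or.inl h'))
    · exact absurd hx (hvW x (Or.inr h'))
  have hfixQ : ∀ x ∈ Q, v * x * v = x → x = 1 ∨ x = z := by
    intro x hx h
    rcases hCv x h with h' | h' | h' | h'
    · exact Or.inl h'
    · exact Or.inr h'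
    · exact absurd (hQL hx) (h' ▸ hvL)
    · refine absurd (hQL hx) (h' ▸ fun hh => hvL ?_)
      simpa using L.mul_mem (L.inv_mem (hQL hzQ)) hh
  have hQsq : ∀ x ∈ Q, x * x = 1 ∨ x * x = z := fun x hx => by
    obtain ⟨q, rfl⟩ := hQι x hx
    rcases hsq q with h | h
    · exact Or.inl (by rw [← map_mul, h, map_one])
    · exact Or.inr (by rw [← map_mul, h])
  have hQcomm : ∀ x ∈ Q, ∀ y ∈ Q, x * y * x⁻¹ * y⁻¹ = 1 ∨ x * y * x⁻¹ * y⁻¹ = z := fun x hx y hy => by
    obtain ⟨a, rfl⟩ := hQι x hx
    obtain ⟨b, rfl⟩ := hQι y hy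
    simp only [← map_inv, ← map_mul]
    rcases hcommQ a b with h | h
    · exact Or.inl (by rw [h, map_one])
    · exact Or.inr (by rw [h])
  -- the centralizer of `Q` is its centre
  have hW : ∀ x ∈ W, x = 1 ∨ x = z := by
    by_contra hcon
    push Not at hcon
    obtain ⟨x0, hx0, hx01, hx0z⟩ := hcon
    by_cases hex : ∃ w ∈ W, w ≠ 1 ∧ w ≠ z ∧ (w * w = 1 ∨ w * w = z)
    · obtain ⟨w, hw, hw1, hwz, hw2⟩ := hex
      obtain ⟨w', hw', hw'1, hw'z, hw'v⟩ := exists_twist hv hzK hz2 (hvinv W inferInstance) hWcomm hfixW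
        hw hw1 hwz hw2
      obtain ⟨q, hq, hq1, hqz, hqv⟩ := exists_twist hv hzK hz2 (hvinv Q hQn) hQcomm hfixQ
        (hιmem (QuaternionGroup.a 1)) (fun h => ha1 (hι (h.trans (map_one ι).symm)))
        (fun h => ha1z (hι h)) (hQsq _ (hιmem _))
      have hy : v * (q * w') * v = q * w' := by
        calc v * (q * w') * v = v * q * (v * v) * w' * v := by rw [hv]; group
          _ = v * q * v * (v * w' * v) := by group
          _ = q * z * (w' * z) := by rw [hqv, hw'v]
          _ = q * (w' * z) * z := by rw [mul_assoc q z, ← hzK, ← mul_assoc]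
          _ = q * w' := by rw [mul_assoc, mul_assoc w', hz2, mul_one]
      have hqW : q ∉ W := fun h => (hWL q h (hQL hq)).elim hq1 hqz
      have hcw : Commute q w' := mem_centralizer_iff.1 hw' q hq
      have hvw : ∀ y, (y = v ∨ y = z * v) → y = q * w' → False := by
        intro y hy' hyq
        have hyw : Commute y w' := by rw [hyq]; exact hcw.mul_left (Commute.refl w')
        have hvw' : Commute v w' := by
          rcases hy' with rfl | rfl
          · exact hyw
          · have h1 : Commute z w' := (hzK w').symm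
            have := h1.inv_left.mul_left hyw
            rwa [inv_mul_cancel_left] at this
        rw [hvw'.eq, mul_assoc, hv, mul_one] at hw'v
        exact hz1 (mul_eq_left.1 hw'v.symm)
      rcases hCv _ hy with h | h | h | h
      · exact hqW (by rw [mul_eq_one_iff_eq_inv.1 h]; exact W.inv_mem hw')
      · exact hqW (by rw [eq_mul_inv_of_mul_eq h]; exact W.mul_mem hzW (W.inv_mem hw'))
      · exact hvw v (Or.inl rfl) h.symm
      · exact hvw (z * v) (Or.inr rfl) h.symm
    · push Not at hex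
      -- the squares form a subgroup of odd order
      set Z := (zpowers z).subgroupOf W
      haveI : Z.Normal := ⟨fun a ha g => by
        rw [mem_subgroupOf, Subgroup.coe_mul, Subgroup.coe_mul, Subgroup.coe_inv] at *
        obtain ⟨k, hk⟩ := ha
        have : Commute (g : K) (a : K) := hk ▸ (show Commute (g : K) z from hzK _).zpow_right k
        rw [this.eq, mul_inv_cancel_right]
        exact ⟨k, hk⟩⟩
      have hmemZ : ∀ {a : K}, a ∈ zpowers z → a = 1 ∨ a = z := by
        rintro _ ⟨k, rfl⟩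
        rcases Int.even_or_odd k with ⟨j, hj⟩ | ⟨j, hj⟩
        · left
          show z ^ k = 1
          rw [hj, ← two_mul, zpow_mul, zpow_two, hz2, one_zpow]
        · right
          show z ^ k = z
          rw [hj, zpow_add_one, zpow_mul, zpow_two, hz2, one_zpow, one_mul]
      set m := Nat.card (↥W ⧸ Z)
      have hm : ¬ 2 ∣ m := fun h2 => by
        obtain ⟨y, hy⟩ := exists_prime_orderOf_dvd_card' (G := ↥W ⧸ Z) 2 h2
        obtain ⟨w, rfl⟩ := QuotientGroup.mk_surjective y
        have h := pow_orderOf_eq_one (QuotientGroup.mk w : ↥W ⧸ Z)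
        rw [hy, pow_two, ← QuotientGroup.mk_mul, QuotientGroup.eq_one_iff] at h
        have hne : (QuotientGroup.mk w : ↥W ⧸ Z) ≠ 1 := fun h' => by rw [h', orderOf_one] at hy; omega
        rw [Ne, QuotientGroup.eq_one_iff] at hne
        have hw1 : (w : K) ≠ 1 := fun h' => hne (by
          show (w : K) ∈ zpowers z
          rw [h']; exact one_mem _)
        have hwz : (w : K) ≠ z := fun h' => hne (by
          show (w : K) ∈ zpowers z
          rw [h']; exact mem_zpowers z)
        exact (hmemZ (h : ((w * w : W) : K) ∈ zpowers z)).elim (hex w w.2 hw1 hwz).1 (hex w w.2 hw1 hwz).2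
      have hpm : ∀ x ∈ W, (x * x) ^ m = 1 := by
        intro x hx
        have h := pow_card_eq_one' (x := (QuotientGroup.mk (⟨x, hx⟩ : W) : ↥W ⧸ Z))
        rw [← QuotientGroup.mk_pow, QuotientGroup.eq_one_iff] at h
        have h' : x ^ m = 1 ∨ x ^ m = z := hmemZ (h : ((⟨x, hx⟩ ^ m : W) : K) ∈ zpowers z)
        rw [(Commute.refl x).mul_pow]
        rcases h' with h' | h' <;> rw [h']
        · exact one_mul 1
        · exact hz2
      have hsqc : ∀ x ∈ W, ∀ y ∈ W, Commute (x * x) (y * y) := by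
        intro x hx y hy
        have h1 : Commute (x * x) y := by
          rcases hWcomm x hx y hy with h | h
          · have hc : Commute x y := by
              rw [mul_inv_eq_one, mul_inv_eq_iff_eq_mul] at h
              exact h
            exact hc.mul_left hc
          · rw [mul_inv_eq_iff_eq_mul, mul_inv_eq_iff_eq_mul] at h
            show x * x * y = y * (x * x)
            calc x * x * y = x * (x * y) := mul_assoc _ _ _
              _ = x * (z * y * x) := by rw [h]
              _ = z * (x * y) * x := by rw [← mul_assoc, ← mul_assoc, hzK, mul_assoc z x y]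
              _ = z * (z * y * x) * x := by rw [h]
              _ = y * (x * x) := by rw [mul_assoc z y, ← mul_assoc z z, hz2, one_mul, mul_assoc]
        exact h1.mul_right h1
      set H := closure {a : K | ∃ x ∈ W, a = x * x} with hH
      haveI : H.Normal := ⟨fun a ha g => by
        induction ha using closure_induction with
        | mem a ha =>
          obtain ⟨x, hx, rfl⟩ := ha
          exact subset_closure ⟨g * x * g⁻¹, (inferInstance : W.Normal).conj_mem x hx g, by group⟩
        | one => rw [mul_one, mul_inv_cancel]; exact one_mem _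
        | mul a b _ _ ha hb =>
          rw [show g * (a * b) * g⁻¹ = g * a * g⁻¹ * (g * b * g⁻¹) by group]
          exact mul_mem ha hb
        | inv a _ ha =>
          rw [show g * a⁻¹ * g⁻¹ = (g * a * g⁻¹)⁻¹ by group]
          exact inv_mem ha⟩
      haveI := Subgroup.isMulCommutative_closure (k := {a : K | ∃ x ∈ W, a = x * x}) (by
        rintro _ ⟨x, hx, rfl⟩ _ ⟨y, hy, rfl⟩
        exact hsqc x hx y hy)
      have hexp : ∀ a ∈ H, a ^ m = 1 := by
        intro a ha
        induction ha using closure_induction with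
        | mem a ha => obtain ⟨x, hx, rfl⟩ := ha; exact hpm x hx
        | one => exact one_pow m
        | mul a b ha hb h1 h2 =>
          have hc : Commute a b := congrArg Subtype.val
            ((inferInstance : IsMulCommutative H).is_comm.comm ⟨a, ha⟩ ⟨b, hb⟩)
          rw [hc.mul_pow, h1, h2, one_mul]
        | inv a _ h1 => rw [inv_pow, h1, inv_one]
      have hHodd : (Nat.card H).Coprime 2 := by
        rw [Nat.coprime_two_right, ← Nat.not_even_iff_odd]
        intro heven
        obtain ⟨a, ha⟩ := exists_prime_orderOf_dvd_card' (G := H) 2 heven.two_dvd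
        exact hm (ha ▸ orderOf_dvd_of_pow_eq_one (Subtype.ext (hexp a a.2)))
      have hH1 : H = ⊥ := le_bot_iff.1 (hO ▸ Cfsg.Lib.Core.le_pPrimeCore hHodd)
      have hsq0 : x0 * x0 = 1 := mem_bot.1 (hH1 ▸ subset_closure ⟨x0, hx0, rfl⟩)
      exact (hex x0 hx0 hx01 hx0z).1 hsq0
  -- the order
  have hCQ : centralizer (Q : Set K) ≤ Q := fun x hx => by
    rcases hW x hx with rfl | rfl
    · exact one_mem Q
    · exact hzQ
  have h48 : Nat.card K = 48 := by
    have h1 := card_mul_index (act Q eQ).ker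
    rw [card_ker hCQ, index_ker] at h1
    have h2 := card_subgroup_dvd_card (act Q eQ).range
    rw [Nat.card_perm, Nat.card_fin] at h2
    have h3 : Nat.card K ∣ 48 := h1 ▸ Nat.mul_dvd_mul_left 2 h2
    have h24 : 24 ∣ Nat.card K := hL24 ▸ card_subgroup_dvd_card L
    exact Nat.dvd_antisymm h3 ((show 48 = Nat.lcm 16 24 by decide) ▸ Nat.lcm_dvd h16 h24)
  exact iso_gl h48 Q eQ hCQ v hv fun h => hvL (hQL h)

end Cfsg.Lib.Perm.SubThree
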