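import Mathlib

/-!
# A transfer by parity: conjugates of an involution in a subgroup of index twice an odd number
-/

set_option autoImplicit false
set_option linter.style.haveILetI false
set_option linter.unusedSectionVars false

namespace Cfsg.Lib.Perm.SubThree

open Subgroup

universe u

variable {G : Type u} [Group G] [Finite G]

/-- The fixed points of `z` on `G ⧸ M`, counted through its conjugates in `M`. -/
theorem card_fixed_mul (z : G) (M : Subgroup G) :
    Nat.card {q : G ⧸ M // z • q = q} * Nat.card M =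
      Nat.card {x : M // IsConj z (x : G)} * Nat.card (centralizer ({z} : Set G)) := by
  set C := centralizer ({z} : Set G)
  have h1 : Nat.card {g : G // g⁻¹ * z * g ∈ M} = Nat.card {q : G ⧸ M // z • q = q} * Nat.card M := by
    rw [mul_comm, ← Nat.card_prod]
    refine Nat.card_congr (Equiv.trans (Equiv.subtypeEquivRight fun g => ?_)
      (QuotientGroup.preimageMkEquivSubgroupProdSet M {q : G ⧸ M | z • q = q}))
    show g⁻¹ * z * g ∈ M ↔ z • (g : G ⧸ M) = (g : G ⧸ M)
    rw [MulAction.Quotient.smul_coe, smul_eq_mul, eq_comm, QuotientGroup.eq, mul_assoc]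
  have hrep : ∀ x : {x : M // IsConj z (x : G)}, ∃ g : G, g⁻¹ * z * g = (x : M) := by
    rintro ⟨x, hx⟩
    obtain ⟨g, hg⟩ := isConj_iff.1 hx
    exact ⟨g⁻¹, by rw [inv_inv]; exact hg⟩
  choose r hr using hrep
  rw [← h1, ← Nat.card_prod]
  let f : {x : M // IsConj z (x : G)} × C → {g : G // g⁻¹ * z * g ∈ M} := fun p =>
    ⟨(p.2 : G) * r p.1, by
      have hc := mem_centralizer_singleton_iff.1 p.2.2
      have : ((p.2 : G) * r p.1)⁻¹ * z * ((p.2 : G) * r p.1) = (r p.1)⁻¹ * z * r p.1 := by
        calc ((p.2 : G) * r p.1)⁻¹ * z * ((p.2 : G) * r p.1)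
            = (r p.1)⁻¹ * ((p.2 : G)⁻¹ * (z * p.2)) * r p.1 := by group
          _ = (r p.1)⁻¹ * ((p.2 : G)⁻¹ * (p.2 * z)) * r p.1 := by rw [hc]
          _ = _ := by group
      rw [this, hr]
      exact (p.1 : M).2⟩
  refine (Nat.card_eq_of_bijective f ⟨?_, ?_⟩).symm
  · rintro ⟨x, c⟩ ⟨y, d⟩ h
    have h' : (c : G) * r x = (d : G) * r y := congrArg Subtype.val h
    have hkey : ∀ (c : C) (x : {x : M // IsConj z (x : G)}),
        ((c : G) * r x)⁻¹ * z * ((c : G) * r x) = ((x : M) : G) := fun c x => by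
      have hc := mem_centralizer_singleton_iff.1 c.2
      calc ((c : G) * r x)⁻¹ * z * ((c : G) * r x)
          = (r x)⁻¹ * ((c : G)⁻¹ * (z * c)) * r x := by group
        _ = (r x)⁻¹ * ((c : G)⁻¹ * (c * z)) * r x := by rw [hc]
        _ = (r x)⁻¹ * z * r x := by group
        _ = _ := hr x
    have hxy : x = y := Subtype.ext (Subtype.ext (by rw [← hkey c x, h', hkey d y]))
    subst hxy
    exact Prod.ext rfl (Subtype.ext (mul_right_cancel h'))
  · rintro ⟨g, hg⟩
    let x : {x : M // IsConj z (x : G)} :=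
      ⟨⟨g⁻¹ * z * g, hg⟩, isConj_iff.2 ⟨g⁻¹, by rw [inv_inv]⟩⟩
    refine ⟨(x, ⟨g * (r x)⁻¹, mem_centralizer_singleton_iff.2 ?_⟩), Subtype.ext (inv_mul_cancel_right g _)⟩
    have h := hr x
    calc g * (r x)⁻¹ * z = g * ((r x)⁻¹ * z * r x) * (r x)⁻¹ := by group
      _ = g * (g⁻¹ * z * g) * (r x)⁻¹ := by rw [h]
      _ = z * (g * (r x)⁻¹) := by group

/-- If every conjugate of `z` in the 2-group `M` has centralizer of order at most four in `M`, and is
properly moved, their number is divisible by four. -/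
theorem four_dvd_card_conjugates (z : G) (M : Subgroup G) (hM : Nat.card M = 16)
    (h : ∀ u ∈ M, IsConj z u → Nat.card ↥(M ⊓ centralizer ({u} : Set G)) ≤ 4) :
    4 ∣ Nat.card {x : M // IsConj z (x : G)} := by
  classical
  let act : MulAction M {x : M // IsConj z (x : G)} :=
    { smul := fun m x => ⟨m * x.1 * m⁻¹, x.2.trans (isConj_iff.2 ⟨m, by simp⟩)⟩
      one_smul := fun x => Subtype.ext (by show (1 : M) * x.1 * (1 : M)⁻¹ = x.1; simp)
      mul_smul := fun a b x => Subtype.ext (by
        show (a * b) * x.1 * (a * b)⁻¹ = a * (b * x.1 * b⁻¹) * a⁻¹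
        group) }
  rw [Nat.card_congr (MulAction.selfEquivSigmaOrbitsQuotientStabilizer M {x : M // IsConj z (x : G)})]
  haveI := Fintype.ofFinite (MulAction.orbitRel.Quotient M {x : M // IsConj z (x : G)})
  rw [Nat.card_sigma]
  refine Finset.dvd_sum fun ω _ => ?_
  set x := ω.out with hx
  set St := MulAction.stabilizer M x
  rw [← index_eq_card]
  have hle : Nat.card St ≤ 4 := by
    refine le_trans ?_ (h _ x.1.2 x.2)
    refine Nat.card_le_card_of_injective
      (fun m : St => (⟨((m : M) : G), (m : M).2, mem_centralizer_singleton_iff.2 ?_⟩ :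
        ↥(M ⊓ centralizer ({((x.1 : M) : G)} : Set G))))
      fun a b hab => Subtype.ext (Subtype.ext (congrArg Subtype.val hab :))
    have h2 : ((m : M) : G) * ((x.1 : M) : G) * ((m : M) : G)⁻¹ = ((x.1 : M) : G) :=
      congrArg (fun y : {x : M // IsConj z (x : G)} => ((y.1 : M) : G)) m.2
    exact mul_inv_eq_iff_eq_mul.1 h2
  have hcard := card_mul_index St
  rw [hM] at hcard
  have hd : St.index ∣ 2 ^ 4 := ⟨Nat.card St, by rw [mul_comm]; exact hcard.symm⟩
  obtain ⟨j, -, hj⟩ := (Nat.dvd_prime_pow Nat.prime_two).1 hd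
  rw [hj] at hcard ⊢
  rcases j with _ | _ | j
  · simp at hcard; omega
  · norm_num at hcard; omega
  · exact ⟨2 ^ j, by rw [pow_add]; ring⟩

/-- **Parity.** In a simple group no involution fixes a multiple of four cosets of a subgroup of index
twice an odd number. -/
theorem false_of_fixed [IsSimpleGroup G] (h2 : 2 < Nat.card G) {z : G} (hz : z * z = 1)
    (M : Subgroup G) {m : ℕ} (hm : Odd m) (hidx : M.index = 2 * m)
    (hf : 4 ∣ Nat.card {q : G ⧸ M // z • q = q}) : False := by
  classical
  haveI := Fintype.ofFinite (G ⧸ M)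
  set φ := MulAction.toPermHom G (G ⧸ M) with hφ
  have hsq : φ z ^ 2 = 1 := by rw [← map_pow, pow_two, hz, map_one]
  have h22 : ∀ n ∈ (φ z).cycleType, n = 2 := fun n hn => by
    have h3 := Equiv.Perm.two_le_of_mem_cycleType hn
    have h4 : n ∣ 2 := (Equiv.Perm.dvd_of_mem_cycleType hn).trans (orderOf_dvd_of_pow_eq_one hsq)
    have h5 := Nat.le_of_dvd (by norm_num) h4
    omega
  have hsum := (φ z).sum_cycleType
  rw [Multiset.eq_replicate_card.2 h22, Multiset.sum_replicate, smul_eq_mul] at hsum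
  have hcompl : (φ z).supportᶜ.card = Nat.card {q : G ⧸ M // z • q = q} := by
    rw [Nat.card_eq_fintype_card, Fintype.card_subtype]
    congr 1
    ext q
    simp only [Finset.mem_compl, Equiv.Perm.mem_support, not_not, Finset.mem_filter, Finset.mem_univ,
      true_and]
    rfl
  have htot : (φ z).support.card + (φ z).supportᶜ.card = 2 * m := by
    rw [Finset.card_add_card_compl, ← Nat.card_eq_fintype_card, ← index_eq_card, hidx]
  have hodd : Odd (φ z).cycleType.card := by
    obtain ⟨c, hc⟩ := hf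
    obtain ⟨j, hj⟩ := hm
    rw [Nat.odd_iff]
    omega
  have hsign : Equiv.Perm.sign (φ z) = -1 := by
    rw [Equiv.Perm.sign_of_cycleType, Multiset.eq_replicate_card.2 h22, Multiset.sum_replicate,
      Multiset.card_replicate, smul_eq_mul]
    refine Odd.neg_one_pow ?_
    obtain ⟨j, hj⟩ := hodd
    exact ⟨3 * j + 1, by omega⟩
  set σ : G →* ℤˣ := Equiv.Perm.sign.comp φ with hσ
  rcases σ.normal_ker.eq_bot_or_eq_top with hk | hk
  · have h1 := Nat.card_le_card_of_injective σ ((MonoidHom.ker_eq_bot_iff σ).1 hk)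
    rw [Nat.card_eq_fintype_card (α := ℤˣ), Fintype.card_units_int] at h1
    omega
  · have h1 : σ z = 1 := by rw [← MonoidHom.mem_ker, hk]; exact mem_top z
    rw [hσ, MonoidHom.comp_apply, hsign] at h1
    exact absurd h1 (by decide)

end Cfsg.Lib.Perm.SubThree
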