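import Cfsg.Agent.Lib.Perm.SuborbitThree.Small
import Cfsg.Agent.Lib.Perm.SuborbitThree.Parity

/-!
# Suborbits of length three: `n = 4` does not occur inside a simple group
-/

set_option autoImplicit false
set_option linter.style.haveILetI false
set_option linter.unusedSectionVars false

namespace Cfsg.Lib.Perm.SubThree

open Subgroup Cfsg.Lib.Perm.TW Cfsg.Lib.Perm.Window
open scoped Pointwise

universe u

variable {G : Type u} [Group G] [Finite G]

omit [Finite G] in
/-- A subgroup covered by two subgroups lies in one of them. -/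
theorem le_or_le_of_forall {E A B : Subgroup G} (h : ∀ x ∈ E, x ∈ A ∨ x ∈ B) : E ≤ A ∨ E ≤ B := by
  by_contra hcon
  push Not at hcon
  obtain ⟨⟨a, haE, haA⟩, ⟨b, hbE, hbB⟩⟩ :=
    (⟨Set.not_subset.1 hcon.1, Set.not_subset.1 hcon.2⟩ : (∃ a ∈ E, a ∉ A) ∧ ∃ b ∈ E, b ∉ B)
  have haB : a ∈ B := (h a haE).resolve_left haA
  have hbA : b ∈ A := (h b hbE).resolve_right hbB
  rcases h _ (E.mul_mem haE hbE) with h' | h'
  · exact haA (by simpa using A.mul_mem h' (A.inv_mem hbA))
  · exact hbB (by simpa using B.mul_mem (B.inv_mem haB) h')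

namespace Setup

variable {t : ℤ → G} {T : Subgroup G}

theorem four_comm (hS : Setup 4 t T) :
    (∀ k : ℕ, k < 3 → Commute (t 0) (t k)) ∧ ∀ i : ℤ, ¬ Commute (t i) (t (i + 3)) := by
  obtain ⟨lam, -, -, hlam, hne, hup, hlo⟩ := hS.vertex.exists_lam
  have hl : lam = 3 := by
    by_contra h
    have := hlo (by omega)
    omega
  subst hl
  refine ⟨hlam, fun i h => hne (by norm_num) ?_⟩
  have := hS.vertex.toSeq.shift _ _ (-i) h
  rwa [add_neg_cancel, show i + 3 + -i = 3 by ring] at this

/-- An element of a point stabilizer commuting with both ends. -/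
theorem four_core (hS : Setup 4 t T) (s : ℤ) {z : G} (hz : z ∈ seg t s (4 + 1))
    (h0 : Commute z (t s)) (h4 : Commute z (t (s + 4))) : z = 1 ∨ z = t (s + 2) := by
  obtain ⟨hlam, hne⟩ := hS.four_comm
  have hV := hS.vertex
  have hSq := hV.toSeq
  have hz1 : z ∈ seg t (s + 1) (2 + 1) := hV.mem_core s hz h0 h4
  obtain ⟨y, hy, hcase⟩ := seg_cases_right hSq hlam (s + 1) (l := 2) (by norm_num) hz1
  have hy0 : Commute y (t s) :=
    seg_le_centralizer (fun k a b => hSq.comm_of hlam (by omega) (by omega)) hy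
  have hzy : z = y := by
    refine hcase.resolve_right fun h => hne s ?_
    have := hy0.inv_left.mul_left h0
    rw [h, inv_mul_cancel_left, show s + 1 + ((2 : ℕ) : ℤ) = s + 3 by omega] at this
    exact this.symm
  subst hzy
  obtain ⟨w, hw, hcase'⟩ := hSq.seg_cases hlam (s + 1) (l := 1) (by norm_num) hy
  rw [show s + 1 + 1 = s + 2 by ring] at hw
  have hw4 : Commute w (t (s + 4)) :=
    seg_le_centralizer (fun k a b => hSq.comm_of hlam (by omega) (by omega)) hw
  have hzw : z = w := by
    refine hcase'.resolve_right fun h => hne (s + 1) ?_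
    have := h4.mul_left hw4.inv_left
    rw [h, mul_inv_cancel_right] at this
    rwa [show s + 1 + 3 = s + 4 by ring]
  rw [seg_one] at hw
  rcases zpowers_sq (hSq.sq (s + 2)) hw with h | h
  · exact Or.inl (hzw.trans h)
  · exact Or.inr (hzw.trans h)

/-- The middle involution and its centralizer. -/
theorem centralizer_four (hS : Setup 4 t T) (s : ℤ) :
    centralizer ({t (s + 2)} : Set G) = seg t s (4 + 1) := by
  obtain ⟨hlam, -⟩ := hS.four_comm
  have hV := hS.vertex
  have key : centralizer ({t 2} : Set G) = seg t 0 (4 + 1) := by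
    have hle : seg t 0 (4 + 1) ≤ centralizer ({t 2} : Set G) := fun x hx =>
      mem_centralizer_singleton_iff.2
        (seg_le_centralizer (fun k h1 h2 => hV.toSeq.comm_of hlam (by omega) (by omega)) hx).eq
    refine (eq_or_lt_of_le hle).elim Eq.symm fun hlt => ?_
    exfalso
    have htop := hS.prim.coatom.2 _ hlt
    have hc : t 2 ∈ centralizer (T : Set G) := mem_centralizer_iff.2 fun y _ =>
      (mem_centralizer_singleton_iff.1 (htop ▸ mem_top y))
    rw [hS.cent, mem_bot] at hc
    exact hV.toSeq.ne_one hV.pos 2 hc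
  obtain ⟨h, hh⟩ := hV.conj
  have e1 : t (s + 2) = h ^ s * t 2 * (h ^ s)⁻¹ := by rw [← hh 2 s, add_comm]
  refine le_antisymm (fun x hx => ?_) (fun x hx => ?_)
  · have hx' : (h ^ s)⁻¹ * x * h ^ s ∈ seg t 0 (4 + 1) := by
      rw [← key, mem_centralizer_singleton_iff]
      have hxc := mem_centralizer_singleton_iff.1 hx
      rw [e1] at hxc
      calc (h ^ s)⁻¹ * x * h ^ s * t 2 = (h ^ s)⁻¹ * (x * (h ^ s * t 2 * (h ^ s)⁻¹)) * h ^ s := by group
        _ = (h ^ s)⁻¹ * (h ^ s * t 2 * (h ^ s)⁻¹ * x) * h ^ s := by rw [hxc]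
        _ = t 2 * ((h ^ s)⁻¹ * x * h ^ s) := by group
    have hle : seg t 0 (4 + 1) ≤ (seg t s (4 + 1)).comap (MulAut.conj (h ^ s)).toMonoidHom :=
      seg_le fun k h1 h2 => by
        show h ^ s * t k * (h ^ s)⁻¹ ∈ seg t s (4 + 1)
        rw [← hh]; exact mem_seg t (by omega) (by omega)
    have := hle hx'
    have e2 : (MulAut.conj (h ^ s)).toMonoidHom ((h ^ s)⁻¹ * x * h ^ s) = x := by
      show h ^ s * ((h ^ s)⁻¹ * x * h ^ s) * (h ^ s)⁻¹ = x
      group
    rwa [mem_comap, e2] at this
  · exact mem_centralizer_singleton_iff.2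
      (seg_le_centralizer (fun k h1 h2 => hV.toSeq.comm_of hlam (by omega) (by omega)) hx).eq

theorem commute_center (hS : Setup 4 t T) {x y : G} (hx : x ∈ seg t 1 4) (hy : y ∈ seg t 2 2) :
    Commute x y := by
  obtain ⟨hlam, -⟩ := hS.four_comm
  exact (seg_le_centralizer (fun k a b => (seg_le_centralizer
    (fun j c d => hS.vertex.toSeq.comm_of hlam (by omega) (by omega)) hx).symm) hy).symm

/-- An involution of the two-point stabilizer lies in one of the two elementary groups of order eight. -/
theorem sq_one_cases (hS : Setup 4 t T) {x : G} (hx : x ∈ seg t 1 4) (hx2 : x * x = 1) :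
    x ∈ seg t 1 3 ∨ x ∈ seg t 2 3 := by
  obtain ⟨hlam, hne⟩ := hS.four_comm
  have hV := hS.vertex
  have hSq := hV.toSeq
  have hn : zpowers (t 4) ≤ normalizer (seg t 1 3 : Set G) :=
    zpowers_le.2 (hV.core_normalized 0 (mem_seg t (by norm_num) (by norm_num)))
  rw [seg_split, ← SetLike.mem_coe,
    show (1 : ℤ) + ((3 : ℕ) : ℤ) = 4 by norm_num, coe_mul_of_right_le_normalizer_left _ _ hn] at hx
  obtain ⟨e, he, a, ha, rfl⟩ := hx
  rcases zpowers_sq (hSq.sq 4) ha with rfl | rfl
  · left; simpa using he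
  right
  have he2 : e * e = 1 := hV.sq_of_mem hlam le_rfl he
  obtain ⟨y, hy, hc⟩ := hSq.seg_cases hlam 1 (l := 2) (by norm_num) he
  norm_num at hy
  rcases hc with h | h
  · rw [h]
    exact mul_mem (seg_mono t le_rfl (by norm_num) hy) (mem_seg t (by norm_num) (by norm_num))
  · exfalso
    refine hne 1 ?_
    have hy4 : Commute y (t 4) :=
      (hS.commute_center (mem_seg t (by norm_num) (by norm_num)) hy).symm
    have hc4 : Commute e (t 4) := commute_of_comm_eq_one he2 (hSq.sq 4) (by
      have : e * t 4 * (e * t 4) = 1 := hx2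
      simpa [mul_assoc] using this)
    have := hc4.mul_left hy4.inv_left
    rw [h, mul_inv_cancel_right] at this
    norm_num
    exact this

/-- An element normalizing the two-point stabilizer but not fixing the middle involution. -/
theorem swap_facts (hS : Setup 4 t T) {x : G} (hxN : x ∈ normalizer (seg t 1 4 : Set G))
    (hxK : x ∉ seg t 1 4) :
    (seg t 1 3).map (MulAut.conj x).toMonoidHom = seg t 2 3 ∧
      (seg t 2 3).map (MulAut.conj x).toMonoidHom = seg t 1 3 ∧ x * x ∈ seg t 1 4 ∧
      x * t 2 * x⁻¹ = t 3 := by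
  obtain ⟨hlam, hne⟩ := hS.four_comm
  have hV := hS.vertex
  have hSq := hV.toSeq
  have hpos := hV.pos
  have hsub : ∀ s : ℤ, s = 1 ∨ s = 2 → seg t s 3 ≤ seg t 1 4 := fun s hs =>
    seg_mono t (by omega) (by omega)
  have himg : ∀ (s : ℤ), s = 1 ∨ s = 2 → ∀ y ∈ normalizer (seg t 1 4 : Set G),
      (seg t s 3).map (MulAut.conj y).toMonoidHom = seg t 1 3 ∨
        (seg t s 3).map (MulAut.conj y).toMonoidHom = seg t 2 3 := by
    intro s hs y hy
    have h8 : ∀ r : ℤ, Nat.card (seg t r 3) = 8 := fun r => hV.card r 3 (by norm_num)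
    have hc : Nat.card ↥((seg t s 3).map (MulAut.conj y).toMonoidHom) = 8 := by
      rw [card_map_of_injective (MulAut.conj y).injective, h8]
    rcases le_or_le_of_forall (E := (seg t s 3).map (MulAut.conj y).toMonoidHom)
      (A := seg t 1 3) (B := seg t 2 3) (by
        rintro _ ⟨e, he, rfl⟩
        refine hS.sq_one_cases ((mem_normalizer_iff.1 hy e).1 (hsub s hs he)) ?_
        rw [← map_mul, hV.sq_of_mem hlam le_rfl he, map_one]) with h | h
    · exact Or.inl (eq_of_le_of_card_ge h (by rw [hc, h8]))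
    · exact Or.inr (eq_of_le_of_card_ge h (by rw [hc, h8]))
  have hNs : ∀ s : ℤ, s = 0 ∨ s = 1 →
      normalizer (seg t (s + 1) 3 : Set G) = seg t s (4 + 1) := fun s _ =>
    le_antisymm (hV.loc s _ (seg_mono t (by omega) (by omega)) (hV.core_normalized s) (fun h => by
      have := hV.card (s + 1) 3 (by norm_num)
      rw [h, card_bot] at this
      norm_num at this)) (hV.core_normalized s)
  have hN1 : normalizer (seg t 1 3 : Set G) = seg t 0 (4 + 1) := by
    have := hNs 0 (Or.inl rfl); rwa [zero_add] at this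
  have hN2 : normalizer (seg t 2 3 : Set G) = seg t 1 (4 + 1) := by
    have := hNs 1 (Or.inr rfl); norm_num at this ⊢; exact this
  have hfix : ∀ y ∈ normalizer (seg t 1 4 : Set G),
      (seg t 1 3).map (MulAut.conj y).toMonoidHom = seg t 1 3 → y ∈ seg t 1 4 := by
    intro y hy h
    have hyH : y ∈ seg t 0 (4 + 1) := hN1 ▸ Cfsg.Lib.Core.mem_normalizer_iff_map_conj.2 h
    exact hV.self_normalizing 0 1 (Or.inr rfl) hyH hy
  have h1 : (seg t 1 3).map (MulAut.conj x).toMonoidHom = seg t 2 3 :=
    (himg 1 (Or.inl rfl) x hxN).resolve_left fun h => hxK (hfix x hxN h)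
  have h2 : (seg t 2 3).map (MulAut.conj x).toMonoidHom = seg t 1 3 := by
    refine (himg 2 (Or.inr rfl) x hxN).resolve_right fun h => ?_
    have he : seg t 1 3 = seg t 2 3 := map_injective (f := (MulAut.conj x).toMonoidHom)
      (MulAut.conj x).injective (h1.trans h.symm)
    exact hne 1 (seg_le_centralizer (fun k a b => hSq.comm_of hlam (by omega) (by omega))
      (he.symm ▸ mem_seg t (k := 4) (by norm_num) (by norm_num) : t 4 ∈ seg t 1 3)).symm
  refine ⟨h1, h2, hfix _ (mul_mem hxN hxN) ?_, ?_⟩
  · rw [Cfsg.Lib.Core.map_conj_mul, h1, h2]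
  · have hwH : seg t 1 (4 + 1) ≤ (seg t 0 (4 + 1)).map (MulAut.conj x).toMonoidHom := by
      rw [← hN1, ← hN2, ← h1, ← map_equiv_normalizer_eq (seg t 1 3) (MulAut.conj x)]
    have hcomm : ∀ y ∈ seg t 1 (4 + 1), Commute (x * t 2 * x⁻¹) y := by
      intro y hy
      obtain ⟨a, ha, rfl⟩ := hwH hy
      have : Commute (t 2) a := (seg_le_centralizer
        (fun k c d => hSq.comm_of hlam (by omega) (by omega)) ha).symm
      exact this.map (MulAut.conj x)
    have hmem : x * t 2 * x⁻¹ ∈ seg t 1 (4 + 1) :=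
      seg_mono t le_rfl (by norm_num)
        ((mem_normalizer_iff.1 hxN (t 2)).1 (mem_seg t (by norm_num) (by norm_num)))
    rcases hS.four_core 1 hmem (hcomm _ (mem_seg t le_rfl (by norm_num)))
      (hcomm _ (mem_seg t (by norm_num) (by norm_num))) with h | h
    · exact absurd (conj_eq_one_iff.1 h) (hSq.ne_one hpos 2)
    · norm_num at h; exact h

/-- **`n = 4` is impossible inside a simple group.** -/
theorem false_four_inner (hS : Setup 4 t T) (hT : T = ⊤) : False := by
  haveI : Fact (Nat.Prime 2) := ⟨Nat.prime_two⟩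
  obtain ⟨hs, hna⟩ := hS.isSimpleGroup_of_top hT
  haveI := hs
  obtain ⟨hlam, hne⟩ := hS.four_comm
  have hV := hS.vertex
  have hSq := hV.toSeq
  have hpos := hV.pos
  set K := seg t 1 4 with hKd
  have hK16 : Nat.card K = 16 := hV.card 1 4 le_rfl
  have hm : ∀ k : ℤ, 1 ≤ k → k ≤ 4 → t k ∈ K := fun k a b => mem_seg t a (by omega)
  have hne23 : t 2 ≠ t 3 := fun h => by
    refine hne 0 ?_
    norm_num
    rw [← h]
    exact hSq.comm_of hlam (by norm_num) (by norm_num)
  -- the Sylow subgroup is larger than the two-point stabilizer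
  obtain ⟨S, hKS⟩ := (IsPGroup.of_card (p := 2) (n := 4) (by rw [hK16]; rfl) : IsPGroup 2 K).exists_le_sylow
  have hKlt : ¬ (S : Subgroup G) ≤ K := by
    intro hle
    have hSK : (S : Subgroup G) = K := le_antisymm hle hKS
    obtain ⟨h, hh⟩ := hV.conj
    have e23 : t 3 = h * t 2 * h⁻¹ := by
      have := hh 2 1
      norm_num at this
      exact this
    have hc : ∀ k : ℤ, k = 2 ∨ k = 3 → t k ∈ centralizer ((S : Subgroup G) : Set G) := fun k hk =>
      mem_centralizer_iff.2 fun y hy => by
        rw [SetLike.mem_coe, hSK] at hy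
        exact (hS.commute_center hy (mem_seg t (by omega) (by omega))).eq
    obtain ⟨y, hy, he⟩ := Sylow.conj_eq_normalizer_conj_of_mem_centralizer S (t 2) h⁻¹ (hc 2 (Or.inl rfl))
      (by rw [inv_inv, ← e23]; exact hc 3 (Or.inr rfl))
    rw [inv_inv, ← e23] at he
    have hyN : y ∈ normalizer (K : Set G) := by rw [← hSK]; exact hy
    by_cases hyK : y ∈ K
    · refine hne23 ?_
      rw [he]
      have := hS.commute_center hyK (mem_seg t (k := 2) (s := 2) (l := 2) le_rfl (by norm_num))
      rw [mul_assoc, ← this.eq, inv_mul_cancel_left]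
    · obtain ⟨-, -, hy2, -⟩ := hS.swap_facts hyN hyK
      have hyp : IsPGroup 2 (zpowers y) := by
        have h32 : y ^ (2 ^ 5) = 1 := by
          have h1 := pow_card_eq_one' (G := K) (x := ⟨y * y, hy2⟩)
          rw [hK16] at h1
          have h1' : (y * y) ^ 16 = 1 := congrArg Subtype.val h1
          rw [← pow_two, ← pow_mul] at h1'
          exact h1'
        obtain ⟨j, -, hj⟩ := (Nat.dvd_prime_pow Nat.prime_two).1 (orderOf_dvd_of_pow_eq_one h32)
        exact IsPGroup.of_card (n := j) (by rw [Nat.card_zpowers, hj])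
      have hsp : IsPGroup 2 ↥(zpowers y ⊔ K) := hyp.to_sup_of_normal_right'
        (IsPGroup.of_card (p := 2) (n := 4) (by rw [hK16]; rfl)) (zpowers_le.2 hyN)
      have := S.3 hsp (hSK.le.trans le_sup_right)
      exact hyK (hSK ▸ this ▸ mem_sup_left (mem_zpowers y))
  obtain ⟨w, hwN, hwS, hwK⟩ : ∃ w ∈ normalizer (K : Set G), w ∈ (S : Subgroup G) ∧ w ∉ K := by
    by_contra hcon
    push Not at hcon
    exact hKlt (le_of_normalizer_inf_le S.2 hKS fun x hx => hcon x hx.1 hx.2)
  obtain ⟨hw1, hw2, hww, hwt⟩ := hS.swap_facts hwN hwK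
  -- the order of a Sylow subgroup is thirty-two
  set R := (S : Subgroup G) ⊓ normalizer (K : Set G) with hRd
  have hKR : K ≤ R := le_inf hKS le_normalizer
  have hwR : w ∈ R := ⟨hwS, hwN⟩
  have hprod : ∀ x ∈ R, x ∉ K → w⁻¹ * x ∈ K := by
    intro x hx hxK
    obtain ⟨hx1, -, -, -⟩ := hS.swap_facts hx.2 hxK
    by_contra hc
    obtain ⟨h3, -, -, -⟩ := hS.swap_facts (mul_mem (inv_mem hwN) hx.2) hc
    rw [Cfsg.Lib.Core.map_conj_mul, hx1, ← hw1, ← Cfsg.Lib.Core.map_conj_mul, inv_mul_cancel] at h3
    rw [show (MulAut.conj (1 : G)).toMonoidHom = MonoidHom.id G by ext; simp, Subgroup.map_id] at h3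
    exact hne 1 (seg_le_centralizer (fun k a b => hSq.comm_of hlam (by omega) (by omega))
      (by rw [h3, hw1]; exact mem_seg t (by norm_num) (by norm_num) : t 4 ∈ seg t 1 3)).symm
  have hR32 : Nat.card R = 32 := by
    have hidx : (K.subgroupOf R).index = 2 := by
      refine index_eq_two_iff.2 ⟨⟨w, hwR⟩, fun b => ?_⟩
      simp only [mem_subgroupOf, Subgroup.coe_mul]
      by_cases hb : (b : G) ∈ K
      · refine Or.inr ⟨hb, fun h => hwK ?_⟩
        have := K.mul_mem (K.inv_mem hb) h
        rwa [inv_mul_cancel_left] at this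
      · refine Or.inl ⟨?_, hb⟩
        obtain ⟨b, hbR⟩ := b
        have h1 := hprod b hbR hb
        have h2 : b * w = w * ((w⁻¹ * b) * (w * w)) * w⁻¹ := by group
        rw [h2]
        exact (mem_normalizer_iff.1 hwN _).1 (K.mul_mem h1 hww)
    have h := card_mul_index (K.subgroupOf R)
    rw [Nat.card_congr (subgroupOfEquivOfLe hKR).toEquiv, hK16, hidx] at h
    exact h.symm
  -- the only elementary subgroups of order eight
  have hout : ∀ u ∈ R, u ∉ K → ∀ e ∈ seg t 1 3, u * e * u⁻¹ = e → e ∈ seg t 2 2 := by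
    intro u hu huK e he hue
    obtain ⟨hu1, -, -, -⟩ := hS.swap_facts hu.2 huK
    have he2 : e ∈ seg t 2 3 := by rw [← hu1]; exact ⟨e, he, hue⟩
    have := hV.inter 1
    norm_num at this
    obtain ⟨y, hy, hc⟩ := hSq.seg_cases hlam 1 (l := 2) (by norm_num) he
    norm_num at hy
    rcases hc with h | h
    · rwa [h]
    · exfalso
      refine hne 1 ?_
      have h14 : Commute e (t 4) :=
        seg_le_centralizer (fun k a b => hSq.comm_of hlam (by omega) (by omega)) he2
      have hy4 : Commute y (t 4) := (hS.commute_center (hm 4 (by norm_num) le_rfl) hy).symm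
      have h5 := h14.mul_left hy4.inv_left
      rw [h, mul_inv_cancel_right] at h5
      norm_num
      exact h5
  have hout2 : ∀ u ∈ R, u ∉ K → ∀ e ∈ seg t 2 3, u * e * u⁻¹ = e → e ∈ seg t 2 2 := by
    intro u hu huK e he hue
    obtain ⟨-, hu2, -, -⟩ := hS.swap_facts hu.2 huK
    exact hout u hu huK e (by rw [← hu2]; exact ⟨e, he, hue⟩) hue
  have helem : ∀ E : Subgroup G, E ≤ R → Nat.card E = 8 → (∀ e ∈ E, e * e = 1) → E ≤ K := by
    intro E hER hE8 hE2 u hu
    by_contra huK
    have hcomm : ∀ e ∈ E, u * e * u⁻¹ = e := fun e he => by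
      refine Window.conj_eq_of_commute (commute_of_comm_eq_one (hE2 u hu) (hE2 e he) ?_)
      simpa [mul_assoc] using hE2 _ (E.mul_mem hu he)
    have hsub : E ⊓ K ≤ seg t 2 2 := fun e he => by
      rcases hS.sq_one_cases he.2 (hE2 e he.1) with h | h
      · exact hout u (hER hu) huK e h (hcomm e he.1)
      · exact hout2 u (hER hu) huK e h (hcomm e he.1)
    have h3 : (E ⊓ K).relIndex E ≤ 2 := by
      rw [inf_relIndex_left]
      have h := relIndex_le_of_le_right hER (H := K) (by
        rw [relIndex]; exact index_ne_zero_of_finite)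
      have h' : K.relIndex R = 2 := by
        have h := Cfsg.Lib.Core.card_mul_relIndex (H := K) (K := R) hKR
        rw [hK16, hR32] at h
        omega
      omega
    have h4 : 4 ≤ Nat.card ↥(E ⊓ K) := by
      have := card_mul_index ((E ⊓ K).subgroupOf E)
      rw [Nat.card_congr (subgroupOfEquivOfLe (inf_le_left : E ⊓ K ≤ E)).toEquiv, hE8] at this
      have h3' : ((E ⊓ K).subgroupOf E).index ≤ 2 := h3
      have := Nat.mul_le_mul_left (Nat.card ↥(E ⊓ K)) h3'
      omega
    have hZ : E ⊓ K = seg t 2 2 := eq_of_le_of_card_ge hsub (by rw [hV.card 2 2 (by norm_num)]; exact h4)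
    have h2E : t 2 ∈ E := (hZ.ge (mem_seg t le_rfl (by norm_num))).1
    obtain ⟨-, -, -, hu2⟩ := hS.swap_facts (hER hu).2 huK
    exact hne23 ((hcomm _ h2E).symm.trans hu2)
  have hSR : (S : Subgroup G) = R := by
    refine le_antisymm (le_of_normalizer_inf_le S.2 inf_le_left ?_) inf_le_left
    rintro x ⟨hxR, hxS⟩
    refine ⟨hxS, ?_⟩
    have himg : ∀ s : ℤ, s = 1 ∨ s = 2 → (seg t s 3).map (MulAut.conj x).toMonoidHom ≤ K := by
      intro s hs
      refine helem _ ?_ (by rw [card_map_of_injective (MulAut.conj x).injective, hV.card s 3 (by norm_num)]; rfl) ?_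
      · rintro _ ⟨e, he, rfl⟩
        exact (mem_normalizer_iff.1 hxR e).1
          (hKR ((seg_mono t (by omega) (by omega) : seg t s 3 ≤ K) he))
      · rintro _ ⟨e, he, rfl⟩
        rw [← map_mul, hV.sq_of_mem hlam le_rfl he, map_one]
    refine Cfsg.Lib.Core.mem_normalizer_iff_map_conj.2 (eq_of_le_of_card_ge ?_
      (card_map_of_injective (MulAut.conj x).injective).ge)
    rw [map_le_iff_le_comap, hKd]
    refine seg_le fun k a b => ?_
    show x * t k * x⁻¹ ∈ K
    rcases (show k ≤ 3 ∨ k = 4 by omega) with hk | rfl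
    · exact himg 1 (Or.inl rfl) ⟨t k, mem_seg t a (by omega), rfl⟩
    · exact himg 2 (Or.inr rfl) ⟨t 4, mem_seg t (by norm_num) (by norm_num), rfl⟩
  -- the commutator
  set d := t 1 * t 4 * t 1 * t 4 with hd
  have hdZ : d ∈ seg t 2 2 := by
    have := hSq.commutator_mem 1 (l := 3) (by norm_num) (by norm_num)
    norm_num at this
    exact this
  have hd1 : d ≠ 1 := fun h => by
    refine hne 1 ?_
    norm_num
    exact commute_of_comm_eq_one (hSq.sq 1) (hSq.sq 4) h
  set a := w * t 1 * w⁻¹ with had
  have ha2 : a * a = 1 := by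
    rw [had, show w * t 1 * w⁻¹ * (w * t 1 * w⁻¹) = w * (t 1 * t 1) * w⁻¹ by group, hSq.sq, mul_one,
      mul_inv_cancel]
  have haE : a ∈ seg t 2 3 := by rw [← hw1]; exact ⟨t 1, mem_seg t le_rfl (by norm_num), rfl⟩
  have hZ2 : ∀ y ∈ seg t 2 2, y * y = 1 := fun y hy => hV.sq_of_mem hlam (by norm_num) hy
  have ha4 : ∃ y ∈ seg t 2 2, a = y * t 4 := by
    obtain ⟨y, hy, hc⟩ := seg_cases_right hSq hlam 2 (l := 2) (by norm_num) haE
    norm_num at hc
    refine ⟨y, hy, hc.resolve_left fun h => ?_⟩
    refine hne 1 ?_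
    -- `t 1` would be central
    have hc4 : Commute (w * t 1 * w⁻¹) (w * t 4 * w⁻¹) := by
      rw [← had, h]
      exact (hS.commute_center ((mem_normalizer_iff.1 hwN _).1 (hm 4 (by norm_num) le_rfl)) hy).symm
    norm_num
    have := hc4.map (MulAut.conj w⁻¹)
    simpa [mul_assoc] using this
  have hwd : w * d * w⁻¹ = d := by
    obtain ⟨y, hy, hay⟩ := ha4
    have hbE : w * t 4 * w⁻¹ ∈ seg t 1 (2 + 1) := by
      show w * t 4 * w⁻¹ ∈ seg t 1 3
      rw [← hw2]; exact ⟨t 4, mem_seg t (by norm_num) (by norm_num), rfl⟩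
    obtain ⟨y', hy', hc'⟩ := hSq.seg_cases hlam 1 (l := 2) (by norm_num) hbE
    norm_num at hy'
    have hb : w * t 4 * w⁻¹ = t 1 * y' := hc'.resolve_left fun h => by
      refine hne 1 ?_
      have hc4 : Commute (w * t 1 * w⁻¹) (w * t 4 * w⁻¹) := by
        rw [h]
        exact hS.commute_center ((mem_normalizer_iff.1 hwN _).1 (hm 1 le_rfl (by norm_num))) hy'
      norm_num
      have := hc4.map (MulAut.conj w⁻¹)
      simpa [mul_assoc] using this
    have c1 : ∀ x ∈ K, Commute x y := fun x hx => hS.commute_center hx hy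
    have c2 : ∀ x ∈ K, Commute x y' := fun x hx => hS.commute_center hx hy'
    have h4K := hm 4 (by norm_num) le_rfl
    have h1K := hm 1 le_rfl (by norm_num)
    have hyy : Commute (t 4 * t 1) (y * y') := (c1 _ (K.mul_mem h4K h1K)).mul_right (c2 _ (K.mul_mem h4K h1K))
    have hyK : Commute y y' := c2 y ((seg_mono t (by norm_num) (by norm_num) : seg t 2 2 ≤ K) hy)
    have e1 : y * t 4 * (t 1 * y') = t 4 * t 1 * (y * y') := by
      rw [← (c1 (t 4) h4K).eq]
      calc t 4 * y * (t 1 * y') = t 4 * (y * t 1) * y' := by group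
        _ = t 4 * (t 1 * y) * y' := by rw [(c1 (t 1) h1K).eq]
        _ = t 4 * t 1 * (y * y') := by group
    have e2 : (y * y') * (y * y') = 1 :=
      hZ2 _ ((seg t 2 2).mul_mem hy hy')
    calc w * d * w⁻¹ = (w * t 1 * w⁻¹) * (w * t 4 * w⁻¹) * ((w * t 1 * w⁻¹) * (w * t 4 * w⁻¹)) := by
          rw [hd]; group
      _ = (y * t 4 * (t 1 * y')) * (y * t 4 * (t 1 * y')) := by rw [← had, hay, hb]
      _ = (t 4 * t 1 * (y * y')) * (t 4 * t 1 * (y * y')) := by rw [e1]
      _ = t 4 * t 1 * (t 4 * t 1) * ((y * y') * (y * y')) := hyy.symm.mul_mul_mul_comm _ _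
      _ = t 4 * t 1 * (t 4 * t 1) := by rw [e2, mul_one]
      _ = d⁻¹ := by rw [hd]; simp [mul_assoc, hSq.inv_eq]
      _ = d := inv_eq_of_mul_eq_one_left (hZ2 d hdZ)
  have hZcases : ∀ y ∈ seg t 2 2, y = 1 ∨ y = t 2 ∨ y = t 3 ∨ y = t 2 * t 3 := by
    intro y hy
    obtain ⟨v, hv, hc⟩ := hSq.seg_cases hlam 2 (l := 1) (by norm_num) hy
    norm_num at hv
    rw [seg_one] at hv
    rcases zpowers_sq (hSq.sq 3) hv with rfl | rfl <;> rcases hc with rfl | rfl <;> simp
  have hd23 : d = t 2 * t 3 := by
    have hwt3 : w * t 3 * w⁻¹ ≠ t 3 := fun h => hne23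
      ((MulAut.conj w).injective (show w * t 2 * w⁻¹ = w * t 3 * w⁻¹ by rw [h, hwt]))
    rcases hZcases d hdZ with h | h | h | h
    · exact absurd h hd1
    · rw [h, hwt] at hwd; exact absurd hwd.symm hne23
    · rw [h] at hwd; exact absurd hwd hwt3
    · exact h
  -- `d` is no conjugate of `t 2`
  have hdnot : ¬ IsConj (t 2) d := by
    intro hc
    have hle : R ≤ centralizer ({d} : Set G) := by
      intro x hx
      rw [mem_centralizer_singleton_iff]
      by_cases hxK : x ∈ K
      · exact (hS.commute_center hxK hdZ).eq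
      · have h1 := (hS.commute_center (hprod x hx hxK) hdZ).eq
        have h2 : Commute w d := mul_inv_eq_iff_eq_mul.1 hwd
        have h3 : Commute (w * (w⁻¹ * x)) d := h2.mul_left h1
        rw [mul_inv_cancel_left] at h3
        exact h3.eq
    obtain ⟨g, hg⟩ := isConj_iff.1 hc
    have hd' := card_dvd_of_le hle
    haveI := Fintype.ofFinite G
    have h48 : Nat.card (centralizer ({t 2} : Set G)) = 48 := by
      have h := hS.centralizer_four 0
      rw [zero_add] at h
      rw [h, hV.top]; rfl
    rw [← hg, Cfsg.Lib.MEleven.card_centralizer_conj, h48, hR32] at hd'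
    norm_num at hd'
  -- the dihedral group inside the two-point stabilizer
  set r := t 1 * a with hr
  have hrd : r * r = d := by
    obtain ⟨y, hy, hay⟩ := ha4
    have c1 : Commute (t 1) y := hS.commute_center (hm 1 le_rfl (by norm_num)) hy
    have c4 : Commute (t 4) y := hS.commute_center (hm 4 (by norm_num) le_rfl) hy
    have hrr : r = t 1 * t 4 * y := by
      rw [hr, hay, ← c4.eq, mul_assoc]
    calc r * r = t 1 * t 4 * y * (t 1 * t 4 * y) := by rw [hrr]
      _ = t 1 * t 4 * (t 1 * t 4) * (y * y) := ((c1.mul_left c4).symm.mul_mul_mul_comm _ _)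
      _ = d := by rw [hZ2 y hy, mul_one, hd]; group
  have hrord : orderOf r = 4 := by
    refine orderOf_eq_prime_pow (p := 2) (n := 1) ?_ ?_
    · rw [pow_one, pow_two, hrd]; exact hd1
    · rw [show (2 : ℕ) ^ (1 + 1) = 2 * 2 from rfl, pow_mul, pow_two r, hrd, pow_two, hZ2 d hdZ]
  set K0 := closure ({r, t 1} : Set G) with hK0d
  have hrK0 : r ∈ K0 := subset_closure (Or.inl rfl)
  have h1K0 : t 1 ∈ K0 := subset_closure (Or.inr rfl)
  have haK0 : a ∈ K0 := by
    have := K0.mul_mem h1K0 hrK0
    rwa [hr, ← mul_assoc, hSq.sq, one_mul] at this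
  have hdK0 : d ∈ K0 := hrd ▸ K0.mul_mem hrK0 hrK0
  have hinvr : t 1 * r * (t 1)⁻¹ = r⁻¹ := by
    rw [hr, mul_inv_rev, hSq.inv_eq, inv_eq_of_mul_eq_one_left ha2, ← mul_assoc, hSq.sq, one_mul]
  have h1r : t 1 ∉ zpowers r := by
    rintro ⟨k, hk⟩
    replace hk : r ^ k = t 1 := hk
    have hc : Commute (t 1) r := hk ▸ (Commute.refl r).zpow_left k
    rw [Window.conj_eq_of_commute hc] at hinvr
    have : r * r = 1 := by
      nth_rewrite 2 [hinvr]; exact mul_inv_cancel r
    exact hd1 (hrd ▸ this)
  have hK08 : Nat.card K0 = 8 := by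
    obtain ⟨e⟩ := Cfsg.Lib.TwoGroup.equiv_dihedral (hSq.sq 1) hinvr h1r
    rw [Nat.card_congr e.toEquiv, DihedralGroup.nat_card, hrord]
  have haK : a ∈ K := (seg_mono t (by norm_num) (by norm_num) : seg t 2 3 ≤ K) haE
  have hK0K : K0 ≤ K := (closure_le _).2 (by
    rintro x (rfl | rfl)
    · exact K.mul_mem (hm 1 le_rfl (by norm_num)) haK
    · exact hm 1 le_rfl (by norm_num))
  have h2K0 : t 2 ∉ K0 := by
    intro h2
    have h3 : t 3 ∈ K0 := by
      have h := K0.mul_mem (K0.inv_mem h2) hdK0
      rwa [hd23, inv_mul_cancel_left] at h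
    have h4 : t 4 ∈ K0 := by
      obtain ⟨y, hy, hay⟩ := ha4
      have hyK0 : y ∈ K0 := by
        rcases hZcases y hy with rfl | rfl | rfl | rfl
        · exact K0.one_mem
        · exact h2
        · exact h3
        · exact K0.mul_mem h2 h3
      have h := K0.mul_mem (K0.inv_mem hyK0) haK0
      rwa [hay, inv_mul_cancel_left] at h
    have : K ≤ K0 := seg_le fun k a' b' => by
      have hk : k = 1 ∨ k = 2 ∨ k = 3 ∨ k = 4 := by omega
      rcases hk with rfl | rfl | rfl | rfl
      · exact h1K0
      · exact h2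
      · exact h3
      · exact h4
    have := card_le_of_le this
    omega
  have hK0idx : (K0.subgroupOf K).index = 2 := by
    have h := card_mul_index (K0.subgroupOf K)
    rw [Nat.card_congr (subgroupOfEquivOfLe hK0K).toEquiv, hK08, hK16] at h
    omega
  have hK0n : K ≤ normalizer (K0 : Set G) :=
    normalizer_of_index_two hK0K (by rw [hK16, hK08])
  have hwa : w * a * w⁻¹ = w * w * t 1 * (w * w)⁻¹ := by rw [had]; group
  have hwK0 : w ∈ normalizer (K0 : Set G) := by
    refine Cfsg.Lib.Core.mem_normalizer_iff_map_conj.2 (eq_of_le_of_card_ge ?_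
      (card_map_of_injective (MulAut.conj w).injective).ge)
    rw [map_le_iff_le_comap, hK0d, closure_le]
    have h1 : w * t 1 * w⁻¹ ∈ K0 := haK0
    have h2 : w * a * w⁻¹ ∈ K0 := by
      rw [hwa]; exact (mem_normalizer_iff.1 (hK0n hww) _).1 h1K0
    rintro x (rfl | rfl)
    · show MulAut.conj w r ∈ K0
      rw [hr, map_mul]; exact K0.mul_mem h1 h2
    · exact h1
  -- the elements of `K0`
  have hK0E : ∀ x ∈ K0, x ∈ seg t 1 3 → x = 1 ∨ x = d ∨ x = t 1 ∨ x = t 1 * d := by
    intro x hx hxE
    obtain ⟨y, hy, hc⟩ := hSq.seg_cases hlam 1 (l := 2) (by norm_num) hxE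
    norm_num at hy
    have hyK0 : y ∈ K0 := by
      rcases hc with rfl | rfl
      · exact hx
      · simpa using K0.mul_mem (K0.inv_mem h1K0) hx
    have hy1 : y = 1 ∨ y = d := by
      rcases hZcases y hy with h | h | h | h
      · exact Or.inl h
      · exact absurd (h ▸ hyK0) h2K0
      · exfalso
        refine h2K0 ?_
        have := K0.mul_mem hdK0 (h ▸ hyK0)
        rwa [hd23, mul_assoc, hSq.sq, mul_one] at this
      · exact Or.inr (hd23 ▸ h)
    rcases hc with rfl | rfl <;> rcases hy1 with rfl | rfl <;> simp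
  have hK0all : ∀ x ∈ K0, x ∈ seg t 1 3 ∨ x ∈ seg t 2 3 ∨ x = r ∨ x = r * d := by
    intro x hx
    have hn : zpowers (t 4) ≤ normalizer (seg t 1 3 : Set G) :=
      zpowers_le.2 (hV.core_normalized 0 (mem_seg t (by norm_num) (by norm_num)))
    have hxK : x ∈ seg t 1 (3 + 1) := hK0K hx
    rw [seg_split, ← SetLike.mem_coe,
      show (1 : ℤ) + ((3 : ℕ) : ℤ) = 4 by norm_num, coe_mul_of_right_le_normalizer_left _ _ hn] at hxK
    obtain ⟨e, he, v, hv, rfl⟩ := hxK
    obtain ⟨y, hy, hay⟩ := ha4
    rcases zpowers_sq (hSq.sq 4) hv with rfl | rfl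
    · left; simpa using he
    · have hyE : y ∈ seg t 1 3 := seg_mono t (by norm_num) (by norm_num) hy
      have hcy : Commute e y := hS.commute_center (seg_mono t le_rfl (by norm_num) he) hy
      have h4a : t 4 = y * a := by rw [hay, ← mul_assoc, hZ2 y hy, one_mul]
      have hey : e * y ∈ K0 := by
        have h := K0.mul_mem hx (K0.inv_mem haK0)
        show e * y ∈ K0
        rwa [show (fun x1 x2 => x1 * x2) e (t 4) * a⁻¹ = e * y by
          show e * t 4 * a⁻¹ = e * y; rw [h4a]; group] at h
      have hx' : e * t 4 = e * y * a := by rw [h4a, mul_assoc]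
      show e * t 4 ∈ seg t 1 3 ∨ e * t 4 ∈ seg t 2 3 ∨ e * t 4 = r ∨ e * t 4 = r * d
      rw [hx']
      rcases hK0E _ hey ((seg t 1 3).mul_mem he hyE) with h | h | h | h <;> rw [h]
      · right; left; rw [one_mul]; exact haE
      · right; left
        exact (seg t 2 3).mul_mem (seg_mono t le_rfl (by norm_num) hdZ) haE
      · right; right; left; rw [hr]
      · right; right; right
        rw [hr]
        exact (mul_assoc (t 1) d a).trans ((congrArg (t 1 * ·) (hS.commute_center haK hdZ).eq.symm).trans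
          (mul_assoc (t 1) a d).symm)
  have hdc : ∀ x ∈ K, Commute x d := fun x hx => hS.commute_center hx hdZ
  -- `w * w` lies in `K0`
  have hwwK0 : w * w ∈ K0 := by
    by_contra hcon
    have h2K : t 2 ∈ K := hm 2 (by norm_num) (by norm_num)
    obtain ⟨k, hk, hkk⟩ : ∃ k ∈ K0, w * w = t 2 * k := by
      refine ⟨t 2 * (w * w), ?_, by rw [← mul_assoc, hSq.sq, one_mul]⟩
      exact ((Subgroup.mul_mem_iff_of_index_two hK0idx (a := (⟨t 2, h2K⟩ : K)) (b := ⟨w * w, hww⟩)).2
        (iff_of_false h2K0 hcon) :)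
    have hkw : w * k * w⁻¹ = d * k := by
      have h1 : w * (w * w) * w⁻¹ = w * w := by group
      rw [hkk, show w * (t 2 * k) * w⁻¹ = w * t 2 * w⁻¹ * (w * k * w⁻¹) by group, hwt] at h1
      calc w * k * w⁻¹ = t 3 * (t 3 * (w * k * w⁻¹)) := by rw [← mul_assoc, hSq.sq, one_mul]
        _ = t 3 * t 2 * k := by rw [h1, mul_assoc]
        _ = d * k := by rw [hd23, (hSq.comm_of hlam (i := 3) (j := 2) (by norm_num) (by norm_num)).eq]
    have hdZ1 : d ∈ seg t 1 3 := seg_mono t (by norm_num) (by norm_num) hdZ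
    have hdZ2 : d ∈ seg t 2 3 := seg_mono t le_rfl (by norm_num) hdZ
    have hZfix : k ∈ seg t 1 3 → k ∈ seg t 2 3 → False := by
      intro h1 h2
      have hk' : k = 1 ∨ k = d := by
        rcases hK0E k hk h1 with h | h | h | h
        · exact Or.inl h
        · exact Or.inr h
        all_goals
          exfalso
          refine hne 1 ?_
          norm_num
          have h4 : Commute k (t 4) :=
            seg_le_centralizer (fun j a b => hSq.comm_of hlam (by omega) (by omega)) h2
        · rwa [h] at h4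
        · have hd4 : Commute d (t 4) := (hdc _ (hm 4 (by norm_num) le_rfl)).symm
          have h5 := h4.mul_left hd4.inv_left
          rwa [h, mul_inv_cancel_right] at h5
      rcases hk' with rfl | rfl
      · rw [mul_one, mul_one, mul_inv_cancel] at hkw; exact hd1 hkw.symm
      · rw [hwd, hZ2 d hdZ] at hkw; exact hd1 hkw
    have hwr : w * r * w⁻¹ = r := by
      have e1 : w * r * w⁻¹ = a * (w * w * t 1 * (w * w)⁻¹) := by rw [hr, ← hwa, had]; group
      have hc2 : ∀ x ∈ K, t 2 * x * t 2 = x := fun x hx => by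
        rw [← (hS.commute_center hx (mem_seg t (s := 2) (k := 2) le_rfl (by norm_num))).eq, mul_assoc,
          hSq.sq, mul_one]
      have e2 : w * w * t 1 * (w * w)⁻¹ = k * t 1 * k⁻¹ := by
        rw [hkk, mul_inv_rev, hSq.inv_eq]
        have := hc2 (k * t 1 * k⁻¹) (K.mul_mem (K.mul_mem (hK0K hk) (hm 1 le_rfl (by norm_num))) (K.inv_mem (hK0K hk)))
        calc t 2 * k * t 1 * (k⁻¹ * t 2) = t 2 * (k * t 1 * k⁻¹) * t 2 := by group
          _ = k * t 1 * k⁻¹ := this
      rcases hK0all k hk with h | h | h | h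
      · exact (hZfix h (by
          have h' : w * k * w⁻¹ ∈ seg t 2 3 := by rw [← hw1]; exact ⟨k, h, rfl⟩
          rw [hkw] at h'
          simpa using (seg t 2 3).mul_mem ((seg t 2 3).inv_mem hdZ2) h')).elim
      · exact (hZfix (by
          have h' : w * k * w⁻¹ ∈ seg t 1 3 := by rw [← hw2]; exact ⟨k, h, rfl⟩
          rw [hkw] at h'
          simpa using (seg t 1 3).mul_mem ((seg t 1 3).inv_mem hdZ1) h') h).elim
      all_goals
        have hrt : r * t 1 * r⁻¹ = d * t 1 := by
          calc r * t 1 * r⁻¹ = r * (t 1 * r⁻¹ * (t 1)⁻¹) * t 1 := by group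
            _ = r * (t 1 * r * (t 1)⁻¹)⁻¹ * t 1 := by group
            _ = r * r * t 1 := by rw [hinvr, inv_inv]
            _ = d * t 1 := by rw [hrd]
        have hrK : r ∈ K := hK0K hrK0
        have e3 : k * t 1 * k⁻¹ = d * t 1 := by
          rw [h]
          first
            | exact hrt
            | (calc r * d * t 1 * (r * d)⁻¹ = r * (d * t 1 * d⁻¹) * r⁻¹ := by group
                _ = r * t 1 * r⁻¹ := by rw [← (hdc _ (hm 1 le_rfl (by norm_num))).eq, mul_inv_cancel_right]
                _ = d * t 1 := hrt)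
        rw [e1, e2, e3, ← mul_assoc, (hdc a haK).eq, mul_assoc]
        have e4 : a * t 1 = r⁻¹ := by
          rw [hr, mul_inv_rev, inv_eq_of_mul_eq_one_left ha2, hSq.inv_eq]
        rw [e4, ← hrd, mul_inv_cancel_right]
    rcases hK0all k hk with h | h | h | h
    · exact hZfix h (by
        have h' : w * k * w⁻¹ ∈ seg t 2 3 := by rw [← hw1]; exact ⟨k, h, rfl⟩
        rw [hkw] at h'
        simpa using (seg t 2 3).mul_mem ((seg t 2 3).inv_mem hdZ2) h')
    · exact hZfix (by
        have h' : w * k * w⁻¹ ∈ seg t 1 3 := by rw [← hw2]; exact ⟨k, h, rfl⟩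
        rw [hkw] at h'
        simpa using (seg t 1 3).mul_mem ((seg t 1 3).inv_mem hdZ1) h') h
    · rw [h, hwr] at hkw
      exact hd1 (mul_eq_right.1 hkw.symm)
    · rw [h, show w * (r * d) * w⁻¹ = w * r * w⁻¹ * (w * d * w⁻¹) by group, hwr, hwd] at hkw
      exact hd1 (mul_eq_right.1 hkw.symm)
  -- the maximal subgroup
  set M := K0 ⊔ zpowers w with hMd
  have hMR : M ≤ R := sup_le (hK0K.trans hKR) (zpowers_le.2 hwR)
  have hMmem : ∀ x ∈ M, x ∈ K0 ∨ x * w⁻¹ ∈ K0 := by
    intro x hx
    rw [hMd, ← SetLike.mem_coe, coe_mul_of_right_le_normalizer_left _ _ (zpowers_le.2 hwK0)] at hx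
    obtain ⟨k, hk, v, ⟨i, hi⟩, rfl⟩ := hx
    subst hi
    obtain ⟨j, hj⟩ | ⟨j, hj⟩ := Int.even_or_odd i
    · left
      show k * w ^ i ∈ K0
      rw [hj, ← two_mul, zpow_mul, zpow_two]
      exact K0.mul_mem hk (K0.zpow_mem hwwK0 j)
    · right
      show k * w ^ i * w⁻¹ ∈ K0
      rw [hj, zpow_add_one, mul_assoc, mul_inv_cancel_right, zpow_mul, zpow_two]
      exact K0.mul_mem hk (K0.zpow_mem hwwK0 j)
  have h2M : t 2 ∉ M := fun h => by
    rcases hMmem _ h with h' | h'
    · exact h2K0 h'
    · refine hwK ?_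
      have := K.mul_mem (K.inv_mem (hK0K h')) (hm 2 (by norm_num) (by norm_num))
      simpa [mul_assoc] using this
  have hMK : M ⊓ K ≤ K0 := fun x hx => (hMmem x hx.1).resolve_right fun h => hwK (by
    have := K.mul_mem (K.inv_mem (hK0K h)) hx.2
    simpa [mul_assoc] using this)
  have hwM : w ∈ M := mem_sup_right (mem_zpowers w)
  have hM16 : Nat.card M = 16 := by
    have hd1' : Nat.card K0 ∣ Nat.card M := card_dvd_of_le le_sup_left
    have hd2' : Nat.card M ∣ Nat.card R := card_dvd_of_le hMR
    rw [hK08] at hd1'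
    rw [hR32] at hd2'
    have hne8 : Nat.card M ≠ 8 := fun h => hwK (hK0K (by
      rw [eq_of_le_of_card_ge (le_sup_left : K0 ≤ M) (by rw [hK08]; exact h.le)]; exact hwM))
    have hne32 : Nat.card M ≠ 32 := fun h => h2M (by
      rw [eq_of_le_of_card_ge hMR (by rw [hR32, h])]
      exact hKR (hm 2 (by norm_num) (by norm_num)))
    have hle := Nat.le_of_dvd (by norm_num) hd2'
    obtain ⟨j, -, hj⟩ := (Nat.dvd_prime_pow Nat.prime_two).1 (show Nat.card M ∣ 2 ^ 5 from hd2')
    rw [hj] at hd1' hne8 hne32 hle ⊢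
    have : j ≤ 5 := by
      by_contra h
      have := Nat.pow_le_pow_right (show 1 ≤ 2 by norm_num) (show 6 ≤ j by omega)
      omega
    interval_cases j <;> first | rfl | omega
  -- every conjugate of `t 2` in `M` has a small centralizer there
  have hsmall : ∀ u ∈ M, IsConj (t 2) u → Nat.card ↥(M ⊓ centralizer ({u} : Set G)) ≤ 4 := by
    intro u hu hcu
    have hu2 : u * u = 1 := by
      obtain ⟨g, rfl⟩ := isConj_iff.1 hcu
      rw [show g * t 2 * g⁻¹ * (g * t 2 * g⁻¹) = g * (t 2 * t 2) * g⁻¹ by group, hSq.sq, mul_one,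
        mul_inv_cancel]
    have hu1 : u ≠ 1 := fun h => hSq.ne_one hpos 2 (by
      obtain ⟨g, hg⟩ := isConj_iff.1 hcu
      exact conj_eq_one_iff.1 (hg.trans h))
    by_cases huK : u ∈ K
    · have huK0 : u ∈ K0 := hMK ⟨hu, huK⟩
      obtain ⟨E, hE, hcent⟩ : ∃ s : ℤ, (s = 1 ∨ s = 2) ∧ M ⊓ centralizer ({u} : Set G) ≤ seg t s 3 := by
        have hnZ : u ∉ seg t 2 2 := fun huZ => by
          rcases hK0E u huK0 (seg_mono t (by norm_num) (by norm_num) huZ) with h | h | h | h
          · exact hu1 h
          · exact hdnot (h ▸ hcu)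
          all_goals
            refine hne 1 ?_
            norm_num
            have h4 : Commute u (t 4) := (hS.commute_center (hm 4 (by norm_num) le_rfl) huZ).symm
          · rwa [h] at h4
          · have h5 := h4.mul_left (hdc _ (hm 4 (by norm_num) le_rfl)).symm.inv_left
            rwa [h, mul_inv_cancel_right] at h5
        have key : ∀ x ∈ M, Commute u x → x ∈ K := fun x hx hxu => by
          by_contra hxK
          rcases hS.sq_one_cases huK hu2 with h | h
          · exact hnZ (hout x (hMR hx) hxK u h (Window.conj_eq_of_commute hxu.symm))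
          · exact hnZ (hout2 x (hMR hx) hxK u h (Window.conj_eq_of_commute hxu.symm))
        rcases hS.sq_one_cases huK hu2 with h | h
        · refine ⟨1, Or.inl rfl, fun x hx => ?_⟩
          have hxu : Commute u x := (mem_centralizer_singleton_iff.1 hx.2).symm
          have hn : zpowers (t 4) ≤ normalizer (seg t 1 3 : Set G) :=
            zpowers_le.2 (hV.core_normalized 0 (mem_seg t (by norm_num) (by norm_num)))
          have hxK : x ∈ seg t 1 (3 + 1) := key x hx.1 hxu
          rw [seg_split, ← SetLike.mem_coe,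
            show (1 : ℤ) + ((3 : ℕ) : ℤ) = 4 by norm_num, coe_mul_of_right_le_normalizer_left _ _ hn] at hxK
          obtain ⟨e, he, v, hv, rfl⟩ := hxK
          rcases zpowers_sq (hSq.sq 4) hv with rfl | rfl
          · simpa using he
          · exfalso
            have hue : Commute u e :=
              seg_le_centralizer (fun j a b => (seg_le_centralizer
                (fun i c d => hSq.comm_of hlam (by omega) (by omega)) h).symm) he |>.symm
            have hu4 : Commute u (t 4) := by
              have h5 := hue.inv_right.mul_right hxu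
              rwa [inv_mul_cancel_left] at h5
            obtain ⟨y, hy, hc⟩ := hSq.seg_cases hlam 1 (l := 2) (by norm_num) h
            norm_num at hy
            rcases hc with rfl | rfl
            · exact hnZ hy
            · refine hne 1 ?_
              norm_num
              have h6 := hu4.mul_left (hS.commute_center (hm 4 (by norm_num) le_rfl) hy).symm.inv_left
              rwa [mul_inv_cancel_right] at h6
        · refine ⟨2, Or.inr rfl, fun x hx => ?_⟩
          have hxu : Commute u x := (mem_centralizer_singleton_iff.1 hx.2).symm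
          have hn : zpowers (t 1) ≤ normalizer (seg t 2 3 : Set G) :=
            zpowers_le.2 (hV.core_normalized 1 (mem_seg t (by norm_num) (by norm_num)))
          have hxK : x ∈ seg t 1 (3 + 1) := key x hx.1 hxu
          rw [seg_split', show (1 : ℤ) + 1 = 2 by norm_num, ← SetLike.mem_coe,
            coe_mul_of_left_le_normalizer_right _ _ hn] at hxK
          obtain ⟨v, hv, e, he, rfl⟩ := hxK
          rcases zpowers_sq (hSq.sq 1) hv with rfl | rfl
          · simpa using he
          · exfalso
            have hue : Commute u e :=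
              seg_le_centralizer (fun j a b => (seg_le_centralizer
                (fun i c d => hSq.comm_of hlam (by omega) (by omega)) h).symm) he |>.symm
            have hu4 : Commute u (t 1) := by
              have h5 := hxu.mul_right hue.inv_right
              rwa [mul_inv_cancel_right] at h5
            obtain ⟨y, hy, hc⟩ := seg_cases_right hSq hlam 2 (l := 2) (by norm_num) h
            norm_num at hc
            rcases hc with rfl | rfl
            · exact hnZ hy
            · refine hne 1 ?_
              norm_num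
              have h6 := (hS.commute_center (hm 1 le_rfl (by norm_num)) hy).symm.inv_left.mul_left hu4
              rw [inv_mul_cancel_left] at h6
              exact h6.symm
      have hle : M ⊓ centralizer ({u} : Set G) ≤ M ⊓ seg t E 3 := le_inf inf_le_left hcent
      refine (card_le_of_le hle).trans ?_
      have hd8 := card_dvd_of_le (inf_le_right : M ⊓ seg t E 3 ≤ seg t E 3)
      rw [hV.card E 3 (by norm_num)] at hd8
      obtain ⟨j, hj3, hj⟩ := (Nat.dvd_prime_pow Nat.prime_two).1 hd8
      rw [hj]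
      have hj2 : j ≠ 3 := fun h => h2M (by
        have he := eq_of_le_of_card_ge (inf_le_right : M ⊓ seg t E 3 ≤ seg t E 3)
          (by rw [hj, h, hV.card E 3 (by norm_num)])
        exact (he.ge (mem_seg t (by omega) (by omega)) : t 2 ∈ M ⊓ seg t E 3).1)
      calc 2 ^ j ≤ 2 ^ 2 := Nat.pow_le_pow_right (by norm_num) (by omega)
        _ = 4 := rfl
    · set C := M ⊓ centralizer ({u} : Set G)
      have hfix : ∀ x ∈ C, x ∈ K → x = 1 ∨ x = d := by
        rintro x hx hxK
        have hxK0 : x ∈ K0 := hMK ⟨hx.1, hxK⟩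
        have hux : u * x * u⁻¹ = x :=
          Window.conj_eq_of_commute (mem_centralizer_singleton_iff.1 hx.2).symm
        have hZ : x ∈ seg t 2 2 → x = 1 ∨ x = d := fun hxZ => by
          rcases hZcases x hxZ with h | h | h | h
          · exact Or.inl h
          · exact absurd (h ▸ hxK0) h2K0
          · exfalso
            refine h2K0 ?_
            have := K0.mul_mem hdK0 (h ▸ hxK0)
            rwa [hd23, mul_assoc, hSq.sq, mul_one] at this
          · exact Or.inr (hd23 ▸ h)
        have huR := hMR hu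
        obtain ⟨hu13, hu23, -, -⟩ := hS.swap_facts huR.2 huK
        have hur : u * r * u⁻¹ ≠ r := by
          intro h
          have huK0 : u ∈ normalizer (K0 : Set G) :=
            (sup_le le_normalizer (zpowers_le.2 hwK0) : M ≤ normalizer (K0 : Set G)) hu
          have hb : u * t 1 * u⁻¹ ∈ seg t 2 3 := by
            rw [← hu13]; exact ⟨t 1, mem_seg t le_rfl (by norm_num), rfl⟩
          have hbK0 : u * t 1 * u⁻¹ ∈ K0 := (mem_normalizer_iff.1 huK0 _).1 h1K0
          set b := u * t 1 * u⁻¹ with hbd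
          have hub : u * b * u⁻¹ = t 1 := by
            rw [hbd, show u * (u * t 1 * u⁻¹) * u⁻¹ = (u * u) * t 1 * (u * u)⁻¹ by group, hu2]; group
          have huu : ∀ y, u * (u * y * u⁻¹) * u⁻¹ = y := fun y => by
            rw [show u * (u * y * u⁻¹) * u⁻¹ = (u * u) * y * (u * u)⁻¹ by group, hu2]; group
          have hb2 : b * b = 1 := hV.sq_of_mem hlam le_rfl hb
          have ha' : b = a ∨ b = a * d := by
            have hab : w⁻¹ * b * w ∈ K0 := (mem_normalizer_iff''.1 hwK0 b).1 hbK0
            have habE : w⁻¹ * b * w ∈ seg t 1 3 := by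
              rw [← hw1] at hb
              obtain ⟨e, he, hee⟩ := hb
              rw [← show MulAut.conj w e = b from hee, MulAut.conj_apply]
              simpa [mul_assoc] using he
            have hback : b = w * (w⁻¹ * b * w) * w⁻¹ := by group
            rcases hK0E _ hab habE with h' | h' | h' | h' <;> rw [h'] at hback
            · rw [mul_one, mul_inv_cancel] at hback
              exact absurd (conj_eq_one_iff.1 (hbd.symm.trans hback)) (hSq.ne_one hpos 1)
            · exfalso
              rw [hwd] at hback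
              refine hne 1 ?_
              norm_num
              have h1Z : t 1 ∈ seg t 2 3 := by
                rw [← hu13]
                refine ⟨d, seg_mono t (by norm_num) (by norm_num) hdZ, ?_⟩
                show u * d * u⁻¹ = t 1
                rw [← hback, hub]
              exact seg_le_centralizer (fun j p q => hSq.comm_of hlam (by omega) (by omega)) h1Z
            · exact Or.inl hback
            · right
              rw [hback, show w * (t 1 * d) * w⁻¹ = w * t 1 * w⁻¹ * (w * d * w⁻¹) by group, hwd]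
          -- then `u` inverts `r`
          have hdu : u * d * u⁻¹ = d := by
            rw [← hrd, show u * (r * r) * u⁻¹ = u * r * u⁻¹ * (u * r * u⁻¹) by group, h]
          have hrb : ∃ e, (e = 1 ∨ e = d) ∧ r = t 1 * b * e := by
            rcases ha' with h' | h'
            · exact ⟨1, Or.inl rfl, by rw [h', hr, mul_one]⟩
            · exact ⟨d, Or.inr rfl, by rw [h', hr, mul_assoc, mul_assoc a, hZ2 d hdZ, mul_one]⟩
          obtain ⟨e, he, hre⟩ := hrb
          have hue : u * e * u⁻¹ = e := by
            rcases he with rfl | rfl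
            · rw [mul_one, mul_inv_cancel]
            · exact hdu
          have hec : Commute (t 1 * b) e := by
            rcases he with rfl | rfl
            · exact Commute.one_right _
            · exact hdc _ (K.mul_mem (hm 1 le_rfl (by norm_num)) (hK0K hbK0))
          have e1 : u * r * u⁻¹ = b * t 1 * e := by
            rw [hre, show u * (t 1 * b * e) * u⁻¹ = u * t 1 * u⁻¹ * (u * b * u⁻¹) * (u * e * u⁻¹) by group,
              ← hbd, hub, hue]
          rw [e1, hre, mul_left_inj] at h
          have : r * r = 1 := by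
            have he2 : e * e = 1 := by
              rcases he with rfl | rfl
              · exact one_mul 1
              · exact hZ2 d hdZ
            have e2 : t 1 * b * (b * t 1) = 1 := by
              rw [mul_assoc, ← mul_assoc b, hb2, one_mul, hSq.sq]
            rw [hre, hec.symm.mul_mul_mul_comm, he2, mul_one]
            nth_rewrite 2 [← h]
            exact e2
          exact hd1 (hrd ▸ this)
        rcases hK0all x hxK0 with h | h | h | h
        · exact hZ (hout u huR huK x h hux)
        · exact hZ (hout2 u huR huK x h hux)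
        · exact absurd (h ▸ hux) hur
        · exfalso
          refine hur ?_
          have hdu : u * d * u⁻¹ = d := by
            have e : x * x = d := by
              rw [h, (hdc _ (hK0K hrK0)).symm.mul_mul_mul_comm, hrd, hZ2 d hdZ, mul_one]
            calc u * d * u⁻¹ = u * x * u⁻¹ * (u * x * u⁻¹) := by rw [← e]; group
              _ = d := by rw [hux, e]
          calc u * r * u⁻¹ = u * (r * d) * u⁻¹ * (u * d * u⁻¹)⁻¹ := by group
            _ = r := by rw [← h, hux, hdu, h, mul_inv_cancel_right]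
      have h2 : Nat.card ↥(C ⊓ K) ≤ 2 := by
        classical
        haveI := Fintype.ofFinite ↥(C ⊓ K)
        let φ : ↥(C ⊓ K) → Bool := fun x => decide ((x : G) = 1)
        have : Function.Injective φ := by
          intro x y hxy
          rcases hfix x x.2.1 x.2.2 with hx | hx <;> rcases hfix y y.2.1 y.2.2 with hy | hy <;>
            refine Subtype.ext ?_
          · rw [hx, hy]
          · have hiff : ((x : G) = 1) ↔ ((y : G) = 1) := by simpa [φ] using hxy
            exact absurd (hy.symm.trans (hiff.1 hx)) hd1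
          · have hiff : ((x : G) = 1) ↔ ((y : G) = 1) := by simpa [φ] using hxy
            exact absurd (hx.symm.trans (hiff.2 hy)) hd1
          · rw [hx, hy]
        refine (Nat.card_le_card_of_injective φ this).trans ?_
        simp
      have hi : (C ⊓ K).relIndex C ≤ 2 := by
        rw [inf_relIndex_left]
        have h := relIndex_le_of_le_right (inf_le_left.trans hMR : C ≤ R) (H := K)
          (by rw [relIndex]; exact index_ne_zero_of_finite)
        have h' := Cfsg.Lib.Core.card_mul_relIndex (H := K) (K := R) hKR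
        rw [hK16, hR32] at h'
        have h'' : K.relIndex C ≤ K.relIndex R := h
        omega
      have := card_mul_index ((C ⊓ K).subgroupOf C)
      rw [Nat.card_congr (subgroupOfEquivOfLe (inf_le_left : C ⊓ K ≤ C)).toEquiv] at this
      rw [← this]
      exact Nat.mul_le_mul h2 hi
  -- parity
  have hG2 : 2 < Nat.card G := by
    have := card_le_of_le (le_top : seg t 1 4 ≤ ⊤)
    rw [Subgroup.card_top, hV.card 1 4 le_rfl] at this
    omega
  have hfix := card_fixed_mul (t 2) M
  have hN4 := four_dvd_card_conjugates (t 2) M hM16 hsmall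
  have h48 : Nat.card (centralizer ({t 2} : Set G)) = 48 := by
    have h := hS.centralizer_four 0
    rw [zero_add] at h
    rw [h, hV.top]; rfl
  rw [hM16, h48] at hfix
  refine false_of_fixed hG2 (hSq.sq 2) M (m := (S : Subgroup G).index) ?_ ?_ ?_
  · exact Nat.not_even_iff_odd.1 fun he => S.not_dvd_index he.two_dvd
  · have h1 := card_mul_index M
    have h2 := card_mul_index (S : Subgroup G)
    have hS32 : Nat.card (S : Subgroup G) = 32 := by rw [hSR, hR32]
    rw [hM16, ← h2, hS32] at h1
    omega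
  · obtain ⟨c, hc⟩ := hN4
    rw [hc] at hfix
    exact ⟨3 * c, by omega⟩

end Setup

end Cfsg.Lib.Perm.SubThree
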