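import Mathlib
import Cfsg.Agent.S0033
import Cfsg.Agent.S0205
import Cfsg.Agent.S0563
import Cfsg.Agent.Lib.Core.PSolvable
import Cfsg.Agent.Lib.Group.MinimalNormalFactor
import Cfsg.Agent.Lib.Perm.ThompsonWielandt

/-!
# The socle of an insoluble group with a small maximal core-free subgroup of order `3 * 2 ^ n`
-/

set_option autoImplicit false
set_option linter.style.haveILetI false
set_option linter.unusedSectionVars false

namespace Cfsg.Lib.Perm.SubThree

open Subgroup Cfsg.Lib.Perm.TW
open scoped Pointwise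

universe u

variable {G : Type u} [Group G] [Finite G]

/-- An insoluble group with a maximal subgroup with trivial core. -/
structure Prim (H : Subgroup G) : Prop where
  coatom : IsCoatom H
  core : H.normalCore = ⊥
  insoluble : ¬ Group.IsSolvable G

/-- A simple group has no Sylow subgroup with `N(P) ≤ C(P)`. -/
theorem false_of_normalizer_le_centralizer {T : Type*} [Group T] [Finite T] [IsSimpleGroup T]
    (hna : ¬ IsMulCommutative T) {p : ℕ} [Fact p.Prime] (P : Sylow p T) (hP1 : (P : Subgroup T) ≠ ⊥)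
    (h : normalizer ((P : Subgroup T) : Set T) ≤ centralizer ((P : Subgroup T) : Set T)) : False := by
  have hc := MonoidHom.ker_transferSylow_isComplement' P h
  rcases (MonoidHom.transferSylow P h).normal_ker.eq_bot_or_eq_top with hk | hk <;> rw [hk] at hc
  · have htop : (P : Subgroup T) = ⊤ := isComplement'_bot_left.1 hc
    have hp : IsPGroup p T := by
      have := P.2
      rw [htop] at this
      exact this.of_equiv topEquiv
    haveI := hp.isNilpotent
    exact hna ⟨⟨fun a b => IsSimpleGroup.comm_iff_isSolvable.2 inferInstance a b⟩⟩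
  · exact hP1 (isComplement'_top_left.1 hc)

/-- The same inside an ambient group. -/
theorem false_of_sylow_sub {T P : Subgroup G} [IsSimpleGroup T] (hna : ¬ IsMulCommutative T) {p : ℕ}
    [Fact p.Prime] (hPT : P ≤ T) (hP : IsPGroup p P) (hP1 : P ≠ ⊥)
    (hself : ∀ Q : Subgroup G, Q ≤ T → IsPGroup p Q → P ≤ Q → Q ⊓ normalizer (P : Set G) ≤ P)
    (h : T ⊓ normalizer (P : Set G) ≤ centralizer (P : Set G)) : False := by
  obtain ⟨S, hS⟩ := (hP.of_equiv (subgroupOfEquivOfLe hPT).symm).exists_le_sylow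
  set Q := (S : Subgroup T).map T.subtype with hQ
  have hQp : IsPGroup p Q := S.2.map _
  have hPQ : P ≤ Q := fun x hx => ⟨⟨x, hPT hx⟩, hS hx, rfl⟩
  have hQT : Q ≤ T := map_subtype_le _
  have heq : Q = P := le_antisymm (le_of_normalizer_inf_le hQp hPQ (by
    rw [inf_comm]; exact hself Q hQT hQp hPQ)) hPQ
  refine false_of_normalizer_le_centralizer hna S ?_ ?_
  · intro hb
    exact hP1 (le_bot_iff.1 (heq ▸ (by rw [hQ, hb, Subgroup.map_bot] : Q = ⊥).le))
  · intro x hx
    have hmem : ∀ y : T, y ∈ (S : Subgroup T) ↔ (y : G) ∈ P := fun y => by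
      rw [← heq]
      exact ⟨fun hy => ⟨y, hy, rfl⟩, fun ⟨z, hz, hzy⟩ => Subtype.ext hzy ▸ hz⟩
    have hxN : (x : G) ∈ normalizer (P : Set G) := by
      refine mem_normalizer_iff.2 fun y => ?_
      by_cases hy : y ∈ T
      · have := mem_normalizer_iff.1 hx ⟨y, hy⟩
        rwa [hmem, hmem] at this
      · refine ⟨fun h => absurd (hPT h) hy, fun h => absurd ?_ hy⟩
        have := T.mul_mem (T.mul_mem (T.inv_mem x.2) (hPT h)) x.2
        simpa [mul_assoc] using this
    refine mem_centralizer_iff.2 fun y hy => Subtype.ext ?_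
    exact mem_centralizer_iff.1 (h ⟨x.2, hxN⟩) y ((hmem y).1 hy)

omit [Finite G] in
/-- The subgroup of order `3 * 2 ^ n` is soluble. -/
theorem isSolvable_three_two {K : Type*} [Group K] [Finite K] {n : ℕ} (h : Nat.card K = 3 * 2 ^ n) :
    Group.IsSolvable K := by
  haveI : Fact (Nat.Prime 2) := ⟨Nat.prime_two⟩
  haveI : Fact (Nat.Prime 3) := ⟨Nat.prime_three⟩
  let P : Sylow 2 K := default
  let Q : Sylow 3 K := default
  have hP : Nat.card (P : Subgroup K) = 2 ^ n := by
    rw [P.card_eq_multiplicity, h, Nat.factorization_mul (by norm_num) (by positivity)]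
    simp [Nat.prime_three.factorization, Nat.prime_two.factorization_self]
  have hQ : Nat.card (Q : Subgroup K) = 3 := by
    rw [Q.card_eq_multiplicity, h, Nat.factorization_mul (by norm_num) (by positivity)]
    simp [Nat.prime_two.factorization, Nat.prime_three.factorization_self]
  have hcop : (Nat.card (P : Subgroup K)).Coprime (Nat.card (Q : Subgroup K)) := by
    rw [hP, hQ]; exact Nat.Coprime.pow_left n (by norm_num)
  have hcomp : IsComplement' (P : Subgroup K) (Q : Subgroup K) :=
    isComplement'_of_coprime (by rw [hP, hQ, h, mul_comm]) hcop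
  exact (Cfsg.Agent.S0563.result (P : Subgroup K) (Q : Subgroup K) P.2.isNilpotent Q.2.isNilpotent hcop
    fun g => by
      obtain ⟨⟨a, b⟩, hab⟩ := hcomp.2 g
      exact ⟨a, a.2, b, b.2, hab.symm⟩).1

variable {H : Subgroup G}

omit [Finite G] in
theorem mem_normalizer_inf {X Y : Subgroup G} {x : G} (hX : x ∈ normalizer (X : Set G))
    (hY : x ∈ normalizer (Y : Set G)) : x ∈ normalizer ((X ⊓ Y : Subgroup G) : Set G) :=
  mem_normalizer_iff.2 fun y =>
    ⟨fun h => ⟨(mem_normalizer_iff.1 hX y).1 h.1, (mem_normalizer_iff.1 hY y).1 h.2⟩,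
     fun h => ⟨(mem_normalizer_iff.1 hX y).2 h.1, (mem_normalizer_iff.1 hY y).2 h.2⟩⟩

omit [Finite G] in
theorem mem_normalizer_centralizer {X : Subgroup G} {h : G} (hX : h ∈ normalizer (X : Set G)) :
    h ∈ normalizer ((centralizer (X : Set G) : Subgroup G) : Set G) := by
  have key : ∀ a : G, a ∈ normalizer (X : Set G) → ∀ y ∈ centralizer (X : Set G),
      a * y * a⁻¹ ∈ centralizer (X : Set G) := by
    intro a ha y hy
    refine mem_centralizer_iff.2 fun x hx => ?_
    have hx' : a⁻¹ * x * a ∈ X := (mem_normalizer_iff''.1 ha x).1 hx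
    calc x * (a * y * a⁻¹) = a * ((a⁻¹ * x * a) * y) * a⁻¹ := by group
      _ = a * (y * (a⁻¹ * x * a)) * a⁻¹ := by rw [mem_centralizer_iff.1 hy _ hx']
      _ = a * y * a⁻¹ * x := by group
  refine mem_normalizer_iff.2 fun y => ⟨key h hX y, fun hy => ?_⟩
  have := key h⁻¹ (inv_mem hX) _ hy
  simpa [mul_assoc] using this

namespace Prim

theorem normalizer_eq (hP : Prim H) {X : Subgroup G} (hX : X ≤ H) (hn : H ≤ normalizer (X : Set G))
    (hne : X ≠ ⊥) : normalizer (X : Set G) = H :=
  le_antisymm (selfLocal_of_isCoatom hP.coatom hP.core X hX hn hne) hn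

omit [Finite G] in
theorem not_le (hP : Prim H) {N : Subgroup G} [N.Normal] (hN : N ≠ ⊥) : ¬ N ≤ H := fun h =>
  hN (le_bot_iff.1 (hP.core ▸ normal_le_normalCore.2 h))

omit [Finite G] in
theorem sup_eq_top (hP : Prim H) {N : Subgroup G} [N.Normal] (hN : N ≠ ⊥) : N ⊔ H = ⊤ :=
  hP.coatom.2 _ (lt_of_le_not_ge le_sup_right fun h => hP.not_le hN (le_sup_left.trans h))

omit [Finite G] in
theorem exists_mul (hP : Prim H) {N : Subgroup G} [N.Normal] (hN : N ≠ ⊥) (g : G) :
    ∃ x ∈ N, ∃ h ∈ H, x * h = g := by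
  have hg : g ∈ N ⊔ H := hP.sup_eq_top hN ▸ mem_top g
  rw [← SetLike.mem_coe, coe_mul_of_right_le_normalizer_left N H
    (le_top.trans (normalizer_eq_top_iff.2 inferInstance).ge)] at hg
  obtain ⟨x, hx, h, hh, rfl⟩ := hg
  exact ⟨x, hx, h, hh, rfl⟩

theorem not_solvable (hP : Prim H) (hH : Group.IsSolvable H) {N : Subgroup G} [N.Normal] (hN : N ≠ ⊥) :
    ¬ Group.IsSolvable N := by
  intro hs
  refine hP.insoluble ?_
  haveI : Group.IsSolvable (G ⧸ N) := by
    refine Group.isSolvable_of_surjective (f := (QuotientGroup.mk' N).comp H.subtype) ?_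
    intro q
    obtain ⟨g, rfl⟩ := QuotientGroup.mk'_surjective N q
    obtain ⟨x, hx, h, hh, rfl⟩ := hP.exists_mul hN g
    refine ⟨⟨h, hh⟩, ?_⟩
    rw [MonoidHom.comp_apply, map_mul, (QuotientGroup.eq_one_iff x).2 hx |> fun e =>
      (show QuotientGroup.mk' N x = 1 from e), one_mul]
    rfl
  exact Group.isSolvable_of_ker_le_range N.subtype (QuotientGroup.mk' N)
    (by rw [QuotientGroup.ker_mk', range_subtype])

/-- An insoluble normal subgroup is not regular. -/
theorem inf_ne_bot (hP : Prim H) {n : ℕ} (hcard : Nat.card H = 3 * 2 ^ n) {N : Subgroup G} [hNn : N.Normal]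
    (hN : N ≠ ⊥) : N ⊓ H ≠ ⊥ := by
  haveI : Fact (Nat.Prime 2) := ⟨Nat.prime_two⟩
  intro hreg
  have hHs : Group.IsSolvable H := isSolvable_three_two hcard
  have hns := hP.not_solvable hHs hN
  have hHne : (⊤ : Subgroup H) ≠ ⊥ := by
    intro h
    have h1 := congrArg (fun K : Subgroup H => Nat.card K) h
    simp only [card_top, card_bot, hcard] at h1
    have := Nat.two_pow_pos n
    omega
  obtain ⟨M, hM, -⟩ := Cfsg.Lib.Core.exists_isMinNormal (G := H) (N := ⊤) inferInstance hHne
  haveI := hM.1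
  obtain ⟨-, p, hp, -, hpM⟩ := Cfsg.Lib.Core.minimal_solvable_elementary hM inferInstance
  set K := M.map H.subtype with hK
  have hKH : K ≤ H := map_subtype_le _
  have hKn : H ≤ normalizer (K : Set G) := le_normalizer_map_subtype hM.1
  have hK1 : K ≠ ⊥ := by
    rw [hK, Ne, map_eq_bot_iff_of_injective _ H.subtype_injective]
    exact hM.2.1
  -- no element of `N` other than one centralizes `K`
  have hfix : N ⊓ centralizer (K : Set G) = ⊥ := by
    set Y := N ⊓ centralizer (K : Set G)
    have hYn : H ≤ normalizer (Y : Set G) := by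
      intro h hh
      refine mem_normalizer_inf ?_ ?_
      · rw [normalizer_eq_top_iff.2 hNn]; exact mem_top h
      · exact mem_normalizer_centralizer (hKn hh)
    by_contra hY
    have htop : Y ⊔ H = ⊤ := hP.coatom.2 _ (lt_of_le_not_ge le_sup_right fun h => hY (by
      rw [eq_bot_iff, ← hreg]; exact le_inf inf_le_left (le_sup_left.trans h)))
    have hNY : N ≤ Y := by
      intro x hx
      have hxm : x ∈ Y ⊔ H := htop ▸ mem_top x
      rw [← SetLike.mem_coe, coe_mul_of_right_le_normalizer_left Y H hYn] at hxm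
      obtain ⟨y, hy, h, hh, rfl⟩ := hxm
      have hhN : h ∈ N ⊓ H := ⟨by simpa using N.mul_mem (N.inv_mem hy.1) hx, hh⟩
      rw [hreg, mem_bot] at hhN
      rw [hhN]; simpa using hy
    have hall : (⊤ : Subgroup G) ≤ normalizer (K : Set G) := by
      rw [← hP.sup_eq_top hN]
      exact sup_le ((hNY.trans inf_le_right).trans (centralizer_le_normalizer _)) hKn
    haveI : K.Normal := normalizer_eq_top_iff.1 (top_le_iff.1 hall)
    exact hP.not_le hK1 hKH
  have hdvd : Nat.card K ∣ 3 * 2 ^ n := hcard ▸ card_dvd_of_le hKH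
  have hKp : IsPGroup p K := hpM.map _
  haveI : Fact p.Prime := ⟨hp⟩
  obtain ⟨k, hk⟩ := hKp.exists_card_eq
  have hk0 : k ≠ 0 := fun h => hK1 (eq_bot_of_card_eq K (by rw [hk, h, pow_zero]))
  have hp23 : p = 2 ∨ p = 3 := by
    rcases hp.dvd_mul.1 ((dvd_pow_self p hk0).trans (hk ▸ hdvd)) with h | h
    · exact Or.inr ((Nat.prime_dvd_prime_iff_eq hp Nat.prime_three).1 h)
    · exact Or.inl ((Nat.prime_dvd_prime_iff_eq hp Nat.prime_two).1 (hp.dvd_of_dvd_pow h))
  rcases hp23 with rfl | rfl
  · -- the number of fixed points is odd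
    let act : MulAction K N :=
      { smul := fun k x => ⟨(k : G) * x * (k : G)⁻¹, hNn.conj_mem x x.2 k⟩
        one_smul := fun x => Subtype.ext (by show ((1 : K) : G) * x * ((1 : K) : G)⁻¹ = x; simp)
        mul_smul := fun a b x => Subtype.ext (by
          show ((a * b : K) : G) * x * ((a * b : K) : G)⁻¹ = (a : G) * ((b : G) * x * (b : G)⁻¹) * (a : G)⁻¹
          simp [mul_assoc]) }
    have h1 := hKp.card_modEq_card_fixedPoints N
    have h2 : Nat.card (MulAction.fixedPoints K N) = 1 := by
      rw [Nat.card_eq_one_iff_exists]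
      refine ⟨⟨1, fun k => Subtype.ext (by show (k : G) * (1 : G) * (k : G)⁻¹ = 1; simp)⟩, ?_⟩
      rintro ⟨x, hx⟩
      have hxC : (x : G) ∈ N ⊓ centralizer (K : Set G) :=
        ⟨x.2, mem_centralizer_iff.2 fun k hk => mul_inv_eq_iff_eq_mul.1
          (congrArg Subtype.val (hx ⟨k, hk⟩))⟩
      rw [hfix, mem_bot] at hxC
      exact Subtype.ext (Subtype.ext hxC)
    rw [h2] at h1
    refine hns (Cfsg.Agent.S0205.result (Nat.odd_iff.2 ?_))
    exact h1
  · -- a fixed point free automorphism of order three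
    have hk1 : k = 1 := by
      rw [hk] at hdvd
      have h2 : 3 ^ k ∣ 3 := (Nat.Coprime.pow k n (by norm_num : Nat.Coprime 3 2)).dvd_of_dvd_mul_right hdvd
      have := Nat.le_of_dvd (by norm_num) h2
      rcases k with _ | _ | k
      · exact absurd rfl hk0
      · rfl
      · exfalso
        have : 3 ^ 2 ≤ 3 ^ (k + 2) := Nat.pow_le_pow_right (by norm_num) (by omega)
        omega
    rw [hk1, pow_one] at hk
    obtain ⟨x, hx⟩ := exists_prime_orderOf_dvd_card' (G := K) 3 (by rw [hk])
    have hgen : zpowers (x : G) = K := eq_of_le_of_card_ge (zpowers_le.2 x.2)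
      (by rw [hk, Nat.card_zpowers, Subgroup.orderOf_coe, hx])
    let φ : MulAut N := MulAut.conjNormal (x : G)
    have hφapp : ∀ y : N, (φ y : G) = (x : G) * y * (x : G)⁻¹ := fun y => MulAut.conjNormal_apply _ _
    have hφfix : ∀ y : N, φ y = y → y = 1 := by
      intro y hy
      have hc : Commute (x : G) y := mul_inv_eq_iff_eq_mul.1 ((hφapp y).symm.trans (congrArg Subtype.val hy))
      have hyC : (y : G) ∈ N ⊓ centralizer (K : Set G) := by
        refine ⟨y.2, mem_centralizer_iff.2 fun z hz => ?_⟩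
        rw [SetLike.mem_coe, ← hgen] at hz
        obtain ⟨m, rfl⟩ := hz
        exact (hc.zpow_left m).eq
      rw [hfix, mem_bot] at hyC
      exact Subtype.ext hyC
    have hord : orderOf φ = 3 := by
      refine orderOf_eq_prime ?_ ?_
      · show (MulAut.conjNormal (x : G) : MulAut N) ^ 3 = 1
        rw [← map_pow, show (x : G) ^ 3 = 1 by rw [← hx, ← Subgroup.orderOf_coe, pow_orderOf_eq_one], map_one]
      · intro h1
        refine hns ?_
        haveI : Subsingleton N := subsingleton_of_forall_eq 1 fun y => hφfix y (by rw [h1]; rfl)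
        infer_instance
    haveI := Cfsg.Agent.S0033.result φ (fun y hy => hφfix y hy) 3 Nat.prime_three hord
    exact hns inferInstance

/-- **The socle.** -/
theorem exists_simple_socle (hP : Prim H) {n : ℕ} (hn : n ≤ 4) (hcard : Nat.card H = 3 * 2 ^ n) :
    ∃ T : Subgroup G, T.Normal ∧ IsSimpleGroup T ∧ ¬ IsMulCommutative T ∧
      centralizer (T : Set G) = ⊥ ∧ T ⊔ H = ⊤ ∧ T ⊓ H ≠ ⊥ ∧
      T ⊓ normalizer ((T ⊓ H : Subgroup G) : Set G) = T ⊓ H ∧ ¬ IsMulCommutative ↥(T ⊓ H) := by
  haveI : Fact (Nat.Prime 2) := ⟨Nat.prime_two⟩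
  haveI : Fact (Nat.Prime 3) := ⟨Nat.prime_three⟩
  have hHs : Group.IsSolvable H := isSolvable_three_two hcard
  have hGne : (⊤ : Subgroup G) ≠ ⊥ := fun h => hP.coatom.1 (le_antisymm le_top (h ▸ bot_le))
  obtain ⟨N, hNn, -, hN, hmin⟩ := Cfsg.Lib.Group.MinFactor.exists_minimal_normal
    (K := (⊤ : Subgroup G)) inferInstance hGne
  haveI := hNn
  have hnc : ¬ IsMulCommutative N := fun h => hP.not_solvable hHs hN
    (Cfsg.Lib.Core.isSolvable_of_isMulCommutative N)
  -- the centralizer is trivial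
  have hC : centralizer (N : Set G) = ⊥ := by
    by_contra hb
    have h1 := hP.inf_ne_bot hcard hb (N := centralizer (N : Set G))
    set Y := centralizer (N : Set G) ⊓ H
    have hYn : Y.Normal := by
      refine normalizer_eq_top_iff.1 (top_le_iff.1 ?_)
      rw [← hP.sup_eq_top hN]
      refine sup_le ?_ ?_
      · refine le_trans (fun x hx => ?_) (centralizer_le_normalizer _)
        exact mem_centralizer_iff.2 fun y hy => (mem_centralizer_iff.1 hy.1 x hx).symm
      · intro h hh
        refine mem_normalizer_inf ?_ (le_normalizer hh)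
        rw [normalizer_eq_top_iff.2 inferInstance]; exact mem_top h
    haveI := hYn
    exact hP.not_le h1 inf_le_right
  set R := N ⊓ H with hR
  have hR1 : R ≠ ⊥ := hP.inf_ne_bot hcard hN
  obtain ⟨S, hS⟩ := Cfsg.Lib.Group.MinFactor.exists_factor hN
  set C := N ⊓ centralizer (S : Set G) with hCd
  have hsup : S ⊔ C = N := hS.sup_centralizer hmin
  have hbot : S ⊓ centralizer (S : Set G) = ⊥ := hS.inf_centralizer hmin hnc
  by_cases hSN : S = N
  · subst hSN
    have hsimple : IsSimpleGroup S := by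
      haveI : Nontrivial S := (S.nontrivial_iff_ne_bot).2 hN
      refine ⟨fun K hK => ?_⟩
      rcases eq_or_ne (K.map S.subtype) ⊥ with hb | hb
      · exact Or.inl ((map_eq_bot_iff_of_injective _ S.subtype_injective).1 hb)
      · right
        have := hS.min _ (map_subtype_le _) (fun x hx r hr => by
          obtain ⟨r, hr, rfl⟩ := hr
          exact ⟨⟨x, hx⟩ * r * ⟨x, hx⟩⁻¹, hK.conj_mem r hr _, rfl⟩) hb
        exact map_injective S.subtype_injective (this.trans (by rw [← MonoidHom.range_eq_map, range_subtype]))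
    have hRn : H ≤ normalizer ((S ⊓ H : Subgroup G) : Set G) := fun h hh =>
      mem_normalizer_inf (by rw [normalizer_eq_top_iff.2 inferInstance]; exact mem_top h) (le_normalizer hh)
    have hNR := hP.normalizer_eq inf_le_right hRn hR1
    have hself : S ⊓ normalizer ((S ⊓ H : Subgroup G) : Set G) = S ⊓ H := by rw [hNR]
    refine ⟨S, inferInstance, hsimple, hnc, hC, hP.sup_eq_top hN, hR1, hself, fun hab => ?_⟩
    -- an abelian `D` is impossible
    haveI := hsimple
    set D := S ⊓ H
    have hDc : ∀ X : Subgroup G, X ≤ D → D ≤ centralizer (X : Set G) := fun X hX x hx =>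
      mem_centralizer_iff.2 fun y hy => congrArg Subtype.val (hab.is_comm.comm ⟨y, hX hy⟩ ⟨x, hx⟩)
    by_cases h3 : 3 ∣ Nat.card D
    · obtain ⟨x, hx⟩ := exists_prime_orderOf_dvd_card' (G := D) 3 h3
      have hx3 : orderOf (x : G) = 3 := by rw [Subgroup.orderOf_coe, hx]
      set X := zpowers (x : G)
      have hXD : X ≤ D := zpowers_le.2 x.2
      have hX3 : Nat.card X = 3 := by rw [Nat.card_zpowers, hx3]
      -- `X` is the only subgroup of order three of `D`
      have huniq : ∀ y ∈ D, y ^ 3 = 1 → y ∈ X := by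
        intro y hy hy3
        by_contra hyX
        have hpY : IsPGroup 3 (zpowers y) := by
          obtain ⟨j, -, hj⟩ := (Nat.dvd_prime_pow Nat.prime_three).1
            ((orderOf_dvd_of_pow_eq_one hy3).trans (dvd_of_eq (pow_one 3).symm))
          exact IsPGroup.of_card (n := j) (by rw [Nat.card_zpowers, hj])
        have hpX : IsPGroup 3 X := IsPGroup.of_card (n := 1) (by rw [hX3, pow_one])
        have hsupp : IsPGroup 3 ↥(zpowers y ⊔ X) := hpY.to_sup_of_normal_right' hpX
          (zpowers_le.2 (centralizer_le_normalizer _ (hDc X hXD hy)))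
        obtain ⟨j, hj⟩ := hsupp.exists_card_eq
        have hd : 3 ^ j ∣ 3 * 2 ^ n := hj ▸ hcard ▸ card_dvd_of_le
          (sup_le (zpowers_le.2 hy.2) (hXD.trans inf_le_right))
        have h2 : 3 ^ j ∣ 3 := (Nat.Coprime.pow j n (by norm_num : Nat.Coprime 3 2)).dvd_of_dvd_mul_right hd
        refine hyX ?_
        rw [eq_of_le_of_card_ge (le_sup_right : X ≤ zpowers y ⊔ X)
          (by rw [hj, hX3]; exact Nat.le_of_dvd (by norm_num) h2)]
        exact mem_sup_left (mem_zpowers y)
      have hXn : H ≤ normalizer (X : Set G) := by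
        intro h hh
        refine Cfsg.Lib.Core.mem_normalizer_iff_map_conj.2 (eq_of_le_of_card_ge ?_
          (card_map_of_injective (MulAut.conj h).injective).ge)
        rintro _ ⟨y, hy, rfl⟩
        refine huniq _ ((mem_normalizer_iff.1 (hRn hh) y).1 (hXD hy)) ?_
        rw [← map_pow, show y ^ 3 = 1 by
          have := pow_card_eq_one' (G := X) (x := ⟨y, hy⟩)
          rw [hX3] at this
          exact congrArg Subtype.val this, map_one]
      have hX1 : X ≠ ⊥ := fun h => by rw [h, card_bot] at hX3; omega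
      have hNX := hP.normalizer_eq (hXD.trans inf_le_right) hXn hX1
      refine false_of_sylow_sub (P := X) hnc (hXD.trans inf_le_left)
        (IsPGroup.of_card (p := 3) (n := 1) (by rw [hX3, pow_one])) hX1 ?_ ?_
      · intro Q hQ hQp _ y hy
        rw [hNX] at hy
        obtain ⟨j, hj⟩ := hQp ⟨y, hy.1⟩
        have hy' : y ^ 3 ^ j = 1 := congrArg Subtype.val hj
        refine huniq y ⟨hQ hy.1, hy.2⟩ (orderOf_dvd_iff_pow_eq_one.1 ?_)
        have hd : orderOf y ∣ 3 * 2 ^ n := hcard ▸ Subgroup.orderOf_dvd_natCard H hy.2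
        obtain ⟨i, -, hi⟩ := (Nat.dvd_prime_pow Nat.prime_three).1 (orderOf_dvd_of_pow_eq_one hy')
        rw [hi] at hd ⊢
        exact (Nat.Coprime.pow i n (by norm_num : Nat.Coprime 3 2)).dvd_of_dvd_mul_right hd
      · rw [hNX]; exact hDc X hXD
    · have hd : Nat.card D ∣ 2 ^ n := by
        have h1 : Nat.card D ∣ 3 * 2 ^ n := hcard ▸ card_dvd_of_le inf_le_right
        exact ((Nat.prime_three.coprime_iff_not_dvd.2 h3).symm).dvd_of_dvd_mul_left h1
      obtain ⟨j, -, hj⟩ := (Nat.dvd_prime_pow Nat.prime_two).1 hd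
      refine false_of_sylow_sub (P := D) hnc inf_le_left (IsPGroup.of_card (p := 2) (n := j) hj) hR1
        (fun Q hQ _ _ y hy => hself ▸ (⟨hQ hy.1, hy.2⟩ : y ∈ S ⊓ normalizer (D : Set G))) ?_
      rw [hself]; exact hDc D le_rfl
  · -- several factors: every factor meets `H` in an abelian self-normalizing group
    exfalso
    have hSC : S ⊓ C = ⊥ := le_bot_iff.1 (hbot ▸ inf_le_inf_left S inf_le_right)
    have hcomm : ∀ s ∈ S, ∀ c ∈ C, Commute s c := fun s hs c hc => mem_centralizer_iff.1 hc.2 s hs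
    have hCn : N ≤ normalizer (C : Set G) := by
      rw [← normal_subgroupOf_iff_le_normalizer inf_le_left]
      exact Cfsg.Lib.Group.MinFactor.normal_subgroupOf_centralizer hS
    have hRCn : R ≤ normalizer (C : Set G) := inf_le_left.trans hCn
    -- the projection of `R` to `S`
    set D := S ⊓ (R ⊔ C) with hD
    have hproj : ∀ r ∈ R, ∃ d ∈ D, ∃ c ∈ C, d * c = r := by
      intro r hr
      have hrN : r ∈ S ⊔ C := hsup.symm ▸ hr.1
      rw [← SetLike.mem_coe, coe_mul_of_left_le_normalizer_right S C (hS.le.trans hCn)] at hrN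
      obtain ⟨d, hd, c, hc, rfl⟩ := hrN
      refine ⟨d, ⟨hd, ?_⟩, c, hc, rfl⟩
      have := (R ⊔ C).mul_mem (mem_sup_left hr) (inv_mem (mem_sup_right (S := R) hc))
      simpa using this
    set RS := ⨆ h : H, D.map (MulAut.conj (h : G)).toMonoidHom with hRS
    have hDRS : D ≤ RS := fun x hx => le_iSup (fun h : H => D.map (MulAut.conj (h : G)).toMonoidHom) 1
      ⟨x, hx, by simp⟩
    have hRSn : H ≤ normalizer (RS : Set G) := by
      intro h hh
      refine Cfsg.Lib.Core.mem_normalizer_iff_map_conj.2 (eq_of_le_of_card_ge ?_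
        (card_map_of_injective (MulAut.conj h).injective).ge)
      rw [hRS, Subgroup.map_iSup]
      refine iSup_le fun k => ?_
      rw [Subgroup.map_map]
      refine le_trans (le_of_eq ?_) (le_iSup (fun h : H => D.map (MulAut.conj (h : G)).toMonoidHom) (⟨h, hh⟩ * k))
      congr 1
      ext z; simp [mul_assoc]
    have hRSN : RS ≤ N := iSup_le fun h => by
      rintro _ ⟨x, hx, rfl⟩
      exact hNn.conj_mem x (hS.le hx.1) _
    -- the other conjugates lie in `C`
    have hmod : RS ≤ D ⊔ C := iSup_le fun h => by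
      by_cases heq : S.map (MulAut.conj (h : G)).toMonoidHom = S
      · refine le_trans ?_ le_sup_left
        rintro _ ⟨x, hx, rfl⟩
        refine ⟨heq.le ⟨x, hx.1, rfl⟩, ?_⟩
        have hxRC : x ∈ R ⊔ C := hx.2
        rw [← SetLike.mem_coe, coe_mul_of_left_le_normalizer_right R C hRCn] at hxRC
        obtain ⟨r, hr, c, hc, rfl⟩ := hxRC
        rw [map_mul]
        refine mul_mem (mem_sup_left ⟨hNn.conj_mem r hr.1 _, H.mul_mem (H.mul_mem h.2 hr.2) (H.inv_mem h.2)⟩)
          (mem_sup_right ⟨hNn.conj_mem c hc.1 _, mem_centralizer_iff.2 fun s hs => ?_⟩)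
        rw [SetLike.mem_coe, ← heq] at hs
        obtain ⟨s, hs, rfl⟩ := hs
        show MulAut.conj (h : G) s * MulAut.conj (h : G) c = MulAut.conj (h : G) c * MulAut.conj (h : G) s
        rw [← map_mul, ← map_mul, (hcomm s hs c hc).eq]
      · refine le_trans ?_ le_sup_right
        rintro _ ⟨x, hx, rfl⟩
        exact ⟨hNn.conj_mem x (hS.le hx.1) _, mem_centralizer_iff.2 fun s hs =>
          (hS.commute (hS.conj _) (Ne.symm heq) hs ⟨x, hx.1, rfl⟩).eq⟩
    have hDsol : Group.IsSolvable D := by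
      haveI : Group.IsSolvable R := Cfsg.Lib.Core.isSolvable_of_le inf_le_right hHs
      haveI : ∀ r : R, True := fun _ => trivial
      choose pd hpd pc hpc hp using hproj
      let π : R →* D := MonoidHom.mk' (fun r => ⟨pd r r.2, hpd r r.2⟩) fun a b => Subtype.ext (by
        show pd _ _ = pd a a.2 * pd b b.2
        have e1 := hp _ (a * b).2
        have e2 : pd a a.2 * pd b b.2 * (pc a a.2 * pc b b.2) = ((a * b : R) : G) := by
          rw [Subgroup.coe_mul]
          conv_rhs => rw [← hp a a.2, ← hp b b.2]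
          rw [mul_assoc, mul_assoc, ← mul_assoc (pd b b.2), (hcomm _ (hpd b b.2).1 _ (hpc a a.2)).eq]
          simp only [mul_assoc]
        have e3 : (pd a a.2 * pd b b.2)⁻¹ * pd _ (a * b).2 = pc a a.2 * pc b b.2 * (pc _ (a * b).2)⁻¹ := by
          rw [inv_mul_eq_iff_eq_mul, ← mul_assoc, eq_mul_inv_iff_mul_eq, e1, e2]
        have : (pd a a.2 * pd b b.2)⁻¹ * pd _ (a * b).2 ∈ S ⊓ C :=
          ⟨S.mul_mem (S.inv_mem (S.mul_mem (hpd a a.2).1 (hpd b b.2).1)) (hpd _ (a * b).2).1,
            e3 ▸ C.mul_mem (C.mul_mem (hpc a a.2) (hpc b b.2)) (C.inv_mem (hpc _ (a * b).2))⟩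
        rw [hSC, mem_bot, inv_mul_eq_one] at this
        exact this.symm)
      refine Group.isSolvable_of_surjective (f := π) ?_
      rintro ⟨d, hd, hdRC⟩
      replace hdRC : d ∈ ((R ⊔ C : Subgroup G) : Set G) := hdRC
      rw [coe_mul_of_left_le_normalizer_right R C hRCn] at hdRC
      obtain ⟨r, hr, c, hc, hrc⟩ := hdRC
      refine ⟨⟨r, hr⟩, Subtype.ext ?_⟩
      show pd r hr = d
      have e1 := hp r hr
      have : d⁻¹ * pd r hr ∈ S ⊓ C := by
        refine ⟨S.mul_mem (S.inv_mem hd) (hpd r hr).1, ?_⟩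
        have hd' : d = pd r hr * pc r hr * c := by rw [e1]; exact hrc.symm
        have : d⁻¹ * pd r hr = c⁻¹ * (pc r hr)⁻¹ := by rw [hd']; group
        rw [this]; exact C.mul_mem (C.inv_mem hc) (C.inv_mem (hpc r hr))
      rw [hSC, mem_bot, inv_mul_eq_one] at this
      exact this.symm
    -- `RS` lies in `H`
    have hRSH : RS ≤ H := by
      by_contra hnot
      have htop : RS ⊔ H = ⊤ := hP.coatom.2 _ (lt_of_le_not_ge le_sup_right fun h => hnot (le_sup_left.trans h))
      have hSD : S ≤ D := by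
        intro s hs
        have hsm : s ∈ RS ⊔ H := htop ▸ mem_top s
        rw [← SetLike.mem_coe, coe_mul_of_right_le_normalizer_left RS H hRSn] at hsm
        obtain ⟨y, hy, h, hh, rfl⟩ := hsm
        have hhR : h ∈ R := ⟨by simpa using N.mul_mem (N.inv_mem (hRSN hy)) (hS.le hs), hh⟩
        refine ⟨hs, mul_mem ?_ (mem_sup_left hhR)⟩
        exact (sup_le inf_le_right le_sup_right : D ⊔ C ≤ R ⊔ C) (hmod hy)
      haveI : Group.IsSolvable S := Cfsg.Lib.Core.isSolvable_of_le hSD hDsol
      -- then `N` is a product of soluble groups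
      have habel : IsMulCommutative S := by
        rcases eq_or_ne (⁅S, S⁆) ⊥ with hb | hb
        · exact (commutator_self_eq_bot_iff).1 hb
        · have hle : ⁅S, S⁆ ≤ S := commutator_le_self S
          have := hS.min ⁅S, S⁆ hle (fun x hx r hr => by
            have hm : (MulAut.conj x).toMonoidHom r ∈ (⁅S, S⁆).map (MulAut.conj x).toMonoidHom := ⟨r, hr, rfl⟩
            rw [map_commutator] at hm
            have hS' : S.map (MulAut.conj x).toMonoidHom ≤ S := by
              rintro _ ⟨s, hs, rfl⟩; exact hS.norm x hx s hs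
            exact commutator_mono hS' hS' hm) hb
          haveI : Group.IsPerfect S := Subgroup.isPerfect_iff.2 this
          haveI : Nontrivial S := (S.nontrivial_iff_ne_bot).2 hS.ne
          exact absurd ‹Group.IsSolvable S› (Group.IsPerfect.not_isSolvable S)
      exact hS.ne (le_bot_iff.1 (hbot ▸ le_inf le_rfl fun x hx =>
        mem_centralizer_iff.2 fun y hy => congrArg Subtype.val (habel.is_comm.comm ⟨y, hy⟩ ⟨x, hx⟩)))
    have hDR : D ≤ R := fun x hx => ⟨hS.le hx.1, hRSH (hDRS hx)⟩
    have hD1 : D ≠ ⊥ := by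
      intro hb
      have hRC : R ≤ C := by
        intro r hr
        obtain ⟨d, hd, c, hc, rfl⟩ := hproj r hr
        rw [hb, mem_bot] at hd
        rw [hd, one_mul]; exact hc
      -- `R` centralizes every conjugate of `S`
      have hall : N ≤ centralizer (R : Set G) := by
        conv_lhs => rw [← hS.iSup_conj hmin]
        refine iSup_le fun g => ?_
        obtain ⟨x, hx, h, hh, hg⟩ := hP.exists_mul hN g⁻¹
        obtain rfl : g = (x * h)⁻¹ := by rw [hg, inv_inv]
        rintro _ ⟨s, hs, rfl⟩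
        refine mem_centralizer_iff.2 fun r hr => ?_
        have hh' : (x * h)⁻¹⁻¹ = x * h := inv_inv _
        have hr' : h * r * h⁻¹ ∈ R := ⟨hNn.conj_mem r hr.1 h, H.mul_mem (H.mul_mem hh hr.2) (H.inv_mem hh)⟩
        have hs' : x⁻¹ * s * x ∈ S := by simpa using hS.norm x⁻¹ (N.inv_mem hx) s hs
        have hcc := (hcomm _ hs' _ (hRC hr')).eq
        show r * ((x * h)⁻¹ * s * (x * h)⁻¹⁻¹) = (x * h)⁻¹ * s * (x * h)⁻¹⁻¹ * r
        rw [hh']
        calc r * ((x * h)⁻¹ * s * (x * h)) = h⁻¹ * ((h * r * h⁻¹) * (x⁻¹ * s * x)) * h := by group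
          _ = h⁻¹ * ((x⁻¹ * s * x) * (h * r * h⁻¹)) * h := by rw [hcc]
          _ = (x * h)⁻¹ * s * (x * h) * r := by group
      refine hR1 (le_bot_iff.1 (hC ▸ fun r hr => mem_centralizer_iff.2 fun y hy => ?_))
      exact (mem_centralizer_iff.1 (hall hy) r hr).symm
    -- a second conjugate
    obtain ⟨h, hh, hne⟩ : ∃ h ∈ H, S.map (MulAut.conj h).toMonoidHom ≠ S := by
      by_contra hall
      push Not at hall
      have hSn : S.Normal := by
        refine normalizer_eq_top_iff.1 (top_le_iff.1 ?_)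
        rw [← hP.sup_eq_top hN]
        refine sup_le (fun x hx => ?_) fun h hh => Cfsg.Lib.Core.mem_normalizer_iff_map_conj.2 (hall h hh)
        refine Cfsg.Lib.Core.mem_normalizer_iff_map_conj.2 (eq_of_le_of_card_ge ?_
          (card_map_of_injective (MulAut.conj x).injective).ge)
        rintro _ ⟨s, hs, rfl⟩
        exact hS.norm x hx s hs
      exact hSN (hmin S hSn hS.le hS.ne)
    set D' := D.map (MulAut.conj h).toMonoidHom
    have hD'H : D' ≤ H := by
      rintro _ ⟨x, hx, rfl⟩
      exact H.mul_mem (H.mul_mem hh (hDR hx).2) (H.inv_mem hh)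
    have hD'C : D' ≤ C := by
      rintro _ ⟨x, hx, rfl⟩
      exact ⟨hNn.conj_mem x (hS.le hx.1) _, mem_centralizer_iff.2 fun s hs =>
        (hS.commute (hS.conj _) (Ne.symm hne) hs ⟨x, hx.1, rfl⟩).eq⟩
    have hsq : Nat.card D * Nat.card D ∣ 3 * 2 ^ n := by
      have hcm : ∀ (a : D) (b : D'), Commute (a : G) (b : G) := fun a b => hcomm a a.2.1 b (hD'C b.2)
      let φ : D × D' →* H :=
        (MonoidHom.noncommCoprod D.subtype D'.subtype hcm).codRestrict H
          fun p => H.mul_mem (hDR p.1.2).2 (hD'H p.2.2)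
      have hφ : Function.Injective φ := by
        rw [injective_iff_map_eq_one]
        rintro ⟨a, b⟩ hab
        have e : (a : G) * (b : G) = 1 := congrArg Subtype.val hab
        have ha : (a : G) ∈ S ⊓ C := ⟨a.2.1, by rw [eq_inv_of_mul_eq_one_left e]; exact C.inv_mem (hD'C b.2)⟩
        rw [hSC, mem_bot] at ha
        rw [ha, one_mul] at e
        exact Prod.ext (Subtype.ext ha) (Subtype.ext e)
      have hD' : Nat.card D' = Nat.card D := card_map_of_injective (MulAut.conj h).injective
      have := card_dvd_of_injective φ hφ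
      rwa [Nat.card_prod, hD', hcard] at this
    have hd4 : Nat.card D ∣ 4 := by
      have hd48 : Nat.card D * Nat.card D ∣ 3 * 2 ^ 4 :=
        hsq.trans (Nat.mul_dvd_mul_left 3 (Nat.pow_dvd_pow 2 hn))
      have hle : Nat.card D ≤ 6 := by nlinarith [Nat.le_of_dvd (by norm_num) hd48]
      have : 0 < Nat.card D := Nat.card_pos
      interval_cases Nat.card D <;> first | (norm_num at hd48; done) | norm_num
    obtain ⟨j, hj2, hj⟩ := (Nat.dvd_prime_pow Nat.prime_two).1 (show Nat.card D ∣ 2 ^ 2 from hd4)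
    haveI hDab : IsMulCommutative D := by
      rcases j with _ | _ | j
      · haveI : Subsingleton D := (Nat.card_eq_one_iff_unique.1 hj).1
        exact ⟨⟨fun a b => Subsingleton.elim _ _⟩⟩
      · haveI : IsCyclic D := isCyclic_of_prime_card (p := 2) hj
        exact IsCyclic.isMulCommutative
      · have : j = 0 := by omega
        subst this
        exact IsPGroup.isMulCommutative_of_card_eq_prime_sq (p := 2) hj
    -- `D` is self-normalizing in `S`
    have hRS1 : RS ≠ ⊥ := fun hb => hD1 (le_bot_iff.1 (hb ▸ hDRS))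
    have hNRS := hP.normalizer_eq hRSH hRSn hRS1
    have hself : S ⊓ normalizer (D : Set G) ≤ D := by
      rintro x ⟨hxS, hxD⟩
      have hxn : x ∈ normalizer (RS : Set G) := by
        refine Cfsg.Lib.Core.mem_normalizer_iff_map_conj.2 (eq_of_le_of_card_ge ?_
          (card_map_of_injective (MulAut.conj x).injective).ge)
        rw [hRS, Subgroup.map_iSup]
        refine iSup_le fun k => ?_
        refine le_trans ?_ (le_iSup (fun h : H => D.map (MulAut.conj (h : G)).toMonoidHom) k)
        by_cases heq : S.map (MulAut.conj (k : G)).toMonoidHom = S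
        · have hk : D.map (MulAut.conj (k : G)).toMonoidHom = D := by
            refine eq_of_le_of_card_ge ?_ (card_map_of_injective (MulAut.conj (k : G)).injective).ge
            rintro _ ⟨d, hd, rfl⟩
            refine ⟨heq.le ⟨d, hd.1, rfl⟩, mem_sup_left ?_⟩
            exact ⟨hNn.conj_mem d (hDR hd).1 _, H.mul_mem (H.mul_mem k.2 (hDR hd).2) (H.inv_mem k.2)⟩
          rw [hk, Cfsg.Lib.Core.mem_normalizer_iff_map_conj.1 hxD]
        · rintro _ ⟨y, hy, rfl⟩
          obtain ⟨d, hd, rfl⟩ := hy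
          refine ⟨d, hd, ?_⟩
          have hc : Commute x ((k : G) * d * (k : G)⁻¹) :=
            hS.commute (hS.conj _) (Ne.symm heq) hxS ⟨d, hd.1, rfl⟩
          show (k : G) * d * (k : G)⁻¹ = x * ((k : G) * d * (k : G)⁻¹) * x⁻¹
          rw [hc.eq, mul_inv_cancel_right]
      rw [hNRS] at hxn
      exact ⟨hxS, mem_sup_left ⟨hS.le hxS, hxn⟩⟩
    have hSsimple : IsSimpleGroup S := by
      haveI : Nontrivial S := (S.nontrivial_iff_ne_bot).2 hS.ne
      refine ⟨fun K hK => ?_⟩
      rcases eq_or_ne (K.map S.subtype) ⊥ with hb | hb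
      · exact Or.inl ((map_eq_bot_iff_of_injective _ S.subtype_injective).1 hb)
      · right
        have := hS.min _ (map_subtype_le _) (fun x hx r hr => by
          obtain ⟨r, hr, rfl⟩ := hr
          have hxN : x ∈ S ⊔ C := hsup.symm ▸ hx
          rw [← SetLike.mem_coe, coe_mul_of_left_le_normalizer_right S C (hS.le.trans hCn)] at hxN
          obtain ⟨s, hs, c, hc, rfl⟩ := hxN
          refine ⟨⟨s, hs⟩ * r * ⟨s, hs⟩⁻¹, hK.conj_mem r hr _, ?_⟩
          have hcr : c * (r : G) * c⁻¹ = r := by rw [← (hcomm r r.2 c hc).eq, mul_inv_cancel_right]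
          show s * (r : G) * s⁻¹ = s * c * r * (s * c)⁻¹
          calc s * (r : G) * s⁻¹ = s * (c * r * c⁻¹) * s⁻¹ := by rw [hcr]
            _ = s * c * r * (s * c)⁻¹ := by group) hb
        exact map_injective S.subtype_injective (this.trans (by rw [← MonoidHom.range_eq_map, range_subtype]))
    haveI := hSsimple
    have hSnc : ¬ IsMulCommutative S := fun hab => hS.ne (le_bot_iff.1 (hbot ▸ le_inf le_rfl fun x hx =>
      mem_centralizer_iff.2 fun y hy => congrArg Subtype.val (hab.is_comm.comm ⟨y, hy⟩ ⟨x, hx⟩)))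
    refine false_of_sylow_sub (P := D) hSnc inf_le_left (IsPGroup.of_card (p := 2) (n := j) hj) hD1
      (fun Q hQ _ _ y hy => hself ⟨hQ hy.1, hy.2⟩) (hself.trans fun x hx => mem_centralizer_iff.2 fun y hy =>
        congrArg Subtype.val (hDab.is_comm.comm ⟨y, hy⟩ ⟨x, hx⟩))

end Prim

end Cfsg.Lib.Perm.SubThree
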