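import Cfsg.Agent.Lib.GW.PGL
import Cfsg.Agent.Lib.Linear.GLTwo
import Cfsg.Agent.Lib.Perm.SuborbitThree.Socle

/-!
# An automorphism of order two of `SL₂(q)` fixes more than two elements
-/

set_option autoImplicit false
set_option linter.style.haveILetI false
set_option linter.unusedSectionVars false

namespace Cfsg.Lib.Perm.SubThree

open Subgroup Matrix Cfsg.Lib.Linear.AutPSL Cfsg.Lib.Linear.Descent Cfsg.Lib.GW.PGL

universe u

variable {F : Type} [Field F] [Fintype F]

local notation "PSL2" => Matrix.ProjectiveSpecialLinearGroup (Fin 2) F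
local notation "SL2" => Matrix.SpecialLinearGroup (Fin 2) F

/-- An element inducing the trivial inner automorphism of `PSL₂` is trivial. -/
theorem conj_psl_eq_one {y : PSL2} (h : MulAut.conj y = 1) : y = 1 := by
  obtain ⟨s, rfl⟩ := QuotientGroup.mk_surjective y
  rw [conj_mk] at h
  obtain ⟨c, hc⟩ := (innd_eq_one_iff le_rfl).1 h
  have hv : s.1 = (c : F) • (1 : Matrix (Fin 2) (Fin 2) F) := by
    rw [← sc_val, ← hc]
    rfl
  rw [QuotientGroup.eq_one_iff, Matrix.SpecialLinearGroup.mem_center_iff]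
  refine ⟨(c : F), ?_, by rw [hv, Matrix.scalar_apply, ← Matrix.smul_one_eq_diagonal]⟩
  have hdet := s.2
  rw [hv, Matrix.det_smul, Matrix.det_one, mul_one] at hdet
  exact hdet

/-- The order of `PSL₂(q)` for odd `q`. -/
theorem two_mul_card_psl (hodd : Odd (Fintype.card F)) :
    2 * Nat.card PSL2 = Fintype.card F * (Fintype.card F ^ 2 - 1) := by
  have hc := Cfsg.Lib.Linear.card_SL_eq_gcd_mul_card_PSL (F := F) (ι := Fin 2)
  obtain ⟨k, hk⟩ := hodd
  rw [Fintype.card_fin, hk, Nat.add_sub_cancel, Nat.gcd_eq_left (Dvd.intro k rfl),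
    Cfsg.Lib.Linear.Two.card_SL_two] at hc
  rw [← hc]

/-- An automorphism of order at most two of `PSL₂(q)`, `q ≥ 5` odd, fixes at least three elements. -/
theorem psl_fixed_three (hodd : Odd (Fintype.card F)) (h5 : 5 ≤ Fintype.card F) (β : MulAut PSL2)
    (hβ : β * β = 1) (R : Subgroup PSL2) (hR : ∀ y, y ∈ R ↔ β y = y) : 3 ≤ Nat.card R := by
  classical
  haveI := Fintype.ofFinite R
  have three : ∀ a b : PSL2, a ∈ R → b ∈ R → a ≠ 1 → b ≠ 1 → a ≠ b → 3 ≤ Nat.card R := by
    intro a b ha hb ha1 hb1 hab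
    rw [Nat.card_eq_fintype_card]
    refine le_of_eq_of_le ?_ (Finset.card_le_univ ({1, ⟨a, ha⟩, ⟨b, hb⟩} : Finset R))
    simp [Subtype.ext_iff, ha1.symm, hb1.symm, hab]
  obtain ⟨A, σ, hA⟩ := exists_decomp_two β
  by_cases hσ : σ = 1
  swap
  · have h2 : (innd A * fld σ : MulAut PSL2) * (innd A * fld σ) = 1 := by rw [← hA, hβ]
    have hne : (innd A * fld σ : MulAut PSL2) ≠ 1 := fun h1 => hσ (fld_eq_of_eq (n := 2)
      (g := A) (g' := 1) (σ := σ) (σ' := 1) le_rfl (h1.trans (by rw [map_one, map_one, mul_one])))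
    have ho : orderOf (innd A * fld σ : MulAut PSL2) = 2 := orderOf_eq_prime (by rw [pow_two, h2]) hne
    have hσ2 : orderOf σ = 2 := by
      refine orderOf_eq_prime ?_ hσ
      have h3 : innd (A * sm σ A) * fld (σ ^ 2) = (1 : MulAut PSL2) := by
        rw [map_mul, map_pow, pow_two, ← mul_assoc, mul_assoc (innd A), ← fld_mul_innd', ← mul_assoc,
          mul_assoc, h2]
      exact fld_eq_of_eq (n := 2) (g := A * sm σ A) (g' := 1) (σ := σ ^ 2) (σ' := 1) le_rfl
        (h3.trans (by rw [map_one, map_one, mul_one]))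
    obtain ⟨k, -, hk⟩ := (field_coset (n := 2) le_rfl Nat.prime_two hσ2 A).1 ho
    obtain ⟨a, b, -, -, ha1, hb1, hab, -, hfa, hfb⟩ := exists_fixed_four hodd σ
    have hfix : ∀ y : PSL2, (fld σ : MulAut PSL2) y = y → k y ∈ R := fun y hy => by
      rw [hR, hA, hk, MulAut.mul_apply, MulAut.mul_apply, MulAut.inv_apply_self, hy]
    exact three _ _ (hfix a hfa) (hfix b hfb) (fun h => ha1 (k.injective (h.trans (map_one k).symm)))
      (fun h => hb1 (k.injective (h.trans (map_one k).symm))) fun h => hab (k.injective h)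
  rw [hσ, map_one, mul_one] at hA
  by_contra hlt
  push Not at hlt
  by_cases hβ1 : β = 1
  · have htop : R = ⊤ := eq_top_iff.2 fun y _ => (hR y).2 (by rw [hβ1]; rfl)
    rw [htop, Subgroup.card_top] at hlt
    have h := two_mul_card_psl (F := F) hodd
    have h24 : 5 * 24 ≤ Fintype.card F * (Fintype.card F ^ 2 - 1) := by
      have := Nat.pow_le_pow_left h5 2
      exact Nat.mul_le_mul h5 (by omega)
    omega
  set q := Fintype.card F
  -- the points of trace zero
  let T : Finset (F × F × F) :=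
    Finset.univ.filter fun v => v.1 * v.1 + v.2.1 * v.2.2 ≠ 0 ∧
      (v.1 = 1 ∨ (v.1 = 0 ∧ v.2.1 = 1))
  have hT : T.card ≤ q ^ 2 + q - 1 := by
    have hsub : T ⊆ ((Finset.univ : Finset (F × F)).image fun w => ((1 : F), w)) ∪
        (((Finset.univ : Finset F).erase 0).image fun w => ((0 : F), (1 : F), w)) := by
      rintro ⟨a, b, c⟩ hv
      simp only [T, Finset.mem_filter, Finset.mem_univ, true_and] at hv
      obtain ⟨h1, rfl | ⟨rfl, rfl⟩⟩ := hv
      · exact Finset.mem_union_left _ (Finset.mem_image.2 ⟨(b, c), Finset.mem_univ _, rfl⟩)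
      · refine Finset.mem_union_right _ (Finset.mem_image.2 ⟨c, Finset.mem_erase.2 ⟨?_, Finset.mem_univ _⟩, rfl⟩)
        rintro rfl
        simp at h1
    refine (Finset.card_le_card hsub).trans ((Finset.card_union_le _ _).trans ?_)
    refine (Nat.add_le_add Finset.card_image_le Finset.card_image_le).trans ?_
    rw [Finset.card_univ, Fintype.card_prod, Finset.card_erase_of_mem (Finset.mem_univ _), Finset.card_univ,
      ← pow_two]
    have : 1 ≤ q := Fintype.card_pos
    simp only [q] at *
    omega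
  have hkey : ∀ g : PSL2, ∃ v ∈ T, ∃ B : GL (Fin 2) F,
      B.val = !![v.1, v.2.1; v.2.2, -v.1] ∧ MulAut.conj g * β * (MulAut.conj g)⁻¹ = innd B := by
    intro g
    obtain ⟨s, hs⟩ := QuotientGroup.mk_surjective g
    set B := Matrix.SpecialLinearGroup.toGL s * A * (Matrix.SpecialLinearGroup.toGL s)⁻¹ with hBd
    have hB : MulAut.conj g * β * (MulAut.conj g)⁻¹ = innd B := by
      rw [hBd, map_mul, map_mul, map_inv, ← conj_mk, hs, hA]
    have h2 : (innd (B * B) : MulAut PSL2) = 1 := by
      rw [map_mul, ← hB, show ∀ a b : MulAut PSL2, a * b * a⁻¹ * (a * b * a⁻¹) = a * (b * b) * a⁻¹ from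
        fun a b => by group, hβ, mul_one, mul_inv_cancel]
    have hne : ∀ c : Fˣ, B ≠ sc c := fun c hc => by
      rw [hc, innd_sc] at hB
      exact hβ1 (conj_eq_one_iff.1 hB)
    obtain ⟨c, hc⟩ := (innd_eq_one_iff le_rfl).1 h2
    have hc' : B.val * B.val = (c : F) • (1 : Matrix (Fin 2) (Fin 2) F) := by
      rw [← Units.val_mul, hc, sc_val]
    set M := B.val with hM
    have e00 := congrFun (congrFun hc' 0) 0
    have e01 := congrFun (congrFun hc' 0) 1
    have e10 := congrFun (congrFun hc' 1) 0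
    have e11 := congrFun (congrFun hc' 1) 1
    simp [Matrix.mul_apply, Fin.sum_univ_two] at e00 e01 e10 e11
    have htr : M 1 1 = -M 0 0 := by
      by_contra htr
      have hs' : M 0 0 + M 1 1 ≠ 0 := fun h => htr (by linear_combination h)
      have h01 : M 0 1 = 0 := (mul_eq_zero.1 (by linear_combination e01 : (M 0 0 + M 1 1) * M 0 1 = 0)).resolve_left hs'
      have h10 : M 1 0 = 0 := (mul_eq_zero.1 (by linear_combination e10 : (M 0 0 + M 1 1) * M 1 0 = 0)).resolve_left hs'
      have hd : M 0 0 = M 1 1 := sub_eq_zero.1 ((mul_eq_zero.1 (by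
        linear_combination e00 - e11 : (M 0 0 + M 1 1) * (M 0 0 - M 1 1) = 0)).resolve_left hs')
      have h00 : M 0 0 ≠ 0 := fun h => hs' (by rw [← hd, h, add_zero])
      refine hne (Units.mk0 _ h00) (Units.ext ?_)
      rw [sc_val, ← hM, Units.val_mk0]
      ext i j
      fin_cases i <;> fin_cases j <;> simp [h01, h10, hd]
    have hdet : M 0 0 * M 0 0 + M 0 1 * M 1 0 ≠ 0 := by
      intro h
      exact c.ne_zero (by rw [← e00]; exact h)
    obtain ⟨r, hr, hcase⟩ : ∃ r : F, r ≠ 0 ∧ (r * M 0 0 = 1 ∨ (r * M 0 0 = 0 ∧ r * M 0 1 = 1)) := by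
      by_cases h : M 0 0 = 0
      · refine ⟨(M 0 1)⁻¹, inv_ne_zero ?_, Or.inr ⟨by rw [h, mul_zero], inv_mul_cancel₀ ?_⟩⟩ <;>
        · intro h'; exact hdet (by rw [h, h']; ring)
      · exact ⟨(M 0 0)⁻¹, inv_ne_zero h, Or.inl (inv_mul_cancel₀ h)⟩
    refine ⟨(r * M 0 0, r * M 0 1, r * M 1 0), Finset.mem_filter.2 ⟨Finset.mem_univ _, ?_, hcase⟩,
      sc (Units.mk0 r hr) * B, ?_, ?_⟩
    · intro h
      refine hdet ((mul_eq_zero.1 (?_ : r * r * (M 0 0 * M 0 0 + M 0 1 * M 1 0) = 0)).resolve_left
        (mul_ne_zero hr hr))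
      linear_combination h
    · rw [Units.val_mul, sc_val, ← hM, Units.val_mk0, Matrix.smul_mul, Matrix.one_mul]
      ext i j
      fin_cases i <;> fin_cases j <;> simp [htr]
    · rw [map_mul (innd : GL (Fin 2) F →* MulAut PSL2) (sc _) B, innd_sc, one_mul, hB]
  choose v hv B hBv hBe using hkey
  have hle : R.index ≤ q ^ 2 + q - 1 := by
    rw [index_eq_card]
    let f : PSL2 ⧸ R → T := fun u => ⟨v u.out, hv _⟩
    refine (Nat.card_le_card_of_injective f ?_).trans ?_
    · intro u w h
      have h' : v u.out = v w.out := congrArg Subtype.val h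
      have hB' : B u.out = B w.out := Units.ext (by rw [hBv, hBv, h'])
      have hxx := (hBe u.out).trans ((congrArg innd hB').trans (hBe w.out).symm)
      rw [← QuotientGroup.out_eq' u, ← QuotientGroup.out_eq' w, QuotientGroup.eq, hR]
      set y := (u.out)⁻¹ * w.out with hy
      have hcomm : MulAut.conj y * β = β * MulAut.conj y := by
        rw [hy, map_mul, map_inv]
        calc (MulAut.conj u.out)⁻¹ * MulAut.conj w.out * β
            = (MulAut.conj u.out)⁻¹ * (MulAut.conj w.out * β * (MulAut.conj w.out)⁻¹) * MulAut.conj w.out := by group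
          _ = (MulAut.conj u.out)⁻¹ * (MulAut.conj u.out * β * (MulAut.conj u.out)⁻¹) * MulAut.conj w.out := by rw [hxx]
          _ = β * ((MulAut.conj u.out)⁻¹ * MulAut.conj w.out) := by group
      have hconj : MulAut.conj (β y) = MulAut.conj y := by
        refine MulEquiv.ext fun x => ?_
        have h1 := DFunLike.congr_fun hcomm (β⁻¹ x)
        simp only [MulAut.mul_apply, MulAut.conj_apply, map_mul, map_inv, MulAut.apply_inv_self] at h1 ⊢
        exact h1.symm
      have h1 := conj_psl_eq_one (y := y⁻¹ * β y) (by rw [map_mul, map_inv, hconj, inv_mul_cancel])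
      exact (inv_mul_eq_one.1 h1).symm
    · rw [Nat.card_eq_finsetCard]
      exact hT
  have h1 := card_mul_index R
  have h2 : 2 * Nat.card PSL2 = q * (q ^ 2 - 1) := two_mul_card_psl hodd
  have h3 := Nat.mul_le_mul (show Nat.card R ≤ 2 by omega) hle
  rw [h1] at h3
  have h25 := Nat.pow_le_pow_left h5 2
  have hq : q ≤ q ^ 2 := Nat.le_self_pow two_ne_zero q
  have h4 : 5 * (q ^ 2 - 1) ≤ q * (q ^ 2 - 1) := Nat.mul_le_mul_right _ h5
  have h6 : 5 * q ≤ q * q := Nat.mul_le_mul_right _ h5
  rw [← pow_two] at h6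
  omega

/-- An automorphism of order at most two of `SL₂(q)`, `q ≥ 5` odd, fixes more than two elements. -/
theorem sl_fixed_three (hodd : Odd (Fintype.card F)) (h5 : 5 ≤ Fintype.card F) (α : MulAut SL2)
    (hα : α * α = 1) (X : Subgroup SL2) (hX : ∀ s, s ∈ X ↔ α s = s) : 3 ≤ Nat.card X := by
  set β : MulAut PSL2 := psl α
  have hβ : β * β = 1 := by rw [← map_mul, hα, map_one]
  let R : Subgroup PSL2 := β.toMonoidHom.eqLocus (MonoidHom.id PSL2)
  have hR := psl_fixed_three hodd h5 β hβ R fun y => Iff.rfl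
  set Z := center SL2
  set K := R.comap (QuotientGroup.mk' Z)
  have hKX : X ≤ K := fun s hs => by
    show psl α (QuotientGroup.mk s) = QuotientGroup.mk s
    rw [psl_mk, (hX s).1 hs]
  have hidx : X.relIndex K ≤ Nat.card Z := by
    have hmem : ∀ s : K, (α (s : SL2)) * (s : SL2)⁻¹ ∈ Z := fun s => by
      have h1 : (QuotientGroup.mk (α (s : SL2)) : PSL2) = QuotientGroup.mk (s : SL2) := s.2
      rw [← QuotientGroup.eq_one_iff, QuotientGroup.mk_mul, QuotientGroup.mk_inv, h1, mul_inv_cancel]
    rw [relIndex, index_eq_card]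
    let f : ↥K ⧸ X.subgroupOf K → Z := fun u => ⟨α ((u.out : K) : SL2) * ((u.out : K) : SL2)⁻¹, hmem u.out⟩
    refine Nat.card_le_card_of_injective f fun u w h => ?_
    have h' : α ((u.out : K) : SL2) * ((u.out : K) : SL2)⁻¹ = α ((w.out : K) : SL2) * ((w.out : K) : SL2)⁻¹ :=
      congrArg Subtype.val h
    rw [← QuotientGroup.out_eq' u, ← QuotientGroup.out_eq' w, QuotientGroup.eq, mem_subgroupOf, hX,
      Subgroup.coe_mul, Subgroup.coe_inv, map_mul, map_inv]
    rw [mul_inv_eq_iff_eq_mul] at h'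
    rw [h', show α ((w.out : K) : SL2) = α ((w.out : K) : SL2) * ((w.out : K) : SL2)⁻¹ * ((w.out : K) : SL2) by
      rw [inv_mul_cancel_right]]
    group
  have hcard : Nat.card K = Nat.card Z * Nat.card R := by
    have h1 := card_mul_index K
    rw [index_comap_of_surjective _ (QuotientGroup.mk'_surjective Z),
      card_eq_card_quotient_mul_card_subgroup Z, ← card_mul_index R, mul_comm _ (Nat.card Z),
      ← mul_assoc] at h1
    exact Nat.eq_of_mul_eq_mul_right (Nat.pos_of_ne_zero R.index_ne_zero_of_finite) h1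
  have h2 := Cfsg.Lib.Core.card_mul_relIndex hKX
  have h3 : Nat.card Z * 3 ≤ Nat.card X * Nat.card Z :=
    calc Nat.card Z * 3 ≤ Nat.card Z * Nat.card R := Nat.mul_le_mul_left _ hR
      _ = Nat.card X * X.relIndex K := by rw [← hcard, h2]
      _ ≤ Nat.card X * Nat.card Z := Nat.mul_le_mul_left _ hidx
  exact Nat.le_of_mul_le_mul_right (by rwa [mul_comm (Nat.card Z)] at h3) Nat.card_pos

/-- A group with a normal `SL₂(q)`, `q ≥ 5` odd, has no involution with centralizer of order four. -/
theorem sl_no_small_centralizer {K : Type u} [Group K] [Finite K] (hodd : Odd (Fintype.card F))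
    (h5 : 5 ≤ Fintype.card F) (L : Subgroup K) [L.Normal] (e : L ≃* SL2) (v : K) (hv : v * v = 1) : 4 < Nat.card ↥(centralizer ({v} : Set K)) := by
  by_contra hle
  push Not at hle
  let α : MulAut SL2 := MulAut.congr e (MulAut.conjNormal v)
  have hα : α * α = 1 := by rw [← map_mul, ← map_mul, hv, map_one, map_one]
  have hαe : ∀ l : L, α (e l) = e (MulAut.conjNormal v l) := fun l => by
    show e (MulAut.conjNormal v (e.symm (e l))) = _
    rw [e.symm_apply_apply]
  let X : Subgroup SL2 := α.toMonoidHom.eqLocus (MonoidHom.id SL2)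
  have h3 := sl_fixed_three hodd h5 α hα X fun s => Iff.rfl
  set C := L ⊓ centralizer ({v} : Set K)
  have hXC : Nat.card X ≤ Nat.card C := by
    refine Nat.card_le_card_of_injective (fun s => (⟨(e.symm (s : SL2) : K), (e.symm (s : SL2)).2, ?_⟩ : C))
      fun a b h => Subtype.ext (e.symm.injective (Subtype.ext (congrArg Subtype.val h :)))
    have hs : α (s : SL2) = s := s.2
    rw [← e.apply_symm_apply (s : SL2), hαe, e.apply_eq_iff_eq] at hs
    have h' := congrArg Subtype.val hs
    rw [MulAut.conjNormal_apply] at h'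
    exact mem_centralizer_singleton_iff.2 (mul_inv_eq_iff_eq_mul.1 h').symm
  by_cases hvL : v ∈ L
  · -- an involution of `SL₂` is central
    have hw : e ⟨v, hvL⟩ * e ⟨v, hvL⟩ = 1 := by
      rw [← map_mul, show (⟨v, hvL⟩ : L) * ⟨v, hvL⟩ = 1 from Subtype.ext hv, map_one]
    have hwc : e ⟨v, hvL⟩ ∈ center SL2 := by
      by_contra hnc
      have hsq := congrArg Subtype.val hw
      rw [Matrix.SpecialLinearGroup.coe_mul, Matrix.SpecialLinearGroup.coe_one] at hsq
      set M := (e ⟨v, hvL⟩).1 with hM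
      have hdet := (e ⟨v, hvL⟩).2
      rw [Matrix.det_fin_two, ← hM] at hdet
      have e00 := congrFun (congrFun hsq 0) 0
      have e01 := congrFun (congrFun hsq 0) 1
      have e10 := congrFun (congrFun hsq 1) 0
      have e11 := congrFun (congrFun hsq 1) 1
      simp [Matrix.mul_apply, Fin.sum_univ_two] at e00 e01 e10 e11
      -- `M` equals its inverse, the adjugate
      have h2 : (2 : F) ≠ 0 := by
        intro h
        have h' : ringChar F = 2 := by
          refine ((Nat.prime_dvd_prime_iff_eq (CharP.char_is_prime F (ringChar F)) Nat.prime_two).1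
            ((ringChar.spec F 2).1 ?_))
          exact_mod_cast h
        exact Nat.not_even_iff_odd.2 hodd (Nat.even_iff.2 (FiniteField.even_card_iff_char_two.1 h'))
      have t00 : M 0 0 = M 1 1 := by
        linear_combination (-(M 0 0)) * hdet + M 1 1 * e00 - M 1 0 * e01
      have t01 : M 0 1 = 0 := (mul_eq_zero.1 (by
        linear_combination M 1 1 * e01 - M 0 1 * hdet - M 0 1 * e11 : (2 : F) * M 0 1 = 0)).resolve_left h2
      have t10 : M 1 0 = 0 := (mul_eq_zero.1 (by
        linear_combination M 0 0 * e10 - M 1 0 * hdet - M 1 0 * e00 : (2 : F) * M 1 0 = 0)).resolve_left h2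
      refine hnc (Matrix.SpecialLinearGroup.mem_center_iff.2 ⟨M 0 0, ?_, ?_⟩)
      · rw [t01, t10, ← t00] at hdet
        rw [Fintype.card_fin, pow_two]
        linear_combination hdet
      · rw [← hM]
        ext i j
        fin_cases i <;> fin_cases j <;> simp [t00, t01, t10]
    have hLC : L ≤ centralizer ({v} : Set K) := fun l hl => mem_centralizer_singleton_iff.2 (by
      have := mem_center_iff.1 hwc (e ⟨l, hl⟩)
      rw [← map_mul, ← map_mul] at this
      exact congrArg Subtype.val (e.injective this))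
    have h := card_le_of_le hLC
    rw [Nat.card_congr e.toEquiv, Cfsg.Lib.Linear.Two.card_SL_two] at h
    have := Nat.pow_le_pow_left h5 2
    have := Nat.mul_le_mul h5 (show 24 ≤ Fintype.card F ^ 2 - 1 by omega)
    omega
  · have hlt : C < centralizer ({v} : Set K) := lt_of_le_of_ne inf_le_right fun h =>
      hvL ((h.ge (mem_centralizer_singleton_iff.2 rfl) : v ∈ C).1)
    have hd := card_dvd_of_le hlt.le
    have hne : Nat.card C ≠ Nat.card ↥(centralizer ({v} : Set K)) := fun h =>
      hlt.ne (eq_of_le_of_card_ge hlt.le h.ge)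
    obtain ⟨k, hk⟩ := hd
    have hk2 : 2 ≤ k := by
      rcases k with _ | _ | k
      · simp at hk
        have : 0 < Nat.card ↥(centralizer ({v} : Set K)) := Nat.card_pos
        omega
      · simp at hk; exact absurd hk.symm hne
      · omega
    have := Nat.mul_le_mul_left (Nat.card C) hk2
    omega



end Cfsg.Lib.Perm.SubThree
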