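import Cfsg.Agent.Lib.Perm.SuborbitThree.SFour
import Cfsg.Agent.Lib.Perm.SuborbitThree.FourTwo
import Cfsg.Agent.Lib.Small.CentralizerGL23Card
import Cfsg.Agent.Lib.MEleven.Spor
import Cfsg.Agent.S1602
import Cfsg.Agent.S2060

/-!
# Suborbits of length three: the socle is not `M₁₁`
-/

set_option autoImplicit false
set_option linter.style.haveILetI false
set_option linter.unusedSectionVars false

namespace Cfsg.Lib.Perm.SubThree

open Subgroup Cfsg.Lib.Perm.TW Cfsg.Lib.Perm.Window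
open scoped Pointwise

universe u

theorem gl_invol_cls : ∀ x : GL (Fin 2) (ZMod 3), x * x = 1 → x ≠ 1 → x ≠ -1 →
    Cfsg.Lib.Small.CentralizerGL23.cls (x : Matrix (Fin 2) (Fin 2) (ZMod 3)) = 5 := by
  decide +kernel

/-- A copy of `S₅` in a group of order `7920`. -/
theorem exists_sym_five {T : Type u} [Group T] [Finite T] (hT : Cfsg.IsM11 T) :
    ∃ K : Subgroup T, Nonempty (K ≃* Equiv.Perm (Fin 5)) := by
  have hd := Cfsg.Lib.Concrete.squareDodecad_mem
  have hp := Cfsg.Lib.Concrete.zero_mem_squareDodecad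
  obtain ⟨q, q', hq, hq', hqq⟩ : ∃ q q' : Cfsg.GolayPt,
      q ∉ Cfsg.Spor.squareDodecad ∧ q' ∉ Cfsg.Spor.squareDodecad ∧ q ≠ q' := by
    rw [Cfsg.Lib.Concrete.squareDodecad_eq]
    decide +kernel
  obtain ⟨e⟩ := Cfsg.Lib.MEleven.nonempty_mulEquiv hT (Cfsg.Lib.MEleven.isM11_dod_point hd hp)
  obtain ⟨f⟩ := Cfsg.Agent.S1602.result _ hd _ q q' hp hq hq' hqq
  set H := MulAction.stabilizer Cfsg.M24 Cfsg.Spor.squareDodecad ⊓
    MulAction.stabilizer Cfsg.M24 (some 0 : Cfsg.GolayPt)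
  set J := H ⊓ MulAction.stabilizer Cfsg.M24 ({q, q'} : Finset Cfsg.GolayPt)
  exact ⟨(J.subgroupOf H).map e.symm.toMonoidHom,
    ⟨((e.symm.subgroupMap (J.subgroupOf H)).symm.trans (subgroupOfEquivOfLe inf_le_left)).trans f⟩⟩

/-- The four group of the even permutations fixing a point of five. -/
theorem perm_five_facts :
    ∃ a b : Equiv.Perm (Fin 5), a * a = 1 ∧ b * b = 1 ∧ a ≠ 1 ∧ b ≠ 1 ∧ a ≠ b ∧ a * b = b * a ∧
      24 ≤ (Finset.univ.filter fun g : Equiv.Perm (Fin 5) =>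
        (g * a * g⁻¹ = a ∨ g * a * g⁻¹ = b ∨ g * a * g⁻¹ = a * b) ∧
          (g * b * g⁻¹ = a ∨ g * b * g⁻¹ = b ∨ g * b * g⁻¹ = a * b)).card := by
  refine ⟨Equiv.swap 0 1 * Equiv.swap 2 3, Equiv.swap 0 2 * Equiv.swap 1 3, ?_⟩
  decide +kernel

/-- Four groups containing an involution with centralizer `GL(2,3)` are conjugate. -/
theorem four_conj {T : Type u} [Group T] [Finite T] [IsSimpleGroup T] {c : T} (hc : orderOf c = 2)
    (e : ↥(centralizer ({c} : Set T)) ≃* GL (Fin 2) (ZMod 3)) {a b a' b' : T}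
    (ha : orderOf a = 2) (hb : orderOf b = 2) (hab : a ≠ b) (hcomm : a * b = b * a)
    (ha' : orderOf a' = 2) (hb' : orderOf b' = 2) (hab' : a' ≠ b') (hcomm' : a' * b' = b' * a') :
    ∃ g : T, g * a * g⁻¹ = a' ∧ g * b * g⁻¹ = b' := by
  have std : ∀ x y : T, orderOf x = 2 → orderOf y = 2 → x ≠ y → x * y = y * x →
      ∃ g : T, g * x * g⁻¹ = c ∧ ∃ h : ↥(centralizer ({c} : Set T)), (h : T) = g * y * g⁻¹ ∧
        Cfsg.Lib.Small.CentralizerGL23.cls (e h : Matrix (Fin 2) (Fin 2) (ZMod 3)) = 5 := by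
    intro x y hx hy hxy hxyc
    obtain ⟨g, hg⟩ := isConj_iff.1 (Cfsg.Lib.Small.CentralizerGL23.one_class e hc hx)
    have hyc : g * y * g⁻¹ * c = c * (g * y * g⁻¹) := by
      rw [← hg, show g * y * g⁻¹ * (g * x * g⁻¹) = g * (y * x) * g⁻¹ by group, ← hxyc]
      group
    refine ⟨g, hg, ⟨g * y * g⁻¹, mem_centralizer_singleton_iff.2 hyc⟩, rfl, gl_invol_cls _ ?_ ?_ ?_⟩
    · rw [← map_mul, map_eq_one_iff _ e.injective]
      refine Subtype.ext ?_
      show g * y * g⁻¹ * (g * y * g⁻¹) = 1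
      have hy2 : y * y = 1 := by rw [← pow_two, ← hy, pow_orderOf_eq_one]
      rw [show g * y * g⁻¹ * (g * y * g⁻¹) = g * (y * y) * g⁻¹ by group, hy2, mul_one, mul_inv_cancel]
    · rw [Ne, map_eq_one_iff _ e.injective]
      intro h
      have h1 : g * y * g⁻¹ = 1 := congrArg Subtype.val h
      rw [conj_eq_one_iff.1 h1, orderOf_one] at hy
      omega
    · intro h
      refine hxy ?_
      have h1 : e ⟨c, mem_centralizer_singleton_iff.2 rfl⟩ = -1 := by
        have := Cfsg.Lib.Small.CentralizerGL23.emb_neg_one e hc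
        rw [show (⟨c, mem_centralizer_singleton_iff.2 rfl⟩ : ↥(centralizer ({c} : Set T))) = e.symm (-1) from
          Subtype.ext this.symm, e.apply_symm_apply]
      have h2 : g * y * g⁻¹ = c := congrArg Subtype.val (e.injective (h.trans h1.symm))
      rw [← hg] at h2
      exact (mul_left_cancel (mul_right_cancel h2)).symm
  obtain ⟨g₁, hg₁, h₁, hh₁, hc₁⟩ := std a b ha hb hab hcomm
  obtain ⟨g₂, hg₂, h₂, hh₂, hc₂⟩ := std a' b' ha' hb' hab' hcomm'
  have hconj : IsConj (e h₁) (e h₂) :=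
    ((Cfsg.Lib.Small.CentralizerGL23.isConj_repU (e h₁)).symm.trans (by rw [hc₁, ← hc₂])).trans
      (Cfsg.Lib.Small.CentralizerGL23.isConj_repU (e h₂))
  obtain ⟨d, hd⟩ := isConj_iff.1 hconj
  set d' : ↥(centralizer ({c} : Set T)) := e.symm d
  have hd' : d' * h₁ * d'⁻¹ = h₂ := e.injective (by rw [map_mul, map_mul, map_inv, e.apply_symm_apply, hd])
  have hdc : (d' : T) * c * (d' : T)⁻¹ = c :=
    mul_inv_eq_iff_eq_mul.2 (mem_centralizer_singleton_iff.1 d'.2)
  refine ⟨g₂⁻¹ * (d' : T) * g₁, ?_, ?_⟩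
  · calc g₂⁻¹ * (d' : T) * g₁ * a * (g₂⁻¹ * (d' : T) * g₁)⁻¹
        = g₂⁻¹ * ((d' : T) * (g₁ * a * g₁⁻¹) * (d' : T)⁻¹) * g₂ := by group
      _ = a' := by rw [hg₁, hdc, ← hg₂]; group
  · have hd'' : (d' : T) * (h₁ : T) * (d' : T)⁻¹ = (h₂ : T) := congrArg Subtype.val hd'
    calc g₂⁻¹ * (d' : T) * g₁ * b * (g₂⁻¹ * (d' : T) * g₁)⁻¹
        = g₂⁻¹ * ((d' : T) * (g₁ * b * g₁⁻¹) * (d' : T)⁻¹) * g₂ := by group
      _ = b' := by rw [← hh₁, hd'', hh₂]; group

/-- **The normalizer of a self-centralizing four group is not maximal.** -/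
theorem SFour.normalizer_not_coatom {T : Type u} [Group T] [Finite T] [IsSimpleGroup T] {V V' P : Subgroup T}
    (h : SFour V V' P) (hT : Cfsg.IsM11 T) {c : T} (hc : orderOf c = 2)
    (e : ↥(centralizer ({c} : Set T)) ≃* GL (Fin 2) (ZMod 3)) :
    ¬ IsCoatom (normalizer (V : Set T)) := by
  classical
  intro hco
  obtain ⟨K, ⟨f⟩⟩ := exists_sym_five hT
  obtain ⟨a, b, ha, hb, ha1, hb1, hab, hcomm, hcard⟩ := perm_five_facts
  haveI : Fact (Nat.Prime 2) := ⟨Nat.prime_two⟩
  have hord : ∀ x : Equiv.Perm (Fin 5), x * x = 1 → x ≠ 1 → orderOf ((f.symm x : K) : T) = 2 := fun x h1 h2 => by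
    rw [Subgroup.orderOf_coe, MulEquiv.orderOf_eq]
    exact orderOf_eq_prime (by rw [pow_two, h1]) h2
  set a0 : T := ((f.symm a : K) : T)
  set b0 : T := ((f.symm b : K) : T)
  obtain ⟨v, hv, hv1⟩ : ∃ v ∈ V, v ≠ 1 := by
    by_contra hcon
    push Not at hcon
    have hle : V ≤ ⊥ := fun x hx => mem_bot.2 (hcon x hx)
    have := card_le_of_le hle
    rw [h.four, card_bot] at this
    omega
  obtain ⟨w, hw, hwv⟩ : ∃ w ∈ V, w ∉ zpowers v := Set.not_subset.1 fun hs => by
    have := card_le_of_le (H := V) (K := zpowers v) hs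
    rw [h.four, Nat.card_zpowers, orderOf_eq_prime (by rw [pow_two]; exact h.sq v hv) hv1] at this
    omega
  have hw1 : w ≠ 1 := fun e' => hwv (e' ▸ one_mem _)
  have hvw : v ≠ w := fun e' => hwv (e' ▸ mem_zpowers v)
  have hvwc : v * w = w * v := mem_centralizer_iff.1 (h.cent.ge hw) v hv
  obtain ⟨g, hg1, hg2⟩ := four_conj hc e (orderOf_eq_prime (by rw [pow_two]; exact h.sq v hv) hv1)
    (orderOf_eq_prime (by rw [pow_two]; exact h.sq w hw) hw1) hvw hvwc (hord a ha ha1) (hord b hb hb1)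
    (fun e' => hab (f.symm.injective (Subtype.ext e')))
    (congrArg Subtype.val (by rw [← map_mul, ← map_mul, hcomm] : f.symm a * f.symm b = f.symm b * f.symm a))
  set N := normalizer (V : Set T)
  set M := N.map (MulAut.conj g).toMonoidHom
  have hVall : ∀ y ∈ V, y = 1 ∨ y = v ∨ y = w ∨ y = v * w := by
    intro y hy
    by_contra hno
    push Not at hno
    haveI := Fintype.ofFinite V
    have e1 : v * w ≠ 1 := fun e' => hvw (by
      rw [mul_eq_one_iff_eq_inv, inv_eq_of_mul_eq_one_right (h.sq w hw)] at e'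
      exact e')
    have e2 : v * w ≠ v := fun e' => hw1 (mul_eq_left.1 e')
    have e3 : v * w ≠ w := fun e' => hv1 (mul_eq_right.1 e')
    have h5 : ({⟨1, V.one_mem⟩, ⟨v, hv⟩, ⟨w, hw⟩, ⟨v * w, V.mul_mem hv hw⟩, ⟨y, hy⟩} : Finset V).card = 5 := by
      simp [Subtype.ext_iff, hv1.symm, hw1.symm, hvw, e1.symm, e2.symm, e3.symm, hno.1.symm,
        hno.2.1.symm, hno.2.2.1.symm, hno.2.2.2.symm]
    have := Finset.card_le_univ
      ({⟨1, V.one_mem⟩, ⟨v, hv⟩, ⟨w, hw⟩, ⟨v * w, V.mul_mem hv hw⟩, ⟨y, hy⟩} : Finset V)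
    rw [h5, ← Nat.card_eq_fintype_card, h.four] at this
    omega
  have hM : M = normalizer (V.map (MulAut.conj g).toMonoidHom : Set T) :=
    map_equiv_normalizer_eq V (MulAut.conj g)
  -- the normalizer inside `K` fills the normalizer
  set X := Finset.univ.filter fun x : Equiv.Perm (Fin 5) =>
    (x * a * x⁻¹ = a ∨ x * a * x⁻¹ = b ∨ x * a * x⁻¹ = a * b) ∧
      (x * b * x⁻¹ = a ∨ x * b * x⁻¹ = b ∨ x * b * x⁻¹ = a * b)
  have hXM : ∀ x ∈ X, ((f.symm x : K) : T) ∈ M ⊓ K := by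
    intro x hx
    obtain ⟨hxa, hxb⟩ := (Finset.mem_filter.1 hx).2
    refine ⟨?_, (f.symm x).2⟩
    rw [hM]
    have hV' : ∀ y, (y = a ∨ y = b ∨ y = a * b) → ((f.symm y : K) : T) ∈ V.map (MulAut.conj g).toMonoidHom := by
      rintro y (rfl | rfl | rfl)
      · exact ⟨v, hv, hg1⟩
      · exact ⟨w, hw, hg2⟩
      · refine ⟨v * w, V.mul_mem hv hw, ?_⟩
        rw [map_mul, map_mul, Subgroup.coe_mul]
        exact congrArg₂ (· * ·) hg1 hg2
    refine Cfsg.Lib.Core.mem_normalizer_iff_map_conj.2 (eq_of_le_of_card_ge ?_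
      (card_map_of_injective (MulAut.conj _).injective).ge)
    rintro _ ⟨_, ⟨y, hy, rfl⟩, rfl⟩
    have hxy : ∀ y0, (y0 = a ∨ y0 = b) →
        MulAut.conj ((f.symm x : K) : T) ((f.symm y0 : K) : T) ∈ V.map (MulAut.conj g).toMonoidHom := by
      intro y0 hy0
      have e' : MulAut.conj ((f.symm x : K) : T) ((f.symm y0 : K) : T) = ((f.symm (x * y0 * x⁻¹) : K) : T) := by
        rw [map_mul, map_mul, map_inv]
        rfl
      rw [e']
      refine hV' _ ?_
      rcases hy0 with rfl | rfl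
      · exact hxa
      · exact hxb
    rcases hVall y hy with rfl | rfl | rfl | rfl
    · simp
    · have := hxy a (Or.inl rfl)
      rwa [show ((f.symm a : K) : T) = _ from hg1.symm] at this
    · have := hxy b (Or.inr rfl)
      rwa [show ((f.symm b : K) : T) = _ from hg2.symm] at this
    · rw [map_mul, map_mul]
      refine mul_mem ?_ ?_
      · have := hxy a (Or.inl rfl)
        rwa [show ((f.symm a : K) : T) = _ from hg1.symm] at this
      · have := hxy b (Or.inr rfl)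
        rwa [show ((f.symm b : K) : T) = _ from hg2.symm] at this
  have hMK : 24 ≤ Nat.card ↥(M ⊓ K) := by
    refine hcard.trans ?_
    rw [← Nat.card_eq_finsetCard]
    exact Nat.card_le_card_of_injective (fun x => (⟨((f.symm (x : Equiv.Perm (Fin 5)) : K) : T), hXM x x.2⟩ : ↥(M ⊓ K)))
      fun x y hxy => Subtype.ext (f.symm.injective (Subtype.ext (congrArg Subtype.val hxy :)))
  have hM24 : Nat.card M = 24 := by rw [card_map_of_injective (MulAut.conj g).injective, h.card_norm]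
  have hMK' : M ≤ K := (eq_of_le_of_card_ge (inf_le_left : M ⊓ K ≤ M) (by rw [hM24]; exact hMK)).ge.trans inf_le_right
  have hK120 : Nat.card K = 120 := by
    rw [Nat.card_congr f.toEquiv, Nat.card_perm, Nat.card_fin]
    rfl
  have hNK : N < K.comap (MulAut.conj g).toMonoidHom := by
    refine lt_of_le_of_ne (map_le_iff_le_comap.1 hMK') fun e' => ?_
    have hKM : K = M := by
      show K = N.map (MulAut.conj g).toMonoidHom
      rw [e', map_comap_eq_self_of_surjective (MulAut.conj g).surjective]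
    rw [hKM, hM24] at hK120
    omega
  have htop := hco.2 _ hNK
  have hK : K = ⊤ := by
    rw [← map_comap_eq_self_of_surjective (f := (MulAut.conj g).toMonoidHom) (MulAut.conj g).surjective K,
      htop, map_top_of_surjective _ (MulAut.conj g).surjective]
  rw [hK, Subgroup.card_top, hT.2] at hK120
  omega

/-- The centre of `S₄` is trivial. -/
theorem perm_four_center : ∀ σ : Equiv.Perm (Fin 4), (∀ τ, σ * τ = τ * σ) → σ = 1 := by decide +kernel

/-- `n = 4`: the socle is not `M₁₁`. -/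
theorem Setup.four_eleven_false {G : Type u} [Group G] [Finite G] {t : ℤ → G} {T : Subgroup G}
    (hS : Setup 4 t T) (h2T : t 2 ∉ T) (eD : ↥(T ⊓ seg t 0 (4 + 1)) ≃* Equiv.Perm (Fin 4))
    (hM : Cfsg.Spor.IsoM11 ↥T) : False := by
  haveI := hS.normal
  haveI := hS.simple
  obtain ⟨φ⟩ := hM
  set z := t 2
  set D := T ⊓ seg t 0 (4 + 1)
  let β : MulAut Cfsg.Spor.M11 := MulAut.congr φ (MulAut.conjNormal z)
  have hin : β ∈ Cfsg.Inn Cfsg.Spor.M11 := by
    haveI := (Nat.card_eq_one_iff_unique.1 Cfsg.Agent.S2060.result).1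
    exact (QuotientGroup.eq_one_iff β).1 (Subsingleton.elim _ _)
  obtain ⟨u0, hu0⟩ := hin
  set u : T := φ.symm u0
  have hzu : ∀ y : T, (z : G) * y * z⁻¹ = (u : G) * y * (u : G)⁻¹ := by
    intro y
    have h1 := DFunLike.congr_fun hu0 (φ y)
    have h2 : β (φ y) = φ (MulAut.conjNormal z y) := by
      show φ (MulAut.conjNormal z (φ.symm (φ y))) = _
      rw [φ.symm_apply_apply]
    rw [h2, MulAut.conj_apply, ← φ.apply_symm_apply u0, ← map_mul, ← map_inv, ← map_mul,
      φ.apply_eq_iff_eq] at h1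
    have h3 := congrArg Subtype.val h1
    rw [MulAut.conjNormal_apply] at h3
    exact h3.symm
  have hCz : centralizer ({z} : Set G) = seg t 0 (4 + 1) := by
    have := hS.centralizer_four 0
    rwa [zero_add] at this
  have hu1 : u = 1 := by
    have huc : ∀ x : G, x ∈ D → (u : G) * x = x * u := by
      intro x hx
      have h1 := hzu ⟨x, hx.1⟩
      rw [show z * x * z⁻¹ = x from mul_inv_eq_iff_eq_mul.2 (mem_centralizer_singleton_iff.1 (hCz.ge hx.2)).symm] at h1
      exact (mul_inv_eq_iff_eq_mul.1 h1.symm)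
    have huD : (u : G) ∈ D := by
      refine ⟨u.2, hCz.le (mem_centralizer_singleton_iff.2 ?_)⟩
      have h1 := hzu u
      rw [mul_inv_cancel_right] at h1
      exact (mul_inv_eq_iff_eq_mul.1 h1).symm
    have h1 := perm_four_center (eD ⟨u, huD⟩) fun τ => by
      obtain ⟨y, rfl⟩ := eD.surjective τ
      rw [← map_mul, ← map_mul]
      exact congrArg eD (Subtype.ext (huc _ y.2))
    rw [map_eq_one_iff _ eD.injective] at h1
    exact Subtype.ext (congrArg Subtype.val h1 :)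
  have hz : z ∈ centralizer (T : Set G) := mem_centralizer_iff.2 fun y hy => by
    have h1 := hzu ⟨y, hy⟩
    rw [hu1] at h1
    simp only [OneMemClass.coe_one, one_mul, inv_one, mul_one] at h1
    exact (mul_inv_eq_iff_eq_mul.1 h1).symm
  rw [hS.cent, mem_bot] at hz
  exact h2T (hz ▸ T.one_mem)

end Cfsg.Lib.Perm.SubThree
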