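import Cfsg.Agent.Lib.Perm.SuborbitThree.SFour
import Cfsg.Agent.Lib.Perm.SuborbitThree.CentralizerShape
import Cfsg.Agent.Lib.GW.QGroupCommutator
import Cfsg.Agent.Lib.Sig.PConstrained

/-!
# Suborbits of length three: quasidihedral Sylow subgroups
-/

set_option autoImplicit false
set_option linter.style.haveILetI false
set_option linter.unusedSectionVars false

namespace Cfsg.Lib.Perm.SubThree

open Subgroup

universe u

/-- **An involution centralizer is `GL(2,3)` modulo a normal subgroup of odd order.** -/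
theorem SFour.centralizer_hom {T : Type u} [Group T] [Finite T] [IsSimpleGroup T]
    {V V' P : Subgroup T} (h : SFour V V' P) (hna : ¬ IsMulCommutative T) (S : Sylow 2 T)
    (hPS : P ≤ (S : Subgroup T)) (hqd : Cfsg.IsQuasiDihedral (S : Subgroup T)) :
    ∃ (c : T) (f : ↥(centralizer ({c} : Set T)) →* GL (Fin 2) (ZMod 3))
      (w : ↥(centralizer ({c} : Set T))),
      orderOf c = 2 ∧ Function.Surjective f ∧ Odd (Nat.card f.ker) ∧ orderOf w = 2 ∧ (w : T) ≠ c ∧
        Nat.card ↥(centralizer ({c, (w : T)} : Set T)) = 4 := by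
  classical
  haveI : Fact (Nat.Prime 2) := ⟨Nat.prime_two⟩
  have h16 := h.sixteen S
  obtain ⟨v, hv, hv1, hCS⟩ := h.small_centralizer hPS
  have hvS : v ∈ (S : Subgroup T) := hPS (h.le hv)
  -- a central involution of the Sylow subgroup
  haveI : Nontrivial ↥(S : Subgroup T) := Finite.one_lt_card_iff_nontrivial.1 (by omega)
  haveI := S.2.center_nontrivial
  have h2 : 2 ∣ Nat.card ↥(center ↥(S : Subgroup T)) := by
    obtain ⟨j, hj⟩ := (S.2.to_subgroup (center ↥(S : Subgroup T))).exists_card_eq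
    have h1 := Finite.one_lt_card (α := ↥(center ↥(S : Subgroup T)))
    rw [hj] at h1 ⊢
    exact dvd_pow_self 2 fun h0 => by rw [h0] at h1; simp at h1
  obtain ⟨c0, hc0⟩ := exists_prime_orderOf_dvd_card' (G := ↥(center ↥(S : Subgroup T))) 2 h2
  set c : T := ((c0 : ↥(S : Subgroup T)) : T) with hcd
  have hco : orderOf c = 2 := by rw [hcd, Subgroup.orderOf_coe, Subgroup.orderOf_coe, hc0]
  have hcS : ∀ s ∈ (S : Subgroup T), s * c = c * s := fun s hs =>
    congrArg Subtype.val (mem_center_iff.1 c0.2 ⟨s, hs⟩)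
  have hcV : c ∈ V := hCS.le ⟨(c0 : ↥(S : Subgroup T)).2, mem_centralizer_singleton_iff.2 (hcS v hvS).symm⟩
  have hc1 : c ≠ 1 := fun h1 => by rw [h1, orderOf_one] at hco; omega
  have hvc : v ≠ c := fun e => by
    have hle : (S : Subgroup T) ≤ V := fun s hs => hCS.le ⟨hs, mem_centralizer_singleton_iff.2 (e ▸ hcS s hs)⟩
    have := card_le_of_le hle
    rw [h.four] at this
    omega
  -- the centralizer of the pair
  have hVall : ∀ x ∈ V, x = 1 ∨ x = c ∨ x = v ∨ x = c * v := by
    intro x hx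
    by_contra hno
    push Not at hno
    haveI := Fintype.ofFinite V
    have e1 : c * v ≠ 1 := fun h' => hvc (by
      rw [mul_eq_one_iff_eq_inv, inv_eq_of_mul_eq_one_right (h.sq v hv)] at h'
      exact h'.symm)
    have e2 : c * v ≠ c := fun h' => hv1 (mul_eq_left.1 h')
    have e3 : c * v ≠ v := fun h' => hc1 (mul_eq_right.1 h')
    have h5 : ({⟨1, V.one_mem⟩, ⟨c, hcV⟩, ⟨v, hv⟩, ⟨c * v, V.mul_mem hcV hv⟩, ⟨x, hx⟩} : Finset V).card = 5 := by
      simp [Subtype.ext_iff, hc1.symm, hv1.symm, hvc.symm, e1.symm, e2.symm, e3.symm, hno.1.symm,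
        hno.2.1.symm, hno.2.2.1.symm, hno.2.2.2.symm]
    have := Finset.card_le_univ
      ({⟨1, V.one_mem⟩, ⟨c, hcV⟩, ⟨v, hv⟩, ⟨c * v, V.mul_mem hcV hv⟩, ⟨x, hx⟩} : Finset V)
    rw [h5, ← Nat.card_eq_fintype_card, h.four] at this
    omega
  have hpair : centralizer ({c, v} : Set T) = V := by
    refine le_antisymm (fun y hy => h.cent.le (mem_centralizer_iff.2 fun x hx => ?_)) fun y hy =>
      mem_centralizer_iff.2 fun x hx => ?_
    · have hcy : c * y = y * c := mem_centralizer_iff.1 hy c (Or.inl rfl)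
      have hvy : v * y = y * v := mem_centralizer_iff.1 hy v (Or.inr rfl)
      rcases hVall x hx with rfl | rfl | rfl | rfl
      · rw [one_mul, mul_one]
      · exact hcy
      · exact hvy
      · rw [mul_assoc, hvy, ← mul_assoc, hcy, mul_assoc]
    · have hxV : x ∈ V := by
        rcases hx with rfl | hx
        · exact hcV
        · rw [Set.mem_singleton_iff] at hx; exact hx ▸ hv
      exact mem_centralizer_iff.1 (h.cent.ge hy) x hxV
  -- the quotient by the odd core
  have hG : ∀ H : Subgroup T, H.index ≠ 2 := fun H hH => by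
    haveI := normal_of_index_eq_two hH
    rcases ‹H.Normal›.eq_bot_or_eq_top with h' | h'
    · refine hna ?_
      haveI : IsCyclic T := isCyclic_of_prime_card (p := 2) (by rwa [h', index_bot] at hH)
      exact IsCyclic.isMulCommutative
    · rw [h', index_top] at hH
      omega
  obtain ⟨F, hF, hFf, hodd, ⟨e⟩⟩ :=
    Cfsg.Lib.GW.centralizer_mod_core_commutator Cfsg.Lib.GW.simpleGW S (Or.inl hqd) hG c hco
  set C := centralizer ({c} : Set T)
  set O := Cfsg.oddCore ↥C
  have hOcop : (Nat.card O).Coprime 2 := Cfsg.Lib.Core.pPrimeCore_coprime 2 _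
  have hvC : v ∈ C := mem_centralizer_singleton_iff.2 (hcS v hvS)
  set π := QuotientGroup.mk' O
  set vb := π ⟨v, hvC⟩ with hvb
  have hvv : (⟨v, hvC⟩ : C) * ⟨v, hvC⟩ = 1 := Subtype.ext (h.sq v hv)
  have hv2 : vb * vb = 1 := by rw [hvb, ← map_mul, hvv, map_one]
  have hvo : orderOf (⟨v, hvC⟩ : C) = 2 := by
    rw [Subgroup.orderOf_mk]
    exact orderOf_eq_prime (by rw [pow_two]; exact h.sq v hv) hv1
  have h4 : Nat.card ↥(centralizer ({vb} : Set (↥C ⧸ O))) ≤ 4 := by
    have hP : IsPGroup 2 ↥(zpowers (⟨v, hvC⟩ : C)) :=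
      IsPGroup.of_card (n := 1) (by rw [Nat.card_zpowers, hvo, pow_one])
    have he := Cfsg.Lib.Sig.centralizer_map_mk' O hOcop hP
    rw [MonoidHom.map_zpowers, zpowers_eq_closure (π ⟨v, hvC⟩), centralizer_closure] at he
    rw [hvb, he]
    refine (Nat.le_of_dvd Nat.card_pos (card_map_dvd _ _)).trans ?_
    rw [← h.four, ← hpair]
    refine Nat.card_le_card_of_injective
      (fun x => (⟨((x : C) : T), mem_centralizer_iff.2 ?_⟩ : ↥(centralizer ({c, v} : Set T))))
      (fun a b hab => Subtype.ext (Subtype.ext (congrArg Subtype.val hab :)))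
    rintro y (rfl | hy)
    · exact (mem_centralizer_singleton_iff.1 (x : C).2).symm
    · rw [Set.mem_singleton_iff.1 hy]
      exact congrArg Subtype.val (mem_centralizer_iff.1 x.2 ⟨v, hvC⟩ (mem_zpowers _))
  have hSC : (S : Subgroup T) ≤ C := fun s hs => mem_centralizer_singleton_iff.2 (hcS s hs)
  have h16C : 16 ∣ Nat.card (↥C ⧸ O) := by
    have h1 : Nat.card ↥(S : Subgroup T) ∣ Nat.card ↥C := card_dvd_of_le hSC
    obtain ⟨j, hj⟩ := S.2.exists_card_eq
    rw [card_eq_card_quotient_mul_card_subgroup O, hj] at h1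
    have h2 : (2 : ℕ) ^ j ∣ Nat.card (↥C ⧸ O) :=
      (Nat.Coprime.pow_left j hOcop.symm).dvd_of_dvd_mul_right h1
    rw [hj] at h16
    have hj4 : 4 ≤ j := by
      by_contra hlt
      have := Nat.pow_le_pow_right (show 1 ≤ 2 by norm_num) (show j ≤ 3 by omega)
      omega
    exact (show 16 ∣ 2 ^ j from pow_dvd_pow 2 hj4).trans h2
  obtain ⟨g⟩ := nonempty_gl_of_sl (K := ↥C ⧸ O) hodd Cfsg.Lib.Core.pPrimeCore_quotient_eq_bot h16C
    (commutator (↥C ⧸ O)) le_rfl e vb hv2 h4
  refine ⟨c, g.toMonoidHom.comp π, ⟨v, hvC⟩, hco, g.surjective.comp (QuotientGroup.mk'_surjective O), ?_, hvo,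
    hvc, ?_⟩
  · have hker : (g.toMonoidHom.comp π).ker = O := by
      rw [← MonoidHom.comap_ker, g.toMonoidHom.ker_eq_bot_iff.2 g.injective, MonoidHom.comap_bot,
        QuotientGroup.ker_mk']
    rw [hker]
    exact Nat.coprime_two_right.1 hOcop
  · rw [show centralizer ({c, v} : Set T) = V from hpair, h.four]

end Cfsg.Lib.Perm.SubThree
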