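import Cfsg.Agent.Lib.Perm.SuborbitThree.SFourDihedral
import Cfsg.Agent.Lib.Perm.SuborbitThree.SFourSD
import Cfsg.Agent.Lib.Perm.SuborbitThree.SFourEleven
import Cfsg.Agent.Lib.Small.LThreeThreeRecog

/-!
# Insoluble primitive groups with a suborbit of length three: the case `D ≅ S₄` and the list
-/

set_option autoImplicit false
set_option linter.style.haveILetI false
set_option linter.unusedSectionVars false

namespace Cfsg.Lib.Perm.SubThree

open Subgroup Cfsg.Lib.Perm.TW Cfsg.Lib.Perm.Window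
open scoped Pointwise

universe u

/-- The kernel of a projection of an involution centralizer onto `GL(2,3)` with odd kernel, in a simple
group with an involution of the centralizer whose joint centralizer has order four. -/
def CoreTrivial : Prop :=
  ∀ (T : Type u) [Group T] [Finite T] [IsSimpleGroup T] (t : T), orderOf t = 2 →
    ∀ f : ↥(centralizer ({t} : Set T)) →* GL (Fin 2) (ZMod 3), Function.Surjective f →
      Odd (Nat.card f.ker) → ∀ v : ↥(centralizer ({t} : Set T)), orderOf v = 2 → (v : T) ≠ t →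
        Nat.card ↥(centralizer ({t, (v : T)} : Set T)) = 4 → f.ker = ⊥

/-- With quasidihedral Sylow subgroups the group is `PSL₃(3)` or `M₁₁`. -/
theorem SFour.quasidihedral_cases (hcore : CoreTrivial.{u}) {T : Type u} [Group T] [Finite T]
    [IsSimpleGroup T] {V V' P : Subgroup T} (h : SFour V V' P) (hna : ¬ IsMulCommutative T)
    (S : Sylow 2 T) (hqd : Cfsg.IsQuasiDihedral (S : Subgroup T)) :
    Nonempty (T ≃* Matrix.ProjectiveSpecialLinearGroup (Fin 3) (ZMod 3)) ∨
      ∃ c : T, orderOf c = 2 ∧ Cfsg.IsM11 T ∧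
        Nonempty (↥(centralizer ({c} : Set T)) ≃* GL (Fin 2) (ZMod 3)) := by
  haveI : Fact (Nat.Prime 2) := ⟨Nat.prime_two⟩
  obtain ⟨R, hR⟩ := (IsPGroup.of_card (p := 2) (n := 3) (by rw [h.eight]; rfl) : IsPGroup 2 P).exists_le_sylow
  have hqdR : Cfsg.IsQuasiDihedral (R : Subgroup T) := SFour.isQuasiDihedral_of_equiv (S.equiv R) hqd
  obtain ⟨c, f, w, hc, hf, hodd, hw, hwc, h4⟩ := h.centralizer_hom hna R hR hqdR
  let e : ↥(centralizer ({c} : Set T)) ≃* GL (Fin 2) (ZMod 3) :=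
    MulEquiv.ofBijective f ⟨f.ker_eq_bot_iff.1 (hcore T c hc f hf hodd w hw hwc h4), hf⟩
  rcases Cfsg.Lib.Small.CentralizerGL23.card_eq e hc with h' | h'
  · exact Or.inl (Cfsg.Lib.Small.LThreeThree.nonempty_equiv_PSL e hc h')
  · exact Or.inr ⟨c, hc, ⟨inferInstance, h'⟩, ⟨e⟩⟩

namespace Setup

variable {G : Type u} [Group G] [Finite G] {t : ℤ → G} {T : Subgroup G}

/-- `n = 3`: `PSL₂(p)` or `PSL₃(3)`. -/
theorem case_three (hcore : CoreTrivial.{u}) (hS : Setup 3 t T) :
    (∃ p : ℕ, p.Prime ∧ (p % 16 = 1 ∨ p % 16 = 15) ∧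
      Nonempty (G ≃* Matrix.ProjectiveSpecialLinearGroup (Fin 2) (ZMod p))) ∨
    Nonempty (G ≃* Matrix.ProjectiveSpecialLinearGroup (Fin 3) (ZMod 3)) := by
  haveI : Fact (Nat.Prime 2) := ⟨Nat.prime_two⟩
  haveI := hS.simple
  have hT := hS.top_three
  obtain ⟨eH⟩ := hS.iso_three
  have hTH : T ⊓ seg t 0 (3 + 1) = seg t 0 (3 + 1) := by rw [hT, top_inf_eq]
  obtain ⟨V, V', P, h, hN⟩ := hS.exists_sfour ((MulEquiv.subgroupCongr hTH).trans eH)
  obtain ⟨S⟩ : Nonempty (Sylow 2 T) := inferInstance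
  let eT : G ≃* T := topEquiv.symm.trans (MulEquiv.subgroupCongr hT.symm)
  rcases h.sylow_cases S with ⟨m, hm, ⟨f⟩⟩ | hqd
  · exact Or.inl (hS.case_three_dihedral h (sylowDihedral_of_one S hm f))
  · rcases h.quasidihedral_cases hcore hS.nonab S hqd with ⟨⟨f⟩⟩ | ⟨c, hc, hM, ⟨f⟩⟩
    · exact Or.inr ⟨eT.trans f⟩
    · refine absurd ?_ (h.normalizer_not_coatom hM hc f)
      rw [hN, hTH]
      have hco := hS.prim.coatom
      refine ⟨fun e' => hco.1 ?_, fun b hb => ?_⟩
      · rw [eq_top_iff]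
        intro x _
        exact (e'.ge (mem_top (⟨x, hT.ge (mem_top x)⟩ : T)) :)
      · have hlt : seg t 0 (3 + 1) < b.map T.subtype := by
          have := (map_lt_map_iff_of_injective T.subtype_injective).2 hb
          rwa [subgroupOf_map_subtype, inf_comm, hTH] at this
        have htop := hco.2 _ hlt
        refine eq_top_iff.2 fun x _ => ?_
        obtain ⟨y, hy, hyx⟩ := htop.ge (mem_top (x : G))
        rwa [← T.subtype_injective hyx]

/-- `n = 4`: an extension of `PSL₃(3)` of degree two. -/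
theorem case_four (hcore : CoreTrivial.{u}) (hS : Setup 4 t T) :
    ∃ N : Subgroup G, N.Normal ∧ N.index = 2 ∧ centralizer (N : Set G) = ⊥ ∧
      Nonempty (N ≃* Matrix.ProjectiveSpecialLinearGroup (Fin 3) (ZMod 3)) := by
  haveI : Fact (Nat.Prime 2) := ⟨Nat.prime_two⟩
  haveI := hS.simple
  obtain hT | ⟨hidx, h2T, ⟨eD⟩⟩ := hS.cases_four
  · exact (hS.false_four_inner hT).elim
  obtain ⟨V, V', P, h, -⟩ := hS.exists_sfour eD
  obtain ⟨S⟩ : Nonempty (Sylow 2 T) := inferInstance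
  refine ⟨T, hS.normal, hidx, hS.cent, ?_⟩
  rcases h.sylow_cases S with ⟨m, hm, ⟨f⟩⟩ | hqd
  · exact (hS.four_dihedral_false h2T eD h (sylowDihedral_of_one S hm f)).elim
  · rcases h.quasidihedral_cases hcore hS.nonab S hqd with hf | ⟨c, hc, hM, -⟩
    · exact hf
    · exact (hS.four_eleven_false h2T eD (Cfsg.Lib.MEleven.isoM11 hM)).elim

end Setup

/-- **Insoluble primitive groups with a suborbit of length three.** -/
theorem list_of_suborbit_three (hcore : CoreTrivial.{u}) {G : Type u} [Group G] [Finite G] {Ω : Type*}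
    [MulAction G Ω] [FaithfulSMul G Ω] (hsol : ¬ Group.IsSolvable G)
    (hprim : MulAction.IsPreprimitive G Ω) (a b : Ω)
    (h3 : Nat.card (MulAction.orbit (MulAction.stabilizer G a) b) = 3) :
    Nonempty (G ≃* alternatingGroup (Fin 5)) ∨ Nonempty (G ≃* Equiv.Perm (Fin 5)) ∨
      Nonempty (G ≃* GL (Fin 2) (ZMod 7) ⧸ Subgroup.center (GL (Fin 2) (ZMod 7))) ∨
      Nonempty (G ≃* Matrix.ProjectiveSpecialLinearGroup (Fin 2) (ZMod 11)) ∨
      Nonempty (G ≃* Matrix.ProjectiveSpecialLinearGroup (Fin 2) (ZMod 13)) ∨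
      (∃ p : ℕ, p.Prime ∧ (p % 16 = 1 ∨ p % 16 = 15) ∧
        Nonempty (G ≃* Matrix.ProjectiveSpecialLinearGroup (Fin 2) (ZMod p))) ∨
      Nonempty (G ≃* Matrix.ProjectiveSpecialLinearGroup (Fin 3) (ZMod 3)) ∨
      (∃ N : Subgroup G, N.Normal ∧ N.index = 2 ∧ Subgroup.centralizer (N : Set G) = ⊥ ∧
        Nonempty (N ≃* Matrix.ProjectiveSpecialLinearGroup (Fin 3) (ZMod 3))) := by
  obtain ⟨n, t, T, hS⟩ := exists_setup hsol hprim a b h3
  have hle := hS.vertex.n_le_four
  have hpos := hS.vertex.pos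
  interval_cases n
  · exact Or.inl hS.case_one
  · rcases hS.cases_two with hT | ⟨hidx, h6⟩
    · rcases hS.case_two_inner hT with h | h
      · exact Or.inr (Or.inr (Or.inr (Or.inl h)))
      · exact Or.inr (Or.inr (Or.inr (Or.inr (Or.inl h))))
    · rcases hS.case_two_outer hidx h6 with h | h
      · exact Or.inr (Or.inl h)
      · exact Or.inr (Or.inr (Or.inl h))
  · rcases hS.case_three hcore with h | h
    · exact Or.inr (Or.inr (Or.inr (Or.inr (Or.inr (Or.inl h)))))
    · exact Or.inr (Or.inr (Or.inr (Or.inr (Or.inr (Or.inr (Or.inl h))))))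
  · exact Or.inr (Or.inr (Or.inr (Or.inr (Or.inr (Or.inr (Or.inr (hS.case_four hcore)))))))

end Cfsg.Lib.Perm.SubThree
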