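import Cfsg.Agent.Lib.Perm.SuborbitThree.Socle
import Cfsg.Agent.Lib.Perm.SubdegreeThree
import Cfsg.Agent.Lib.Perm.WindowTypes

/-!
# Suborbits of length three: the socle and its intersection with a point stabilizer
-/

set_option autoImplicit false
set_option linter.style.haveILetI false
set_option linter.unusedSectionVars false

namespace Cfsg.Lib.Perm.SubThree

open Subgroup Cfsg.Lib.Perm.TW Cfsg.Lib.Perm.Window
open scoped Pointwise

universe u

variable {G : Type u} [Group G] [Finite G]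

/-- A window sequence of a point stabilizer `seg t 0 (n + 1)` in an insoluble group, with the socle. -/
structure Setup (n : ℕ) (t : ℤ → G) (T : Subgroup G) : Prop where
  vertex : Vertex n t
  prim : Prim (seg t 0 (n + 1))
  normal : T.Normal
  simple : IsSimpleGroup T
  nonab : ¬ IsMulCommutative T
  cent : centralizer (T : Set G) = ⊥
  sup : T ⊔ seg t 0 (n + 1) = ⊤
  self : T ⊓ normalizer ((T ⊓ seg t 0 (n + 1) : Subgroup G) : Set G) = T ⊓ seg t 0 (n + 1)
  nab : ¬ IsMulCommutative ↥(T ⊓ seg t 0 (n + 1))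

/-- A group of order less than six is abelian. -/
theorem six_le_card_of_noncomm {K : Type*} [Group K] [Finite K] (h : ¬ IsMulCommutative K) :
    6 ≤ Nat.card K := by
  by_contra hlt
  push Not at hlt
  have hpos : 0 < Nat.card K := Nat.card_pos
  refine h ?_
  have hp : ∀ p : ℕ, p.Prime → Nat.card K = p → IsMulCommutative K := fun p hp hc => by
    haveI : Fact p.Prime := ⟨hp⟩
    haveI : IsCyclic K := isCyclic_of_prime_card hc
    exact IsCyclic.isMulCommutative
  interval_cases hk : Nat.card K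
  · haveI : Subsingleton K := (Nat.card_eq_one_iff_unique.1 hk).1
    exact ⟨⟨fun a b => Subsingleton.elim _ _⟩⟩
  · exact hp 2 Nat.prime_two rfl
  · exact hp 3 Nat.prime_three rfl
  · haveI : Fact (Nat.Prime 2) := ⟨Nat.prime_two⟩
    exact IsPGroup.isMulCommutative_of_card_eq_prime_sq (p := 2) (by rw [hk]; rfl)
  · exact hp 5 Nat.prime_five rfl

/-- The four group of `S₄`. -/
def klein4 : Subgroup (Equiv.Perm (Fin 4)) where
  carrier := {σ | σ * σ = 1 ∧ Equiv.Perm.sign σ = 1}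
  one_mem' := ⟨one_mul 1, map_one _⟩
  mul_mem' := by
    intro a b
    revert a b
    simp only [Set.mem_ofPred_eq]
    decide +kernel
  inv_mem' := by
    intro a ha
    rw [inv_eq_of_mul_eq_one_right ha.1]
    exact ha

theorem mem_klein4 {σ : Equiv.Perm (Fin 4)} : σ ∈ klein4 ↔ σ * σ = 1 ∧ Equiv.Perm.sign σ = 1 := Iff.rfl

theorem perm_four_mul : ∀ σ : Equiv.Perm (Fin 4), σ ≠ 1 → ∀ f : Equiv.Perm (Fin 4),
    f * f = 1 ∧ Equiv.Perm.sign f = 1 →
      ∃ a b : Equiv.Perm (Fin 4), f = a * σ * a⁻¹ * (b * σ⁻¹ * b⁻¹) := by decide +kernel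

theorem perm_four_swap : ∀ σ : Equiv.Perm (Fin 4), Equiv.Perm.sign σ = -1 → ∀ i j : Fin 4, i ≠ j →
    ∃ a f : Equiv.Perm (Fin 4), (f * f = 1 ∧ Equiv.Perm.sign f = 1) ∧
      Equiv.swap i j = a * σ * a⁻¹ * f := by decide +kernel

theorem perm_four_two : ∀ σ : Equiv.Perm (Fin 4), σ ^ 16 = 1 → Equiv.Perm.sign σ = 1 → σ * σ = 1 := by
  decide +kernel

theorem perm_four_count :
    (Finset.univ.filter fun σ : Equiv.Perm (Fin 4) => σ * σ = 1 ∧ Equiv.Perm.sign σ = 1).card = 4 := by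
  decide +kernel

theorem card_klein4 : Nat.card klein4 = 4 := by
  rw [show Nat.card klein4 = Nat.card {σ : Equiv.Perm (Fin 4) // σ * σ = 1 ∧ Equiv.Perm.sign σ = 1} from rfl,
    Nat.card_eq_fintype_card, Fintype.card_subtype]
  exact perm_four_count

instance klein4_normal : klein4.Normal := ⟨fun σ hσ a => ⟨by
  rw [show a * σ * a⁻¹ * (a * σ * a⁻¹) = a * (σ * σ) * a⁻¹ by group, hσ.1, mul_one, mul_inv_cancel], by
  rw [map_mul, map_mul, hσ.2, map_inv, mul_one, mul_inv_cancel]⟩⟩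

/-- A normal subgroup of `S₄` consists of even permutations or is everything. -/
theorem normal_perm_four (N : Subgroup (Equiv.Perm (Fin 4))) [hN : N.Normal] :
    N = ⊤ ∨ ∀ σ ∈ N, Equiv.Perm.sign σ = 1 := by
  by_cases h : ∀ σ ∈ N, Equiv.Perm.sign σ = 1
  · exact Or.inr h
  push Not at h
  obtain ⟨σ, hσ, hs⟩ := h
  have hs' : Equiv.Perm.sign σ = -1 := (Int.units_eq_one_or _).resolve_left hs
  have hσ1 : σ ≠ 1 := fun e => hs (by rw [e, map_one])
  left
  rw [eq_top_iff, ← Equiv.Perm.closure_isSwap, closure_le]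
  rintro τ ⟨i, j, hij, rfl⟩
  obtain ⟨a, f, hf, he⟩ := perm_four_swap σ hs' i j hij
  obtain ⟨b, c, hbc⟩ := perm_four_mul σ hσ1 f hf
  rw [SetLike.mem_coe, he, hbc]
  exact N.mul_mem (hN.conj_mem σ hσ a) (N.mul_mem (hN.conj_mem σ hσ b) (hN.conj_mem _ (N.inv_mem hσ) c))

namespace Setup

variable {n : ℕ} {t : ℤ → G} {T : Subgroup G}

theorem card_top (hS : Setup n t T) : Nat.card ↥(seg t 0 (n + 1)) = 3 * 2 ^ n := hS.vertex.top 0

theorem conj_seg (hS : Setup n t T) : ∃ h : G, ∀ (s : ℤ) (l : ℕ),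
    (seg t s l).map (MulAut.conj h).toMonoidHom = seg t (s + 1) l := by
  obtain ⟨h, hh⟩ := hS.vertex.conj
  have key : ∀ k : ℤ, h * t k * h⁻¹ = t (k + 1) := fun k => by rw [hh k 1, zpow_one]
  refine ⟨h, fun s l => le_antisymm ?_ (seg_le fun k h1 h2 => ?_)⟩
  · rw [map_le_iff_le_comap]
    refine seg_le fun k h1 h2 => ?_
    show h * t k * h⁻¹ ∈ seg t (s + 1) l
    rw [key]; exact mem_seg t (by omega) (by omega)
  · refine ⟨t (k - 1), mem_seg t (by omega) (by omega), ?_⟩
    show h * t (k - 1) * h⁻¹ = t k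
    rw [key, sub_add_cancel]

/-- All the involutions lie in the socle as soon as one does. -/
theorem mem_all (hS : Setup n t T) {k : ℤ} (hk : t k ∈ T) (j : ℤ) : t j ∈ T := by
  obtain ⟨h, hh⟩ := hS.vertex.conj
  have := hh k (j - k)
  rw [add_sub_cancel] at this
  rw [this]
  exact hS.normal.conj_mem _ hk _

theorem top_of_mem (hS : Setup n t T) {k : ℤ} (hk : t k ∈ T) : T = ⊤ := by
  rw [← hS.sup]
  exact (sup_eq_left.2 (seg_le fun j _ _ => hS.mem_all hk j)).symm

theorem index_eq (hS : Setup n t T) :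
    T.index * Nat.card ↥(T ⊓ seg t 0 (n + 1)) = 3 * 2 ^ n := by
  haveI := hS.normal
  rw [← hS.card_top]
  set H := seg t 0 (n + 1)
  have h1 : T.relIndex H = T.index := by
    rw [← relIndex_top_right T, ← hS.sup, sup_comm, relIndex_sup_right]
  have h2 := card_mul_index (T.subgroupOf H)
  rw [show (T.subgroupOf H).index = T.relIndex H from rfl, h1] at h2
  have h3 : Nat.card (T.subgroupOf H) = Nat.card ↥(T ⊓ H) := by
    rw [← Nat.card_congr (subgroupOfEquivOfLe (inf_le_right : T ⊓ H ≤ H)).toEquiv, inf_subgroupOf_right]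
  rw [← h2, h3, mul_comm]

theorem eq_top_of_card (hS : Setup n t T) (h : Nat.card ↥(T ⊓ seg t 0 (n + 1)) = 3 * 2 ^ n) : T = ⊤ := by
  have h1 := hS.index_eq
  rw [h] at h1
  exact index_eq_one.1 (Nat.eq_of_mul_eq_mul_right (by positivity) (h1.trans (one_mul _).symm))

/-- The socle meets the Sylow subgroup of a point stabilizer in no normal subgroup. -/
theorem false_of_two_core (hS : Setup n t T) (Q : Subgroup G) (hQH : Q ≤ seg t 0 (n + 1))
    (hQn : seg t 0 (n + 1) ≤ normalizer (Q : Set G)) (hQp : IsPGroup 2 Q)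
    (hKQ : T ⊓ seg t 1 n ≤ Q) : False := by
  haveI : Fact (Nat.Prime 2) := ⟨Nat.prime_two⟩
  haveI := hS.normal
  have hV := hS.vertex
  obtain ⟨h, hh⟩ := hS.conj_seg
  set K := seg t 1 n with hKd
  have hKp : IsPGroup 2 K := IsPGroup.of_card (n := n) (hV.card 1 n le_rfl)
  have hKH : K ≤ seg t 0 (n + 1) := seg_mono t (by omega) (by omega)
  have hKH' : K ≤ seg t 1 (n + 1) := seg_mono t (by omega) (by omega)
  have hsmall : ∀ (s : ℤ) (R : Subgroup G), K ≤ seg t s (n + 1) → R ≤ seg t s (n + 1) →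
      seg t s (n + 1) ≤ normalizer (R : Set G) → IsPGroup 2 R → R ≤ K := by
    intro s R hK hR hn hp
    have hsp : IsPGroup 2 ↥(K ⊔ R) := hKp.to_sup_of_normal_right' hp (hK.trans hn)
    obtain ⟨j, hj⟩ := hsp.exists_card_eq
    have hd : 2 ^ j ∣ 3 * 2 ^ n := by
      rw [← hj, ← hV.top s]; exact card_dvd_of_le (sup_le hK hR)
    have hd' : 2 ^ j ∣ 2 ^ n := (Nat.Coprime.pow_left j (by norm_num)).dvd_of_dvd_mul_left hd
    refine le_sup_right.trans (eq_of_le_of_card_ge (le_sup_left : K ≤ K ⊔ R) ?_).ge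
    rw [hj, hV.card 1 n le_rfl]
    exact Nat.le_of_dvd (Nat.two_pow_pos n) hd'
  have hQK : Q ≤ K := hsmall 0 Q hKH hQH hQn hQp
  set U := T ⊓ Q with hU
  have hUK : U = T ⊓ K := le_antisymm (inf_le_inf_left T hQK) (le_inf inf_le_left hKQ)
  set Q' := Q.map (MulAut.conj h).toMonoidHom with hQ'
  have hH' : (seg t 0 (n + 1)).map (MulAut.conj h).toMonoidHom = seg t 1 (n + 1) := by
    rw [hh, zero_add]
  have hQ'H : Q' ≤ seg t 1 (n + 1) := hH' ▸ map_mono hQH
  have hQ'n : seg t 1 (n + 1) ≤ normalizer (Q' : Set G) := by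
    rw [← hH', hQ', ← map_equiv_normalizer_eq Q (MulAut.conj h)]
    exact map_mono hQn
  have hQ'K : Q' ≤ K := hsmall 1 Q' hKH' hQ'H hQ'n (hQp.map _)
  have hTh : T.map (MulAut.conj h).toMonoidHom = T :=
    Cfsg.Lib.Core.mem_normalizer_iff_map_conj.1 (by rw [normalizer_eq_top_iff.2 hS.normal]; exact mem_top h)
  have hU' : T ⊓ Q' = U := by
    refine eq_of_le_of_card_ge (hUK ▸ inf_le_inf_left T hQ'K) ?_
    rw [hU, hQ', ← hTh, ← map_inf _ _ _ (MulAut.conj h).injective, hTh,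
      card_map_of_injective (MulAut.conj h).injective]
  have hnT : ∀ X : Subgroup G, X ≤ normalizer (T : Set G) := fun X x _ => by
    rw [normalizer_eq_top_iff.2 hS.normal]; exact mem_top x
  have hn0 : seg t 0 (n + 1) ≤ normalizer (U : Set G) := fun x hx =>
    mem_normalizer_inf (hnT _ hx) (hQn hx)
  have hn1 : seg t 1 (n + 1) ≤ normalizer (U : Set G) := fun x hx => by
    rw [← hU']; exact mem_normalizer_inf (hnT _ hx) (hQ'n hx)
  have hU1 : U = ⊥ := by
    have := hV.top_ne 0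
    rw [zero_add] at this
    exact eq_bot_of_both (hV.loc 0) (hV.loc 1) this (inf_le_right.trans hQH) hn0
      ((inf_le_right.trans hQK).trans hKH') hn1
  -- so `D` embeds in the cosets of `K`
  have hD := six_le_card_of_noncomm hS.nab
  set H := seg t 0 (n + 1)
  set D := T ⊓ H
  let f : D → H ⧸ K.subgroupOf H := fun x => QuotientGroup.mk ⟨x, x.2.2⟩
  have hf : Function.Injective f := by
    intro x y hxy
    have h1 : (x : G)⁻¹ * y ∈ K := (QuotientGroup.eq.1 (hxy : (QuotientGroup.mk (⟨x, x.2.2⟩ : H) : H ⧸ K.subgroupOf H) = QuotientGroup.mk ⟨y, y.2.2⟩) :)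
    have h2 : (x : G)⁻¹ * y ∈ U := hUK ▸ ⟨T.mul_mem (T.inv_mem x.2.1) y.2.1, h1⟩
    rw [hU1, mem_bot, inv_mul_eq_one] at h2
    exact Subtype.ext h2
  have h3 := Nat.card_le_card_of_injective f hf
  have h4 := card_mul_index (K.subgroupOf H)
  rw [Nat.card_congr (subgroupOfEquivOfLe hKH).toEquiv, hV.card 1 n le_rfl, hS.card_top, index_eq_card,
    mul_comm 3] at h4
  rw [Nat.eq_of_mul_eq_mul_left (Nat.two_pow_pos n) h4] at h3
  omega

/-- Over a projection of the point stabilizer onto `S₄` the socle is everything. -/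
theorem map_eq_top (hS : Setup n t T) (hn : 1 ≤ n) (f : ↥(seg t 0 (n + 1)) →* Equiv.Perm (Fin 4))
    (hf : Function.Surjective f) : ((T ⊓ seg t 0 (n + 1)).subgroupOf (seg t 0 (n + 1))).map f = ⊤ := by
  haveI := hS.normal
  set N := ((T ⊓ seg t 0 (n + 1)).subgroupOf (seg t 0 (n + 1))).map f
  haveI : ((T ⊓ seg t 0 (n + 1)).subgroupOf (seg t 0 (n + 1))).Normal := by rw [inf_subgroupOf_right]; infer_instance
  haveI : N.Normal := Normal.map inferInstance f hf
  refine (normal_perm_four N).resolve_right fun heven => ?_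
  set Q := (klein4.comap f).map (seg t 0 (n + 1)).subtype with hQd
  have hQn : seg t 0 (n + 1) ≤ normalizer (Q : Set G) := le_normalizer_map_subtype (klein4_normal.comap f)
  have hcard : Nat.card Q * 6 = 3 * 2 ^ n := by
    have h1 := card_mul_index (klein4.comap f)
    have h6 : klein4.index = 6 := by
      have := card_mul_index klein4
      rw [card_klein4, Nat.card_perm, Nat.card_fin] at this
      simp only [Nat.factorial] at this
      omega
    rw [index_comap_of_surjective _ hf, h6, hS.card_top] at h1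
    rw [hQd, card_map_of_injective (seg t 0 (n + 1)).subtype_injective, h1]
  refine hS.false_of_two_core Q (map_subtype_le _) hQn (IsPGroup.of_card (n := n - 1) ?_) ?_
  · have : 2 ^ n = 2 ^ (n - 1) * 2 := by rw [← pow_succ]; congr 1; omega
    omega
  · rintro x ⟨hxT, hxK⟩
    have hxH : x ∈ seg t 0 (n + 1) := (seg_mono t (by omega) (by omega) : seg t 1 n ≤ seg t 0 (n + 1)) hxK
    refine ⟨⟨x, hxH⟩, ?_, rfl⟩
    have hsign : Equiv.Perm.sign (f ⟨x, hxH⟩) = 1 :=
      heven _ ⟨⟨x, hxH⟩, ⟨hxT, hxH⟩, rfl⟩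
    refine ⟨perm_four_two _ ?_ hsign, hsign⟩
    have hpow : x ^ 2 ^ n = 1 := by
      have := pow_card_eq_one' (G := seg t 1 n) (x := ⟨x, hxK⟩)
      rw [hS.vertex.card 1 n le_rfl] at this
      exact congrArg Subtype.val this
    have h16 : x ^ 16 = 1 := by
      obtain ⟨c, hc⟩ : 2 ^ n ∣ 16 := Nat.pow_dvd_pow 2 hS.vertex.n_le_four
      rw [hc, pow_mul, hpow, one_pow]
    rw [← map_pow, show (⟨x, hxH⟩ : ↥(seg t 0 (n + 1))) ^ 16 = 1 from Subtype.ext h16, map_one]

theorem iso_three (hS : Setup 3 t T) : Nonempty (↥(seg t 0 (3 + 1)) ≃* Equiv.Perm (Fin 4)) := by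
  have hc := hS.card_top
  rcases hS.vertex.types with ⟨⟨e⟩⟩ | ⟨⟨e⟩⟩ | h | ⟨⟨e⟩⟩
  · rw [Nat.card_congr e.toEquiv, Nat.card_perm, Nat.card_fin] at hc; norm_num [Nat.factorial] at hc
  · rw [Nat.card_congr e.toEquiv, DihedralGroup.nat_card] at hc; norm_num at hc
  · exact h
  · rw [Nat.card_congr e.toEquiv, Nat.card_prod, Nat.card_perm, Nat.card_fin] at hc
    simp [Nat.factorial] at hc

theorem iso_four (hS : Setup 4 t T) :
    Nonempty (↥(seg t 0 (4 + 1)) ≃* Equiv.Perm (Fin 4) × Multiplicative (ZMod 2)) := by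
  have hc := hS.card_top
  rcases hS.vertex.types with ⟨⟨e⟩⟩ | ⟨⟨e⟩⟩ | ⟨⟨e⟩⟩ | h
  · rw [Nat.card_congr e.toEquiv, Nat.card_perm, Nat.card_fin] at hc; norm_num [Nat.factorial] at hc
  · rw [Nat.card_congr e.toEquiv, DihedralGroup.nat_card] at hc; norm_num at hc
  · rw [Nat.card_congr e.toEquiv, Nat.card_perm, Nat.card_fin] at hc; norm_num [Nat.factorial] at hc
  · exact h

/-- `n = 3`: the whole group is simple. -/
theorem top_three (hS : Setup 3 t T) : T = ⊤ := by
  obtain ⟨e⟩ := hS.iso_three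
  have h := hS.map_eq_top (by norm_num) e.toMonoidHom e.surjective
  refine hS.eq_top_of_card ?_
  have h1 : ((T ⊓ seg t 0 (3 + 1)).subgroupOf (seg t 0 (3 + 1))) = ⊤ :=
    map_injective (f := e.toMonoidHom) e.injective (by rw [h, map_top_of_surjective _ e.surjective])
  rw [subgroupOf_eq_top] at h1
  rw [le_antisymm inf_le_right h1, hS.card_top]

/-- `n = 4`: the whole group is simple or the socle meets the point stabilizer in `S₄`. -/
theorem cases_four (hS : Setup 4 t T) : T = ⊤ ∨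
    (T.index = 2 ∧ t 2 ∉ T ∧ Nonempty (↥(T ⊓ seg t 0 (4 + 1)) ≃* Equiv.Perm (Fin 4))) := by
  by_cases hT : T = ⊤
  · exact Or.inl hT
  right
  obtain ⟨e⟩ := hS.iso_four
  set H := seg t 0 (4 + 1)
  set D := T ⊓ H
  let f : H →* Equiv.Perm (Fin 4) := (MonoidHom.fst _ _).comp e.toMonoidHom
  have hfs : Function.Surjective f := fun σ => ⟨e.symm (σ, 1), by simp [f]⟩
  have h := hS.map_eq_top (by norm_num) f hfs
  let g : D →* Equiv.Perm (Fin 4) := f.comp (Subgroup.inclusion (inf_le_right : D ≤ H))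
  have hgs : Function.Surjective g := fun σ => by
    obtain ⟨x, hx, hxs⟩ := (h ▸ mem_top σ : σ ∈ (D.subgroupOf H).map f)
    exact ⟨⟨x, hx⟩, hxs⟩
  have h1 := card_mul_index g.ker
  have h2 : g.ker.index = 24 := by
    rw [index_ker, MonoidHom.range_eq_top.2 hgs, Subgroup.card_top, Nat.card_perm, Nat.card_fin]
    rfl
  rw [h2] at h1
  have h3 : Nat.card D ∣ 3 * 2 ^ 4 := hS.card_top ▸ card_dvd_of_le inf_le_right
  have h4 : Nat.card D ≠ 3 * 2 ^ 4 := fun hc => hT (hS.eq_top_of_card hc)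
  have hle := Nat.le_of_dvd (by norm_num) h3
  have hpos : 0 < Nat.card g.ker := Nat.card_pos
  have hker : Nat.card g.ker = 1 := by omega
  have hinj : Function.Injective g := g.ker_eq_bot_iff.1 (eq_bot_of_card_eq _ hker)
  refine ⟨?_, fun h2T => hT (hS.top_of_mem h2T), ⟨MulEquiv.ofBijective g ⟨hinj, hgs⟩⟩⟩
  have h5 := hS.index_eq
  have h6 : Nat.card D = 24 := by omega
  rw [h6] at h5
  omega

/-- `n = 2`. -/
theorem cases_two (hS : Setup 2 t T) :
    T = ⊤ ∨ (T.index = 2 ∧ Nat.card ↥(T ⊓ seg t 0 (2 + 1)) = 6) := by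
  by_cases hT : T = ⊤
  · exact Or.inl hT
  right
  have h6 := six_le_card_of_noncomm hS.nab
  have hne : Nat.card ↥(T ⊓ seg t 0 (2 + 1)) ≠ 3 * 2 ^ 2 := fun hc => hT (hS.eq_top_of_card hc)
  have h := hS.index_eq
  have hle : Nat.card ↥(T ⊓ seg t 0 (2 + 1)) ∣ 3 * 2 ^ 2 := hS.card_top ▸ card_dvd_of_le inf_le_right
  have := Nat.le_of_dvd (by norm_num) hle
  interval_cases hc : Nat.card ↥(T ⊓ seg t 0 (2 + 1)) <;> omega

/-- `n = 1`. -/
theorem top_one (hS : Setup 1 t T) : T = ⊤ := by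
  refine hS.eq_top_of_card (le_antisymm ?_ (six_le_card_of_noncomm hS.nab))
  rw [← hS.card_top]
  exact card_le_of_le inf_le_right

end Setup

/-- **The reduction.** -/
theorem exists_setup {Ω : Type*} [MulAction G Ω] [FaithfulSMul G Ω] (hsol : ¬ Group.IsSolvable G)
    (hprim : MulAction.IsPreprimitive G Ω) (a b : Ω)
    (h3 : Nat.card (MulAction.orbit (MulAction.stabilizer G a) b) = 3) :
    ∃ (n : ℕ) (t : ℤ → G) (T : Subgroup G), Setup n t T := by
  haveI := hprim.toIsPretransitive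
  obtain ⟨g, hg, hA, hB, hne, hdA, hdB⟩ := stabilizer_pair_setup hprim a b 3 h3 (by norm_num)
  have hab : a ≠ b := fun h => hne (by rw [h])
  haveI : Nontrivial Ω := ⟨a, b, hab⟩
  have hP : Prim (MulAction.stabilizer G a) := by
    refine ⟨(MulAction.isCoatom_stabilizer_iff_preprimitive G a).2 hprim, ?_, hsol⟩
    refine (eq_bot_iff_forall _).2 fun x hx => eq_of_smul_eq_smul (α := Ω) fun ω => ?_
    obtain ⟨k, rfl⟩ := MulAction.exists_smul_eq G a ω
    have := hx k⁻¹
    rw [MulAction.mem_stabilizer_iff, inv_inv, mul_smul, mul_smul, inv_smul_eq_iff] at this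
    rw [one_smul]; exact this
  rcases card_three_or_vertex hprim a b h3 with h | ⟨n, t, hV, hH⟩
  · exfalso
    obtain ⟨T, -, -, -, -, -, -, -, hnab⟩ := hP.exists_simple_socle (n := 0) (by norm_num) (by rw [h]; rfl)
    have h6 := six_le_card_of_noncomm hnab
    have := card_le_of_le (inf_le_right : T ⊓ MulAction.stabilizer G a ≤ _)
    omega
  · refine ⟨n, fun k => t (k + -(n : ℤ)), ?_⟩
    have heq : seg (fun k => t (k + -(n : ℤ))) 0 (n + 1) = MulAction.stabilizer G a := by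
      rw [seg_translate, zero_add, hH]
    obtain ⟨T, hTn, hTs, hna, hC, hsup, -, hself, hnab⟩ :=
      hP.exists_simple_socle hV.n_le_four (by rw [← hH, hV.top])
    exact ⟨T, hV.translate _, heq.symm ▸ hP, hTn, hTs, hna, hC, heq.symm ▸ hsup, heq.symm ▸ hself,
      heq.symm ▸ hnab⟩

end Cfsg.Lib.Perm.SubThree
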