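import Cfsg.Agent.Lib.Perm.SuborbitThree.Small

/-!
# Suborbits of length three: two four groups with normalizers isomorphic to `S₄`
-/

set_option autoImplicit false
set_option linter.style.haveILetI false
set_option linter.unusedSectionVars false

namespace Cfsg.Lib.Perm.SubThree

open Subgroup Cfsg.Lib.Perm.TW Cfsg.Lib.Perm.Window
open scoped Pointwise

universe u

/-- Two conjugate four groups with normalizers `S₄` in a common subgroup of order eight. -/
structure SFour {T : Type u} [Group T] (V V' P : Subgroup T) : Prop where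
  four : Nat.card V = 4
  sq : ∀ x ∈ V, x * x = 1
  cent : centralizer (V : Set T) = V
  norm : Nonempty (↥(normalizer (V : Set T)) ≃* Equiv.Perm (Fin 4))
  eight : Nat.card P = 8
  le : V ≤ P
  le' : V' ≤ P
  norm_le : P ≤ normalizer (V : Set T)
  norm_le' : P ≤ normalizer (V' : Set T)
  ne : V' ≠ V
  conj : ∃ τ : T, V.map (MulAut.conj τ).toMonoidHom = V'

theorem perm_four_cent : ∀ σ : Equiv.Perm (Fin 4),
    (∀ f : Equiv.Perm (Fin 4), f * f = 1 ∧ Equiv.Perm.sign f = 1 → σ * f = f * σ) →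
      σ * σ = 1 ∧ Equiv.Perm.sign σ = 1 := by decide +kernel

namespace SFour

variable {T : Type u} [Group T] [Finite T] {V V' P : Subgroup T}

theorem four' (h : SFour V V' P) : Nat.card V' = 4 := by
  obtain ⟨τ, rfl⟩ := h.conj
  rw [card_map_of_injective (MulAut.conj τ).injective, h.four]

theorem sq' (h : SFour V V' P) {x : T} (hx : x ∈ V') : x * x = 1 := by
  obtain ⟨τ, rfl⟩ := h.conj
  obtain ⟨y, hy, rfl⟩ := hx
  rw [← map_mul, h.sq y hy, map_one]

theorem card_norm (h : SFour V V' P) : Nat.card ↥(normalizer (V : Set T)) = 24 := by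
  obtain ⟨e⟩ := h.norm
  rw [Nat.card_congr e.toEquiv, Nat.card_perm, Nat.card_fin]
  rfl

theorem mem_or (h : SFour V V' P) {u : T} (huP : u ∈ P) (hu : u * u = 1) : u ∈ V ∨ u ∈ V' := by
  by_cases huV : u ∈ V
  · exact Or.inl huV
  right
  have hidx : (V.subgroupOf P).index = 2 := by
    have h1 := card_mul_index (V.subgroupOf P)
    rw [Nat.card_congr (subgroupOfEquivOfLe h.le).toEquiv, h.four, h.eight] at h1
    omega
  obtain ⟨w, hwV', hwV⟩ : ∃ w ∈ V', w ∉ V := Set.not_subset.1 fun hs =>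
    h.ne (eq_of_le_of_card_ge hs (by rw [h.four, h.four']))
  have hwi : w⁻¹ = w := inv_eq_of_mul_eq_one_right (h.sq' hwV')
  set x := w⁻¹ * u with hx
  have hxV : x ∈ V :=
    ((Subgroup.mul_mem_iff_of_index_two hidx (a := (⟨w⁻¹, P.inv_mem (h.le' hwV')⟩ : P)) (b := ⟨u, huP⟩)).2
      (iff_of_false (fun h' => hwV (by simpa using V.inv_mem h')) huV) :)
  have hux : u = w * x := by rw [hx, mul_inv_cancel_left]
  have hwx : Commute w x := commute_of_comm_eq_one (h.sq' hwV') (h.sq x hxV) (by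
    rw [hux] at hu
    simpa [mul_assoc] using hu)
  by_cases hxV' : x ∈ V'
  · rw [hux]; exact V'.mul_mem hwV' hxV'
  exfalso
  refine hwV (h.cent.le (mem_centralizer_iff.2 fun v hv => ?_))
  -- the commutator of `w` with `v` lies in the intersection
  by_contra hne
  have hd : w * v * w⁻¹ * v⁻¹ ∈ V ∧ w * v * w⁻¹ * v⁻¹ ∈ V' := by
    constructor
    · exact V.mul_mem ((mem_normalizer_iff.1 (h.norm_le (h.le' hwV')) v).1 hv) (V.inv_mem hv)
    · rw [mul_assoc, mul_assoc, ← mul_assoc v]
      exact V'.mul_mem hwV' ((mem_normalizer_iff.1 (h.norm_le' (h.le hv)) _).1 (V'.inv_mem hwV'))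
  set c := w * v * w⁻¹ * v⁻¹ with hc
  have hc1 : c ≠ 1 := fun h1 => hne (mul_inv_eq_iff_eq_mul.1 (mul_inv_eq_one.1 h1)).symm
  have hcc : Commute w c := commute_of_comm_eq_one (h.sq' hwV') (h.sq' hd.2) (by
    have := h.sq' (V'.mul_mem hwV' hd.2)
    simpa [mul_assoc] using this)
  -- `V` is generated by `x` and `c`
  have hx1 : x ≠ 1 := fun h1 => hxV' (h1 ▸ V'.one_mem)
  have hxc : x ≠ c := fun h1 => hxV' (h1 ▸ hd.2)
  have hall : v = 1 ∨ v = x ∨ v = c ∨ v = x * c := by
    classical
    by_contra hno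
    push Not at hno
    have hxcc : x * c ≠ 1 := fun h1 => hxc ((mul_eq_one_iff_eq_inv.1 h1).trans
      (inv_eq_of_mul_eq_one_right (h.sq c hd.1)))
    have h5 : ({1, x, c, x * c, v} : Finset T) ⊆ (Set.toFinite (V : Set T)).toFinset := by
      intro y hy
      simp only [Finset.mem_insert, Finset.mem_singleton] at hy
      rw [Set.Finite.mem_toFinset]
      rcases hy with rfl | rfl | rfl | rfl | rfl
      exacts [V.one_mem, hxV, hd.1, V.mul_mem hxV hd.1, hv]
    have hcard := Finset.card_le_card h5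
    rw [← Set.ncard_eq_toFinset_card _ (Set.toFinite _), ← Nat.card_coe_set_eq] at hcard
    rw [show Nat.card ↥(V : Set T) = 4 from h.four] at hcard
    have : ({1, x, c, x * c, v} : Finset T).card = 5 := by
      have e1 : x * c ≠ x := fun h1 => hc1 (mul_eq_left.1 h1)
      have e2 : x * c ≠ c := fun h1 => hx1 (mul_eq_right.1 h1)
      simp [hx1.symm, hc1.symm, hxc, hxcc.symm, hno.1.symm, hno.2.1.symm, hno.2.2.1.symm,
        hno.2.2.2.symm, e1.symm, e2.symm]
    omega
  rcases hall with h1 | h1 | h1 | h1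
  · exact hne (by rw [h1, mul_one, one_mul])
  · exact hne (by rw [h1]; exact hwx.symm.eq)
  · exact hne (by rw [h1]; exact hcc.symm.eq)
  · exact hne (by rw [h1]; exact (hwx.mul_right hcc).symm.eq)

theorem conj_le (h : SFour V V' P) {g : T} (hg : g ∈ normalizer (P : Set T)) :
    V.map (MulAut.conj g).toMonoidHom = V ∨ V.map (MulAut.conj g).toMonoidHom = V' := by
  have hc : Nat.card ↥(V.map (MulAut.conj g).toMonoidHom) = 4 := by
    rw [card_map_of_injective (MulAut.conj g).injective, h.four]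
  have hor : ∀ x ∈ V.map (MulAut.conj g).toMonoidHom, x ∈ V ∨ x ∈ V' := by
    rintro _ ⟨y, hy, rfl⟩
    refine h.mem_or ((mem_normalizer_iff.1 hg y).1 (h.le hy)) ?_
    rw [← map_mul, h.sq y hy, map_one]
  by_contra hno
  push Not at hno
  obtain ⟨a, ha, haV⟩ := Set.not_subset.1 fun hs => hno.1 (eq_of_le_of_card_ge hs (by rw [hc, h.four]))
  obtain ⟨b, hb, hbV⟩ := Set.not_subset.1 fun hs => hno.2 (eq_of_le_of_card_ge hs (by rw [hc, h.four']))
  have haV' := (hor a ha).resolve_left haV
  have hbV' := (hor b hb).resolve_right hbV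
  rcases hor _ (mul_mem ha hb) with h' | h'
  · exact haV (by simpa using V.mul_mem h' (V.inv_mem hbV'))
  · exact hbV (by simpa using V'.mul_mem (V'.inv_mem haV') h')

/-- A Sylow subgroup is larger. -/
theorem sixteen (h : SFour V V' P) (S : Sylow 2 T) : 16 ≤ Nat.card (S : Subgroup T) := by
  haveI : Fact (Nat.Prime 2) := ⟨Nat.prime_two⟩
  have hP : IsPGroup 2 P := IsPGroup.of_card (n := 3) (by rw [h.eight]; rfl)
  obtain ⟨R, hR⟩ := hP.exists_le_sylow
  rw [S.card_eq_multiplicity, ← R.card_eq_multiplicity]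
  by_contra hlt
  push Not at hlt
  have hRP : (R : Subgroup T) = P := by
    refine (eq_of_le_of_card_ge hR ?_).symm
    obtain ⟨j, hj⟩ := R.2.exists_card_eq
    have h8 := card_le_of_le hR
    rw [h.eight, hj] at h8
    rw [hj] at hlt
    rw [hj, h.eight]
    have : j ≤ 3 := by
      by_contra hj4
      have := Nat.pow_le_pow_right (show 1 ≤ 2 by norm_num) (show 4 ≤ j by omega)
      omega
    exact Nat.pow_le_pow_right (show 1 ≤ 2 by norm_num) this
  obtain ⟨τ, hτ⟩ := h.conj
  -- transport the Sylow subgroup into the normalizer of `V`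
  have hτP : P.map (MulAut.conj τ⁻¹).toMonoidHom ≤ normalizer (V : Set T) := by
    have hV : V'.map (MulAut.conj τ⁻¹).toMonoidHom = V := by
      rw [← hτ, ← Cfsg.Lib.Core.map_conj_mul, inv_mul_cancel,
        show (MulAut.conj (1 : T)).toMonoidHom = MonoidHom.id T by ext; simp, Subgroup.map_id]
    have e := map_equiv_normalizer_eq V' (MulAut.conj τ⁻¹)
    rw [← hV]
    exact (map_mono h.norm_le').trans e.le
  set N := normalizer (V : Set T)
  let P1 : Sylow 2 N := R.subtype (hRP.le.trans h.norm_le)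
  let P2 : Sylow 2 N := (τ⁻¹ • R).subtype (by
    rw [Sylow.coe_subgroup_smul, hRP]
    exact hτP)
  obtain ⟨y, hy⟩ := MulAction.exists_smul_eq N P1 P2
  have hy' : (y : T) • R = τ⁻¹ • R :=
    Sylow.subtype_injective ((Sylow.smul_subtype _ _).symm.trans hy)
  set g := τ * (y : T)
  have hgR : g • R = R := by rw [mul_smul, hy', smul_inv_smul]
  have hgN : g ∈ normalizer (P : Set T) := by rw [← hRP]; exact Sylow.smul_eq_iff_mem_normalizer.1 hgR
  have hgV : V.map (MulAut.conj g).toMonoidHom = V' := by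
    rw [Cfsg.Lib.Core.map_conj_mul, Cfsg.Lib.Core.mem_normalizer_iff_map_conj.1 y.2, hτ]
  -- its square normalizes `V`
  have hg2 : g * g ∈ N := by
    refine Cfsg.Lib.Core.mem_normalizer_iff_map_conj.2 ((h.conj_le (mul_mem hgN hgN)).resolve_right fun h' => ?_)
    rw [Cfsg.Lib.Core.map_conj_mul, hgV] at h'
    exact h.ne (map_injective (f := (MulAut.conj g).toMonoidHom) (MulAut.conj g).injective (h'.trans hgV.symm))
  obtain ⟨a, m, hm, ho⟩ := Nat.exists_eq_two_pow_mul_odd (orderOf_pos g).ne'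
  have hp : g ^ m ∈ P := by
    have hord : (g ^ m) ^ 2 ^ a = 1 := by rw [← pow_mul, mul_comm, ← ho, pow_orderOf_eq_one]
    have hz : IsPGroup 2 (zpowers (g ^ m)) := by
      obtain ⟨j, -, hj⟩ := (Nat.dvd_prime_pow Nat.prime_two).1 (orderOf_dvd_of_pow_eq_one hord)
      exact IsPGroup.of_card (n := j) (by rw [Nat.card_zpowers, hj])
    have hsp : IsPGroup 2 ↥(zpowers (g ^ m) ⊔ P) :=
      hz.to_sup_of_normal_right' hP (zpowers_le.2 (pow_mem hgN m))
    have := R.3 hsp (hRP.le.trans le_sup_right)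
    exact hRP ▸ this ▸ mem_sup_left (mem_zpowers _)
  obtain ⟨k, hk⟩ := hm
  have hgmem : g ∈ N := by
    have e : g = g ^ m * ((g * g) ^ k)⁻¹ := by
      rw [hk, ← pow_two, ← pow_mul, pow_succ', mul_inv_cancel_right]
    rw [e]
    exact N.mul_mem (h.norm_le hp) (N.inv_mem (N.pow_mem hg2 k))
  exact h.ne ((Cfsg.Lib.Core.mem_normalizer_iff_map_conj.1 hgmem).symm.trans hgV).symm

/-- Some involution of `V` has a centralizer of order four in a Sylow subgroup. -/
theorem small_centralizer (h : SFour V V' P) {S : Sylow 2 T} (hS : P ≤ (S : Subgroup T)) :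
    ∃ v ∈ V, v ≠ 1 ∧ (S : Subgroup T) ⊓ centralizer ({v} : Set T) = V := by
  haveI : Fact (Nat.Prime 2) := ⟨Nat.prime_two⟩
  have hSN : (S : Subgroup T) ⊓ normalizer (V : Set T) = P := by
    refine (eq_of_le_of_card_ge (le_inf hS h.norm_le) ?_).symm
    obtain ⟨j, hj⟩ :=
      (S.2.to_le (inf_le_left : (S : Subgroup T) ⊓ normalizer (V : Set T) ≤ S)).exists_card_eq
    have hd : 2 ^ j ∣ 3 * 8 := by
      rw [← hj, show 3 * 8 = Nat.card ↥(normalizer (V : Set T)) from h.card_norm.symm]
      exact card_dvd_of_le inf_le_right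
    rw [hj, h.eight]
    exact Nat.le_of_dvd (by norm_num) ((Nat.Coprime.pow_left j (by norm_num)).dvd_of_dvd_mul_left hd)
  obtain ⟨x, hxP, hxV⟩ := Set.not_subset.1 fun hs : (P : Set T) ⊆ V => by
    have := card_le_of_le (H := P) (K := V) hs
    rw [h.four, h.eight] at this
    omega
  obtain ⟨v, hv, hxv⟩ : ∃ v ∈ V, ¬ Commute x v := by
    by_contra hcon
    push Not at hcon
    exact hxV (h.cent.le (mem_centralizer_iff.2 fun v hv => (hcon v hv).symm.eq))
  refine ⟨v, hv, fun h1 => hxv (h1 ▸ Commute.one_right x), ?_⟩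
  have hVc : ∀ a ∈ V, a * v = v * a := fun a ha => (mem_centralizer_iff.1 (h.cent.ge ha) v hv).symm
  refine (eq_or_lt_of_le (le_inf (h.le.trans hS) fun a ha =>
    mem_centralizer_singleton_iff.2 (hVc a ha))).elim Eq.symm fun hlt => ?_
  exfalso
  set C := (S : Subgroup T) ⊓ centralizer ({v} : Set T)
  have hCp : IsPGroup 2 C := S.2.to_le inf_le_left
  obtain ⟨y, hy, hyV⟩ : ∃ y ∈ C ⊓ normalizer (V : Set T), y ∉ V := by
    by_contra hcon
    push Not at hcon
    exact hlt.not_ge (le_of_normalizer_inf_le hCp hlt.le fun y hy => hcon y ⟨hy.2, hy.1⟩)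
  have hyP : y ∈ P := hSN ▸ ⟨hy.1.1, hy.2⟩
  refine hxv ?_
  have hidx : (V.subgroupOf P).index = 2 := by
    have h1 := card_mul_index (V.subgroupOf P)
    rw [Nat.card_congr (subgroupOfEquivOfLe h.le).toEquiv, h.four, h.eight] at h1
    omega
  have hxy : y⁻¹ * x ∈ V :=
    ((Subgroup.mul_mem_iff_of_index_two hidx (a := (⟨y⁻¹, P.inv_mem hyP⟩ : P)) (b := ⟨x, hxP⟩)).2
      (iff_of_false (fun h' => hyV (by simpa using V.inv_mem h')) hxV) :)
  have h1 : Commute y v := mem_centralizer_singleton_iff.1 hy.1.2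
  have h2 : Commute (y⁻¹ * x) v := hVc _ hxy
  have := h1.mul_left h2
  rwa [mul_inv_cancel_left] at this

theorem isQuasiDihedral_of_equiv {A B : Type u} [Group A] [Group B] (e : A ≃* B)
    (h : Cfsg.IsQuasiDihedral A) : Cfsg.IsQuasiDihedral B := by
  obtain ⟨n, hn, hc, x, y, hx, hy, hxy⟩ := h
  exact ⟨n, hn, (Nat.card_congr e.toEquiv).symm.trans hc, e x, e y, by rw [e.orderOf_eq, hx],
    by rw [e.orderOf_eq, hy], by rw [← map_inv, ← map_mul, ← map_mul, hxy, map_pow]⟩

/-- **A Sylow subgroup is dihedral or quasidihedral.** -/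
theorem sylow_cases (h : SFour V V' P) (S : Sylow 2 T) :
    (∃ m : ℕ, 2 ≤ m ∧ Nonempty ((S : Subgroup T) ≃* DihedralGroup m)) ∨
      Cfsg.IsQuasiDihedral (S : Subgroup T) := by
  haveI : Fact (Nat.Prime 2) := ⟨Nat.prime_two⟩
  obtain ⟨R, hR⟩ := (IsPGroup.of_card (p := 2) (n := 3) (by rw [h.eight]; rfl) : IsPGroup 2 P).exists_le_sylow
  obtain ⟨g, hg⟩ := MulAction.exists_smul_eq T R S
  let e : ↥(R : Subgroup T) ≃* ↥(S : Subgroup T) := (R.equivSMul g).trans (MulEquiv.subgroupCongr (congrArg _ hg))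
  obtain ⟨v, hv, hv1, hC⟩ := h.small_centralizer hR
  have hvR : v ∈ (R : Subgroup T) := hR (h.le hv)
  have hC4 : Nat.card ↥(centralizer ({(⟨v, hvR⟩ : ↥(R : Subgroup T))} : Set ↥(R : Subgroup T))) = 4 := by
    rw [← h.four, ← hC]
    exact Nat.card_congr
      { toFun := fun x => ⟨(x : ↥(R : Subgroup T)), x.1.2, mem_centralizer_singleton_iff.2
          (congrArg Subtype.val (mem_centralizer_singleton_iff.1 x.2))⟩
        invFun := fun x => ⟨⟨x, x.2.1⟩, mem_centralizer_singleton_iff.2 (Subtype.ext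
          (mem_centralizer_singleton_iff.1 x.2.2))⟩
        left_inv := fun x => rfl
        right_inv := fun x => rfl }
  have ho : orderOf (⟨v, hvR⟩ : ↥(R : Subgroup T)) = 2 := by
    rw [Subgroup.orderOf_mk]
    exact orderOf_eq_prime (by rw [pow_two]; exact h.sq v hv) hv1
  have h16 := h.sixteen S
  rcases Cfsg.Agent.S3224.result R.2 _ ho hC4 with ⟨m, ⟨f⟩⟩ | hq | h4
  · left
    refine ⟨m, ?_, ⟨e.symm.trans f⟩⟩
    rw [Nat.card_congr e.symm.toEquiv, Nat.card_congr f.toEquiv, DihedralGroup.nat_card] at h16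
    omega
  · exact Or.inr (isQuasiDihedral_of_equiv e hq)
  · rw [Nat.card_congr e.symm.toEquiv, h4] at h16
    omega

end SFour

/-- **The two four groups of the socle.** -/
theorem Setup.exists_sfour {G : Type u} [Group G] [Finite G] {n : ℕ} {t : ℤ → G} {T : Subgroup G}
    (hS : Setup n t T) (e : ↥(T ⊓ seg t 0 (n + 1)) ≃* Equiv.Perm (Fin 4)) :
    ∃ V V' P : Subgroup T, SFour V V' P ∧
      normalizer (V : Set T) = (T ⊓ seg t 0 (n + 1)).subgroupOf T := by
  haveI : Fact (Nat.Prime 2) := ⟨Nat.prime_two⟩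
  haveI := hS.normal
  have hV := hS.vertex
  obtain ⟨h, hh⟩ := hS.conj_seg
  set H := seg t 0 (n + 1) with hHd
  set D := T ⊓ H with hDd
  set K := seg t 1 n
  set W := (klein4.comap e.toMonoidHom).map D.subtype with hWd
  have hWD : W ≤ D := map_subtype_le _
  have hW4 : Nat.card W = 4 := by
    rw [hWd, card_map_of_injective D.subtype_injective,
      Nat.card_congr ((e.subgroupMap (klein4.comap e.toMonoidHom)).toEquiv),
      show ((klein4.comap e.toMonoidHom).map (e : D →* Equiv.Perm (Fin 4))) = klein4 from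
        map_comap_eq_self_of_surjective e.surjective _, card_klein4]
  have hDW : D ≤ normalizer (W : Set G) := le_normalizer_map_subtype (klein4_normal.comap e.toMonoidHom)
  have hmemW : ∀ x (hx : x ∈ D), x ∈ W ↔ e ⟨x, hx⟩ ∈ klein4 := fun x hx =>
    ⟨fun ⟨y, hy, hyx⟩ => by
      have : y = ⟨x, hx⟩ := Subtype.ext hyx
      exact this ▸ hy, fun h' => ⟨⟨x, hx⟩, h', rfl⟩⟩
  have hWsq : ∀ x ∈ W, x * x = 1 := fun x hx => by
    have h1 := ((hmemW x (hWD hx)).1 hx).1
    exact congrArg Subtype.val (e.injective (by rw [map_mul, h1, map_one] : e (⟨x, hWD hx⟩ * ⟨x, hWD hx⟩) = e 1))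
  -- uniqueness among normal subgroups of order four
  have huniq : ∀ X : Subgroup G, X ≤ D → D ≤ normalizer (X : Set G) → Nat.card X = 4 → X = W := by
    intro X hX hn hc
    set N := (X.subgroupOf D).map e.toMonoidHom
    haveI : (X.subgroupOf D).Normal := (normal_subgroupOf_iff_le_normalizer hX).2 hn
    haveI : N.Normal := Normal.map inferInstance _ e.surjective
    have hNc : Nat.card N = 4 := by
      rw [card_map_of_injective e.injective, Nat.card_congr (subgroupOfEquivOfLe hX).toEquiv, hc]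
    have heven := (normal_perm_four N).resolve_left fun h' => by
      rw [h', Subgroup.card_top, Nat.card_perm, Nat.card_fin] at hNc
      norm_num [Nat.factorial] at hNc
    refine eq_of_le_of_card_ge (fun x hx => (hmemW x (hX hx)).2 ?_) (by rw [hc, hW4])
    have hxN : e ⟨x, hX hx⟩ ∈ N := ⟨_, hx, rfl⟩
    refine ⟨perm_four_two _ ?_ (heven _ hxN), heven _ hxN⟩
    have h4 := pow_card_eq_one' (G := N) (x := ⟨_, hxN⟩)
    rw [hNc] at h4
    rw [show 16 = 4 * 4 by rfl, pow_mul, show (e ⟨x, hX hx⟩) ^ 4 = 1 from congrArg Subtype.val h4, one_pow]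
  have hnT : ∀ x : G, x ∈ normalizer (T : Set G) := fun x => by
    rw [normalizer_eq_top_iff.2 hS.normal]; exact mem_top x
  have hHW : H ≤ normalizer (W : Set G) := by
    intro x hx
    refine Cfsg.Lib.Core.mem_normalizer_iff_map_conj.2 (huniq _ ?_ ?_ ?_)
    · rintro _ ⟨y, hy, rfl⟩
      exact (mem_normalizer_iff.1 (mem_normalizer_inf (hnT x) (le_normalizer hx)) y).1 (hWD hy)
    · have hDx : D.map (MulAut.conj x).toMonoidHom = D := Cfsg.Lib.Core.mem_normalizer_iff_map_conj.1
        (mem_normalizer_inf (hnT x) (le_normalizer hx))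
      rw [← map_equiv_normalizer_eq W (MulAut.conj x)]
      exact hDx.symm.le.trans (map_mono hDW)
    · rw [card_map_of_injective (MulAut.conj x).injective, hW4]
  have hW1 : W ≠ ⊥ := fun h' => by rw [h', card_bot] at hW4; omega
  have hNW : normalizer (W : Set G) = H := hS.prim.normalizer_eq (hWD.trans inf_le_right) hHW hW1
  have hTh : T.map (MulAut.conj h).toMonoidHom = T := Cfsg.Lib.Core.mem_normalizer_iff_map_conj.1 (hnT h)
  have hH' : H.map (MulAut.conj h).toMonoidHom = seg t 1 (n + 1) := by rw [hh, zero_add]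
  -- the subgroup of order eight
  set P := T ⊓ K with hPd
  have hKH : K ≤ H := seg_mono t (by omega) (by omega)
  have hKH' : K ≤ seg t 1 (n + 1) := seg_mono t (by omega) (by omega)
  have hPD : P ≤ D := inf_le_inf_left T hKH
  have hD24 : Nat.card D = 24 := by
    rw [Nat.card_congr e.toEquiv, Nat.card_perm, Nat.card_fin]
    rfl
  have hPp : IsPGroup 2 P := (IsPGroup.of_card (n := n) (hV.card 1 n le_rfl) : IsPGroup 2 K).to_le inf_le_right
  have hbound : ∀ R : Subgroup G, R ≤ D → IsPGroup 2 R → Nat.card R ≤ 8 := fun R hRD hR => by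
    obtain ⟨j, hj⟩ := hR.exists_card_eq
    have hd : 2 ^ j ∣ 3 * 8 := by
      have := card_dvd_of_le hRD
      rwa [hj, hD24] at this
    rw [hj]
    exact Nat.le_of_dvd (by norm_num) ((Nat.Coprime.pow_left j (by norm_num)).dvd_of_dvd_mul_left hd)
  have hP8 : Nat.card P = 8 := by
    refine le_antisymm (hbound P hPD hPp) ?_
    have h1 : K.relIndex D ≤ 3 := by
      refine (relIndex_le_of_le_right (inf_le_right : D ≤ H) (H := K)
        (by rw [relIndex]; exact index_ne_zero_of_finite)).trans ?_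
      have h2 := Cfsg.Lib.Core.card_mul_relIndex (H := K) (K := H) hKH
      rw [hV.card 1 n le_rfl, hS.card_top] at h2
      exact (Nat.eq_of_mul_eq_mul_left (Nat.two_pow_pos n) (h2.trans (mul_comm _ _))).le
    have h3 := card_mul_index (K.subgroupOf D)
    have h4 : Nat.card (K.subgroupOf D) = Nat.card P := by
      rw [← inf_subgroupOf_right K D]
      rw [Nat.card_congr (subgroupOfEquivOfLe (inf_le_right : K ⊓ D ≤ D)).toEquiv]
      congr 2
      rw [hPd, hDd]
      refine le_antisymm (fun x hx => ⟨hx.2.1, hx.1⟩) (fun x hx => ⟨hx.2, hx.1, hKH hx.2⟩)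
    rw [h4, hD24, show (K.subgroupOf D).index = K.relIndex D from rfl] at h3
    by_contra hlt
    push Not at hlt
    have : Nat.card P * K.relIndex D ≤ 7 * 3 := Nat.mul_le_mul (by omega) h1
    omega
  have hWP : W ≤ P := by
    have hWp : IsPGroup 2 W := IsPGroup.of_card (n := 2) (by rw [hW4]; rfl)
    have hsp : IsPGroup 2 ↥(P ⊔ W) := hPp.to_sup_of_normal_right' hWp (hPD.trans hDW)
    have := eq_of_le_of_card_ge (le_sup_left : P ≤ P ⊔ W)
      (by rw [hP8]; exact hbound _ (sup_le hPD hWD) hsp)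
    exact le_sup_right.trans this.ge
  set W' := W.map (MulAut.conj h).toMonoidHom with hW'd
  have hW'T : W' ≤ T := hTh ▸ map_mono (hWD.trans inf_le_left)
  have hNW' : normalizer (W' : Set G) = seg t 1 (n + 1) := by
    rw [hW'd, ← map_equiv_normalizer_eq W (MulAut.conj h), ← hH', ← hNW]
  have hPW' : P ≤ normalizer (W' : Set G) := inf_le_right.trans (hKH'.trans hNW'.ge)
  have hW'P : W' ≤ P := by
    have hWp : IsPGroup 2 W' := IsPGroup.of_card (n := 2)
      (by rw [hW'd, card_map_of_injective (MulAut.conj h).injective, hW4]; rfl)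
    have hsp : IsPGroup 2 ↥(P ⊔ W') := hPp.to_sup_of_normal_right' hWp hPW'
    have hle : P ⊔ W' ≤ D.map (MulAut.conj h).toMonoidHom := by
      rw [hDd, map_inf _ _ _ (MulAut.conj h).injective, hTh, hH']
      exact sup_le (le_inf inf_le_left (inf_le_right.trans hKH'))
        (le_inf hW'T (hH' ▸ map_mono (hWD.trans inf_le_right)))
    have h8 : Nat.card ↥(P ⊔ W') ≤ 8 := by
      obtain ⟨j, hj⟩ := hsp.exists_card_eq
      have hd : 2 ^ j ∣ 3 * 8 := by
        have := card_dvd_of_le hle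
        rwa [hj, card_map_of_injective (MulAut.conj h).injective, hD24] at this
      rw [hj]
      exact Nat.le_of_dvd (by norm_num) ((Nat.Coprime.pow_left j (by norm_num)).dvd_of_dvd_mul_left hd)
    have := eq_of_le_of_card_ge (le_sup_left : P ≤ P ⊔ W') (by rw [hP8]; exact h8)
    exact le_sup_right.trans this.ge
  -- conjugate inside the socle
  obtain ⟨τ, hτT, η, hη, hτη⟩ : ∃ τ ∈ T, ∃ η ∈ H, τ * η = h := by
    have := hS.sup ▸ mem_top h
    rw [← SetLike.mem_coe, normal_mul] at this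
    exact this
  have hτW : W.map (MulAut.conj τ).toMonoidHom = W' := by
    rw [hW'd, ← hτη, Cfsg.Lib.Core.map_conj_mul,
      Cfsg.Lib.Core.mem_normalizer_iff_map_conj.1 (hHW hη)]
  have hWT : W ≤ T := hWD.trans inf_le_left
  have hPT : P ≤ T := inf_le_left
  have hnorm : ∀ X : Subgroup G, X ≤ T →
      normalizer ((X.subgroupOf T : Subgroup T) : Set T) = (normalizer (X : Set G)).subgroupOf T :=
    fun X hX => (subgroupOf_normalizer_eq hX).symm
  have hND : normalizer ((W.subgroupOf T : Subgroup T) : Set T) = D.subgroupOf T := by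
    rw [hnorm W hWT, hNW, hDd, inf_subgroupOf_left]
  refine ⟨W.subgroupOf T, W'.subgroupOf T, P.subgroupOf T, ?_, hND⟩
  refine
    { four := by rw [Nat.card_congr (subgroupOfEquivOfLe hWT).toEquiv, hW4]
      sq := fun x hx => Subtype.ext (hWsq x hx)
      cent := ?_
      norm := ⟨((MulEquiv.subgroupCongr hND).trans (subgroupOfEquivOfLe inf_le_left)).trans e⟩
      eight := by rw [Nat.card_congr (subgroupOfEquivOfLe hPT).toEquiv, hP8]
      le := fun x hx => hWP hx
      le' := fun x hx => hW'P hx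
      norm_le := ?_
      norm_le' := ?_
      ne := ?_
      conj := ⟨⟨τ, hτT⟩, ?_⟩ }
  · refine le_antisymm (fun x hx => ?_) (fun x hx => mem_centralizer_iff.2 fun y hy => Subtype.ext ?_)
    · have hxD : x ∈ D.subgroupOf T := hND ▸ centralizer_le_normalizer _ hx
      refine (hmemW (x : G) hxD).2 (perm_four_cent _ fun f hf => ?_)
      obtain ⟨y, hy⟩ := e.surjective f
      have hyW : (y : G) ∈ W := (hmemW _ y.2).2 (hy ▸ hf)
      have h1 : (y : G) * x = x * y :=
        congrArg Subtype.val (mem_centralizer_iff.1 hx ⟨y, hWT hyW⟩ hyW)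
      rw [← hy, ← map_mul, ← map_mul]
      exact congrArg e (Subtype.ext h1.symm)
    · exact (Commute.eq (commute_of_comm_eq_one (hWsq _ hy) (hWsq _ hx) (by
        have := hWsq _ (W.mul_mem hy hx)
        simpa [mul_assoc] using this)))
  · rw [hnorm W hWT]
    exact fun x hx => (hPD.trans hDW) hx
  · rw [hnorm W' hW'T]
    exact fun x hx => hPW' hx
  · intro h'
    rw [subgroupOf_inj, inf_eq_left.2 hW'T, inf_eq_left.2 hWT] at h'
    have h'' : seg t 1 (n + 1) = seg t 0 (n + 1) := hNW'.symm.trans (h'.symm ▸ hNW)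
    have := hV.top_ne 0
    rw [zero_add] at this
    exact this h''.symm
  · ext ⟨x, hx⟩
    simp only [mem_subgroupOf, ← hτW]
    constructor
    · rintro ⟨y, hy, hyx⟩
      exact ⟨(y : G), hy, congrArg Subtype.val hyx⟩
    · rintro ⟨y, hy, hyx⟩
      exact ⟨⟨y, hWT hy⟩, hy, Subtype.ext hyx⟩

end Cfsg.Lib.Perm.SubThree
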