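import Cfsg.Agent.Lib.Perm.SuborbitThree.SFour
import Cfsg.Agent.Lib.Perm.SuborbitThree.FourTwo
import Cfsg.Agent.Lib.Linear.GLTwo
import Cfsg.Agent.S5892

/-!
# Suborbits of length three: dihedral Sylow subgroups
-/

set_option autoImplicit false
set_option linter.style.haveILetI false
set_option linter.unusedSectionVars false

namespace Cfsg.Lib.Perm.SubThree

open Subgroup Cfsg.Lib.Perm.TW Cfsg.Lib.Perm.Window
open scoped Pointwise

universe u

theorem perm_four_squares : ∃ σ τ : Equiv.Perm (Fin 4), σ * σ * (τ * τ) ≠ τ * τ * (σ * σ) := by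
  decide +kernel

/-- Two matrices commuting with a nonscalar matrix of degree two commute. -/
theorem two_commute {F : Type*} [Field F] {A X Y : Matrix (Fin 2) (Fin 2) F}
    (hA : ¬ (A 0 1 = 0 ∧ A 1 0 = 0 ∧ A 0 0 = A 1 1)) (hX : A * X = X * A) (hY : A * Y = Y * A) :
    X * Y = Y * X := by
  have x00 := congrFun (congrFun hX 0) 0
  have x01 := congrFun (congrFun hX 0) 1
  have x10 := congrFun (congrFun hX 1) 0
  have y00 := congrFun (congrFun hY 0) 0
  have y01 := congrFun (congrFun hY 0) 1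
  have y10 := congrFun (congrFun hY 1) 0
  simp only [Matrix.mul_apply, Fin.sum_univ_two] at x00 x01 x10 y00 y01 y10
  have key : X 0 1 * Y 1 0 = X 1 0 * Y 0 1 ∧ X 0 1 * (Y 1 1 - Y 0 0) = Y 0 1 * (X 1 1 - X 0 0) ∧
      X 1 0 * (Y 1 1 - Y 0 0) = Y 1 0 * (X 1 1 - X 0 0) := by
    by_cases hb : A 0 1 = 0
    · by_cases hc : A 1 0 = 0
      · have hd : A 0 0 - A 1 1 ≠ 0 := fun h => hA ⟨hb, hc, sub_eq_zero.1 h⟩
        have e1 : X 0 1 = 0 := (mul_eq_zero.1 (by rw [hb] at x01; linear_combination x01 :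
          (A 0 0 - A 1 1) * X 0 1 = 0)).resolve_left hd
        have e2 : X 1 0 = 0 := (mul_eq_zero.1 (by rw [hc] at x10; linear_combination -x10 :
          (A 0 0 - A 1 1) * X 1 0 = 0)).resolve_left hd
        have e3 : Y 0 1 = 0 := (mul_eq_zero.1 (by rw [hb] at y01; linear_combination y01 :
          (A 0 0 - A 1 1) * Y 0 1 = 0)).resolve_left hd
        have e4 : Y 1 0 = 0 := (mul_eq_zero.1 (by rw [hc] at y10; linear_combination -y10 :
          (A 0 0 - A 1 1) * Y 1 0 = 0)).resolve_left hd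
        rw [e1, e2, e3, e4]
        refine ⟨?_, ?_, ?_⟩ <;> ring
      · refine ⟨mul_left_cancel₀ hc ?_, mul_left_cancel₀ hc ?_, mul_left_cancel₀ hc ?_⟩
        · linear_combination -Y 1 0 * x00 + X 1 0 * y00
        · rw [hb] at x00 y00
          linear_combination -(Y 1 1 - Y 0 0) * x00 + (X 1 1 - X 0 0) * y00
        · linear_combination -X 1 0 * y10 + Y 1 0 * x10
    · have k2 : X 0 1 * (Y 1 1 - Y 0 0) = Y 0 1 * (X 1 1 - X 0 0) :=
        mul_left_cancel₀ hb (by linear_combination X 0 1 * y01 - Y 0 1 * x01)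
      refine ⟨mul_left_cancel₀ hb ?_, k2, mul_left_cancel₀ hb ?_⟩
      · linear_combination X 0 1 * y00 - Y 0 1 * x00
      · linear_combination (Y 1 1 - Y 0 0) * x00 - (X 1 1 - X 0 0) * y00 + A 1 0 * k2
  obtain ⟨k1, k2, k3⟩ := key
  ext i j
  fin_cases i <;> fin_cases j <;> simp [Matrix.mul_apply, Fin.sum_univ_two]
  · linear_combination k1
  · linear_combination k2
  · linear_combination -k3
  · linear_combination -k1

/-- Equal classes in `PSL` differ by a scalar root of unity. -/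
theorem mk_eq_smul {m : ℕ} {F : Type*} [Field F] {s r : Matrix.SpecialLinearGroup (Fin m) F}
    (h : (QuotientGroup.mk s : Matrix.ProjectiveSpecialLinearGroup (Fin m) F) = QuotientGroup.mk r) :
    ∃ c : F, c ^ m = 1 ∧ r.1 = c • s.1 := by
  obtain ⟨c, hc, he⟩ := Matrix.SpecialLinearGroup.mem_center_iff.1 (QuotientGroup.eq.1 h)
  refine ⟨c, by simpa using hc, ?_⟩
  have e : r.1 = s.1 * (s⁻¹ * r).1 := by
    rw [← Matrix.SpecialLinearGroup.coe_mul, mul_inv_cancel_left]
  rw [e, ← he, Matrix.scalar_apply, ← Matrix.smul_one_eq_diagonal, Matrix.mul_smul, Matrix.mul_one]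

/-- An upper unitriangular matrix. -/
def unip {F : Type*} [Field F] (x : F) : Matrix.SpecialLinearGroup (Fin 2) F :=
  ⟨!![1, x; 0, 1], by simp [Matrix.det_fin_two]⟩

theorem unip_coe {F : Type*} [Field F] (x : F) : (unip x).1 = !![1, x; 0, 1] := rfl

theorem unip_add {F : Type*} [Field F] (x y : F) : unip (x + y) = unip x * unip y := by
  refine Subtype.ext ?_
  rw [Matrix.SpecialLinearGroup.coe_mul, unip_coe, unip_coe, unip_coe, Matrix.mul_fin_two]
  simp [add_comm]

theorem unip_zero {F : Type*} [Field F] : unip (0 : F) = 1 := by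
  refine Subtype.ext ?_
  rw [unip_coe, Matrix.SpecialLinearGroup.coe_one, Matrix.one_fin_two]

/-- A simple group with two such four groups and dihedral Sylow subgroups is `PSL₂(q)`. -/
theorem SFour.dihedral_psl {T : Type u} [Group T] [Finite T] [IsSimpleGroup T] {V V' P : Subgroup T}
    (h : SFour V V' P) (hna : ¬ IsMulCommutative T) (hd : Cfsg.Lib.GW.SylowDihedral T) :
    ∃ (F : Type) (_ : Field F) (_ : Fintype F), Odd (Fintype.card F) ∧ 5 ≤ Fintype.card F ∧
      Fintype.card F ^ 2 % 32 = 1 ∧ Nonempty (T ≃* Matrix.ProjectiveSpecialLinearGroup (Fin 2) F) := by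
  haveI : Fact (Nat.Prime 2) := ⟨Nat.prime_two⟩
  obtain ⟨S⟩ : Nonempty (Sylow 2 T) := inferInstance
  have h16 : 16 ∣ Nat.card T := by
    obtain ⟨j, hj⟩ := S.2.exists_card_eq
    have hge := h.sixteen S
    rw [hj] at hge
    have hj4 : 4 ≤ j := by
      by_contra hlt
      have := Nat.pow_le_pow_right (show 1 ≤ 2 by norm_num) (show j ≤ 3 by omega)
      omega
    exact (show 16 ∣ 2 ^ j from pow_dvd_pow 2 hj4).trans (hj ▸ card_subgroup_dvd_card _)
  rcases Cfsg.Lib.GW.simpleGW T hna hd with ⟨F, hF, hFf, hodd, h3, ⟨e⟩⟩ | ⟨⟨e⟩⟩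
  · refine ⟨F, hF, hFf, hodd, by obtain ⟨k, hk⟩ := hodd; omega, ?_, ⟨e⟩⟩
    have hc := Cfsg.Lib.Linear.Two.card_PSL_two (F := F)
    have hg : Nat.gcd 2 (Fintype.card F - 1) = 2 := by
      obtain ⟨k, hk⟩ := hodd
      rw [hk, Nat.add_sub_cancel]
      exact Nat.gcd_eq_left (Dvd.intro k rfl)
    rw [hg, ← Nat.card_congr e.toEquiv] at hc
    have h32 : 32 ∣ Fintype.card F * (Fintype.card F ^ 2 - 1) := by
      rw [← hc, show 32 = 2 * 16 by rfl]
      exact Nat.mul_dvd_mul_left 2 h16
    have hcop : Nat.Coprime 32 (Fintype.card F) :=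
      show Nat.Coprime (2 ^ 5) _ from Nat.Coprime.pow_left 5 (Nat.coprime_two_left.2 hodd)
    have h1 := hcop.dvd_of_dvd_mul_left h32
    have : 1 ≤ Fintype.card F ^ 2 := Nat.one_le_pow _ _ Fintype.card_pos
    omega
  · exfalso
    rw [Nat.card_congr e.toEquiv, nat_card_alternatingGroup, Nat.card_fin] at h16
    norm_num [Nat.factorial] at h16

theorem sylowDihedral_of_one {T : Type u} [Group T] [Finite T] (S : Sylow 2 T) {m : ℕ} (hm : 2 ≤ m)
    (e : (S : Subgroup T) ≃* DihedralGroup m) : Cfsg.Lib.GW.SylowDihedral T := fun R => by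
  haveI : Fact (Nat.Prime 2) := ⟨Nat.prime_two⟩
  exact ⟨m, hm, ⟨(R.equiv S).trans e⟩⟩

namespace Setup

variable {G : Type u} [Group G] [Finite G] {t : ℤ → G} {T : Subgroup G}

/-- `n = 3` with dihedral Sylow subgroups: `PSL₂(p)`. -/
theorem case_three_dihedral (hS : Setup 3 t T) {V V' P : Subgroup T} (h : SFour V V' P)
    (hd : Cfsg.Lib.GW.SylowDihedral ↥T) :
    ∃ p : ℕ, p.Prime ∧ (p % 16 = 1 ∨ p % 16 = 15) ∧
      Nonempty (G ≃* Matrix.ProjectiveSpecialLinearGroup (Fin 2) (ZMod p)) := by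
  haveI := hS.simple
  obtain ⟨F, hF, hFf, hodd, h5, hq, ⟨e⟩⟩ := h.dihedral_psl hS.nonab hd
  have hT := hS.top_three
  obtain ⟨eH⟩ := hS.iso_three
  let eG : G ≃* Matrix.ProjectiveSpecialLinearGroup (Fin 2) F :=
    (topEquiv.symm.trans (MulEquiv.subgroupCongr hT.symm)).trans e
  set H := seg t 0 (3 + 1)
  set M := H.map eG.toMonoidHom
  have hM : IsCoatom M := by
    refine ⟨fun h' => hS.prim.coatom.1 ?_, fun b hb => ?_⟩
    · rwa [← map_top_of_surjective eG.toMonoidHom eG.surjective, (map_injective eG.injective).eq_iff] at h'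
    · have hb' : H < b.comap eG.toMonoidHom := by
        rw [← comap_map_eq_self_of_injective (f := eG.toMonoidHom) eG.injective H]
        exact (comap_lt_comap_of_surjective eG.surjective).2 hb
      have := hS.prim.coatom.2 _ hb'
      rw [eq_top_iff] at this ⊢
      intro x _
      obtain ⟨y, rfl⟩ := eG.surjective x
      exact this (mem_top y)
  have hM24 : Nat.card M = 24 := by
    rw [card_map_of_injective eG.injective, Nat.card_congr eH.toEquiv, Nat.card_perm, Nat.card_fin]
    rfl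
  obtain ⟨p, hp⟩ := CharP.exists F
  haveI : Fact p.Prime := ⟨CharP.char_is_prime F p⟩
  set q := Fintype.card F with hqd
  have hsmall : ∀ k ≤ 30, q = k → k ^ 2 % 32 = 1 := fun k _ hk => hk ▸ hq
  rcases Cfsg.Agent.S5892.result p hodd h5 M hM with
    h' | ⟨-, k, hk, ⟨f⟩⟩ | ⟨-, -, k, hk, ⟨f⟩⟩ | ⟨F₀, _, _, hc, ⟨f⟩⟩ | ⟨F₀, _, _, r, -, hr, hc, ⟨f⟩⟩ |
      ⟨-, -, ⟨f⟩⟩ | ⟨-, -, -, ⟨f⟩⟩ | ⟨hqp, hp8, -⟩
  · exfalso
    rw [hM24, ← hqd] at h'
    obtain ⟨c, hc⟩ : ∃ c, q = c + 1 := ⟨q - 1, by omega⟩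
    rw [hc, Nat.add_sub_cancel] at h'
    rcases Nat.lt_or_ge c 7 with hlt | hge
    · interval_cases c <;> omega
    · nlinarith
  · exfalso
    rw [Nat.card_congr f.toEquiv, DihedralGroup.nat_card] at hM24
    have := hsmall 25 (by norm_num) (by omega)
    norm_num at this
  · exfalso
    rw [Nat.card_congr f.toEquiv, DihedralGroup.nat_card] at hM24
    have := hsmall 23 (by norm_num) (by omega)
    norm_num at this
  · exfalso
    rw [Nat.card_congr f.toEquiv, Cfsg.Lib.Linear.card_PGL_eq_card_SL,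
      Cfsg.Lib.Linear.Two.card_SL_two] at hM24
    have h2 : Fintype.card F₀ ≤ 3 := by
      by_contra hlt
      have h16 := Nat.pow_le_pow_left (show 4 ≤ Fintype.card F₀ by omega) 2
      have := Nat.mul_le_mul (show 4 ≤ Fintype.card F₀ by omega)
        (show 15 ≤ Fintype.card F₀ ^ 2 - 1 by omega)
      omega
    interval_cases hc0 : Fintype.card F₀ <;> norm_num at hM24
    have := hsmall 9 (by norm_num) (by omega)
    norm_num at this
  · exfalso
    have hodd0 : Odd (Fintype.card F₀) := by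
      rw [show q = Fintype.card F from hqd, hc] at hodd
      exact Nat.Odd.of_mul_left (m := Fintype.card F₀) (n := Fintype.card F₀ ^ (r - 1))
        (by rwa [← pow_succ', Nat.sub_add_cancel hr.pos])
    have hc2 := Cfsg.Lib.Linear.Two.card_PSL_two (F := F₀)
    rw [← Nat.card_congr f.toEquiv, hM24] at hc2
    obtain ⟨k, hk⟩ := hodd0
    rw [hk, Nat.add_sub_cancel, Nat.gcd_eq_left (Dvd.intro k rfl)] at hc2
    rcases Nat.lt_or_ge k 2 with hlt | hge
    · interval_cases k <;> norm_num at hc2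
    · have h16 := Nat.pow_le_pow_left (show 5 ≤ 2 * k + 1 by omega) 2
      have := Nat.mul_le_mul (show 5 ≤ 2 * k + 1 by omega) (show 24 ≤ (2 * k + 1) ^ 2 - 1 by omega)
      omega
  · exfalso
    rw [Nat.card_congr f.toEquiv, nat_card_alternatingGroup, Nat.card_fin] at hM24
    norm_num [Nat.factorial] at hM24
  · exfalso
    rw [Nat.card_congr f.toEquiv, nat_card_alternatingGroup, Nat.card_fin] at hM24
    norm_num [Nat.factorial] at hM24
  · refine ⟨p, Fact.out, ?_, ⟨eG.trans (Cfsg.Lib.Dickson.pslEquiv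
      (FiniteField.ringEquivOfCardEq (by rw [ZMod.card, ← hqp])))⟩⟩
    rw [← hqd] at hqp
    rw [hqp] at hq
    have h16 : p % 16 < 16 := Nat.mod_lt _ (by norm_num)
    have e : p ^ 2 % 32 = ((p % 16) ^ 2) % 32 := by
      conv_lhs => rw [← Nat.mod_add_div p 16]
      ring_nf
      omega
    rw [e] at hq
    interval_cases p % 16 <;> omega

open Cfsg.Lib.Linear.AutPSL Cfsg.Lib.Linear.Descent in
/-- `n = 4`: the socle does not have dihedral Sylow subgroups. -/
theorem four_dihedral_false (hS : Setup 4 t T) (h2T : t 2 ∉ T)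
    (eD : ↥(T ⊓ seg t 0 (4 + 1)) ≃* Equiv.Perm (Fin 4)) {V V' P : Subgroup T} (h : SFour V V' P)
    (hd : Cfsg.Lib.GW.SylowDihedral ↥T) : False := by
  haveI := hS.simple
  haveI := hS.normal
  obtain ⟨F, hF, hFf, hodd, h5, hq, ⟨e⟩⟩ := h.dihedral_psl hS.nonab hd
  set z := t 2 with hz
  set D := T ⊓ seg t 0 (4 + 1) with hD
  have hCz : centralizer ({z} : Set G) = seg t 0 (4 + 1) := by
    have := hS.centralizer_four 0
    rwa [zero_add] at this
  have hfix : ∀ y : Matrix.ProjectiveSpecialLinearGroup (Fin 2) F,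
      GW.PGL.autHom e z y = y → ((e.symm y : T) : G) ∈ D := by
    intro y hy
    refine ⟨(e.symm y).2, hCz.le (mem_centralizer_singleton_iff.2 ?_)⟩
    rw [GW.PGL.autHom_apply] at hy
    have h' := congrArg Subtype.val (e.injective (hy.trans (e.apply_symm_apply y).symm))
    rw [MulAut.conjNormal_apply] at h'
    exact (mul_inv_eq_iff_eq_mul.1 h').symm
  have hfix' : ∀ x (hx : x ∈ D), GW.PGL.autHom e z (e ⟨x, hx.1⟩) = e ⟨x, hx.1⟩ := by
    intro x hx
    rw [GW.PGL.autHom_apply, e.symm_apply_apply]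
    refine congrArg e (Subtype.ext ?_)
    rw [MulAut.conjNormal_apply]
    exact mul_inv_eq_iff_eq_mul.2 (mem_centralizer_singleton_iff.1 (hCz.ge hx.2)).symm
  have hz1 : z ≠ 1 := fun h' => h2T (h' ▸ T.one_mem)
  have haz : GW.PGL.autHom e z ≠ 1 := fun h' =>
    hz1 (GW.PGL.autHom_injective e hS.cent (h'.trans (map_one _).symm))
  obtain ⟨A, σ, hA⟩ := GW.PGL.exists_decomp_two (GW.PGL.autHom e z)
  by_cases hσ : σ = 1
  · rw [hσ, map_one, mul_one] at hA
    have hAns : ¬ (A.val 0 1 = 0 ∧ A.val 1 0 = 0 ∧ A.val 0 0 = A.val 1 1) := by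
      rintro ⟨h01, h10, hd'⟩
      refine haz (hA.trans ((innd_eq_one_iff le_rfl).2 ?_))
      have hne : A.val 0 0 ≠ 0 := fun h0 => by
        have hdet := Matrix.GeneralLinearGroup.det_ne_zero A
        rw [Matrix.det_fin_two, h01, h0] at hdet
        simp at hdet
      refine ⟨Units.mk0 _ hne, Units.ext ?_⟩
      rw [sc_val, Units.val_mk0]
      ext i j
      fin_cases i <;> fin_cases j <;> simp [h01, h10, hd']
    have hsq : ∀ x (hx : x ∈ D), ∃ s : Matrix.SpecialLinearGroup (Fin 2) F,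
        (QuotientGroup.mk s : Matrix.ProjectiveSpecialLinearGroup (Fin 2) F) = e ⟨x, hx.1⟩ ∧
          A.val * (s.1 * s.1) = (s.1 * s.1) * A.val := by
      intro x hx
      obtain ⟨s, hs⟩ := QuotientGroup.mk_surjective (e ⟨x, hx.1⟩)
      refine ⟨s, hs, ?_⟩
      have h' := hfix' x hx
      rw [← hs, hA, innd_mk] at h'
      obtain ⟨c, hc, hcs⟩ := mk_eq_smul h'
      rw [cnjHom_coe] at hcs
      have hcc : c * c = 1 := by rw [← pow_two]; exact hc
      have hinv : (A⁻¹).val * A.val = 1 := by rw [← Units.val_mul, inv_mul_cancel, Units.val_one]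
      have e1 : s.1 * s.1 = A.val * (s.1 * s.1) * (A⁻¹).val := by
        conv_lhs => rw [hcs]
        rw [Matrix.smul_mul, Matrix.mul_smul, smul_smul, hcc, one_smul]
        calc A.val * s.1 * (A⁻¹).val * (A.val * s.1 * (A⁻¹).val)
            = A.val * s.1 * ((A⁻¹).val * A.val) * s.1 * (A⁻¹).val := by simp only [mul_assoc]
          _ = A.val * (s.1 * s.1) * (A⁻¹).val := by rw [hinv, mul_one]; simp only [mul_assoc]
      calc A.val * (s.1 * s.1) = A.val * (s.1 * s.1) * ((A⁻¹).val * A.val) := by rw [hinv, mul_one]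
        _ = A.val * (s.1 * s.1) * (A⁻¹).val * A.val := by simp only [mul_assoc]
        _ = _ := by rw [← e1]
    obtain ⟨a, b, hab⟩ := perm_four_squares
    refine hab ?_
    obtain ⟨s, hs, hsA⟩ := hsq _ (eD.symm a).2
    obtain ⟨r, hr, hrA⟩ := hsq _ (eD.symm b).2
    have hcomm := two_commute hAns hsA hrA
    have hcomm' : s * s * (r * r) = r * r * (s * s) := Subtype.ext hcomm
    have h1 := congrArg (fun w => (QuotientGroup.mk w : Matrix.ProjectiveSpecialLinearGroup (Fin 2) F)) hcomm'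
    simp only [QuotientGroup.mk_mul, hs, hr, ← map_mul] at h1
    have h2 : eD.symm a * eD.symm a * (eD.symm b * eD.symm b) =
        eD.symm b * eD.symm b * (eD.symm a * eD.symm a) :=
      Subtype.ext (congrArg (fun w : T => (w : G)) (e.injective h1) :)
    simpa using congrArg eD h2
  · have hzz : z * z = 1 := hS.vertex.sq 2
    have h2 : (innd A * fld σ : MulAut (Matrix.ProjectiveSpecialLinearGroup (Fin 2) F)) * (innd A * fld σ) = 1 := by
      rw [← hA, ← map_mul, hzz, map_one]
    have ho : orderOf (innd A * fld σ : MulAut (Matrix.ProjectiveSpecialLinearGroup (Fin 2) F)) = 2 :=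
      orderOf_eq_prime (by rw [pow_two, h2]) (by rw [← hA]; exact haz)
    have hσ2 : orderOf σ = 2 := by
      refine orderOf_eq_prime ?_ hσ
      have h3 : innd (A * sm σ A) * fld (σ ^ 2) =
          (1 : MulAut (Matrix.ProjectiveSpecialLinearGroup (Fin 2) F)) := by
        rw [map_mul, map_pow, pow_two, ← mul_assoc, mul_assoc (innd A), ← fld_mul_innd', ← mul_assoc,
          mul_assoc, h2]
      exact fld_eq_of_eq (n := 2) (g := A * sm σ A) (g' := 1) (σ := σ ^ 2) (σ' := 1) le_rfl
        (h3.trans (by rw [map_one, map_one, mul_one]))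
    obtain ⟨k, -, hk⟩ := (field_coset (n := 2) le_rfl Nat.prime_two hσ2 A).1 ho
    let φ : Multiplicative (fixedF σ) →* Matrix.ProjectiveSpecialLinearGroup (Fin 2) F :=
      { toFun := fun c => QuotientGroup.mk (unip ((c.toAdd : fixedF σ) : F))
        map_one' := by rw [toAdd_one, ZeroMemClass.coe_zero, unip_zero, QuotientGroup.mk_one]
        map_mul' := fun c d => by rw [toAdd_mul, AddMemClass.coe_add, unip_add, QuotientGroup.mk_mul] }
    have hφ : Function.Injective φ := by
      rw [injective_iff_map_eq_one]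
      intro c hc
      by_contra hne
      refine GW.PGL.mk_ne_one_of_offDiag (Or.inl ?_) hc
      intro h0
      exact hne (by simpa [unip_coe] using h0)
    have hφfix : ∀ c, (fld σ : MulAut (Matrix.ProjectiveSpecialLinearGroup (Fin 2) F)) (φ c) = φ c := by
      intro c
      show fld σ (QuotientGroup.mk (unip _)) = QuotientGroup.mk (unip _)
      rw [fld_mk]
      refine congrArg _ (Subtype.ext ?_)
      rw [frobHom_coe, unip_coe]
      ext i j
      fin_cases i <;> fin_cases j <;> simp [mem_fixedF.1 c.toAdd.2]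
    have hmem : ∀ c, ((e.symm (k (φ c)) : T) : G) ∈ D := fun c => hfix _ (by
      rw [hA, hk, MulAut.mul_apply, MulAut.mul_apply, MulAut.inv_apply_self, hφfix])
    let ψ : Multiplicative (fixedF σ) →* ↥D :=
      (T.subtype.comp ((e.symm.toMonoidHom.comp k.toMonoidHom).comp φ)).codRestrict D hmem
    have hψ : Function.Injective ψ := fun c d hcd =>
      hφ (k.injective (e.symm.injective (Subtype.ext (congrArg (fun w : D => (w : G)) hcd :))))
    have hd24 := Subgroup.card_dvd_of_injective ψ hψ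
    rw [Nat.card_congr eD.toEquiv, Nat.card_perm, Nat.card_fin,
      show Nat.card (Multiplicative (fixedF σ)) = Nat.card (fixedF σ) from
        Nat.card_congr Multiplicative.toAdd] at hd24
    have hpow := card_fixedF_pow σ
    rw [hσ2] at hpow
    set q0 := Nat.card (fixedF σ)
    have hle : q0 ≤ 24 := Nat.le_of_dvd (by norm_num) (by simpa [Nat.factorial] using hd24)
    rw [← hpow] at hq h5 hodd
    have hodd0 : Nat.Coprime q0 8 :=
      show Nat.Coprime q0 (2 ^ 3) from
        Nat.Coprime.pow_right 3 (Nat.coprime_two_right.2 ((Nat.odd_pow_iff two_ne_zero).1 hodd))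
    have h3 : q0 ∣ 3 := hodd0.dvd_of_dvd_mul_right
      (show q0 ∣ 3 * 8 by simpa [Nat.factorial] using hd24)
    rcases (Nat.dvd_prime Nat.prime_three).1 h3 with h1 | h1 <;> rw [h1] at hq h5 <;> omega

end Setup

end Cfsg.Lib.Perm.SubThree
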