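import Cfsg.Agent.Lib.Perm.SuborbitThree.Reduction
import Cfsg.Agent.Lib.GW.PGL
import Cfsg.Agent.Lib.GW.Main
import Cfsg.Agent.Lib.Dickson.Involutions
import Cfsg.Agent.Lib.MEleven.Basic
import Cfsg.Agent.Lib.Linear.PSLSmall
import Cfsg.Agent.Lib.TwoGroup.QuasiDihedral
import Cfsg.Agent.S3331
import Cfsg.Agent.S1008
import Cfsg.Agent.S3224
import Cfsg.Agent.S4231

/-!
# Suborbits of length three: the cases `n = 1` and `n = 2`
-/

set_option autoImplicit false
set_option linter.style.haveILetI false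
set_option linter.unusedSectionVars false

namespace Cfsg.Lib.Perm.SubThree

open Subgroup Cfsg.Lib.Perm.TW Cfsg.Lib.Perm.Window
open scoped Pointwise

universe u

variable {G : Type u} [Group G] [Finite G]

/-- In a nonabelian subgroup of order six the subgroup of order three is characteristic and self-centralizing. -/
theorem six_structure {D : Subgroup G} (hD : Nat.card D = 6) (hna : ¬ IsMulCommutative D) :
    ∃ X : Subgroup G, X ≤ D ∧ Nat.card X = 3 ∧ normalizer (D : Set G) ≤ normalizer (X : Set G) ∧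
      D ⊓ centralizer (X : Set G) = X := by
  haveI : Fact (Nat.Prime 3) := ⟨Nat.prime_three⟩
  obtain ⟨x, hx⟩ := exists_prime_orderOf_dvd_card' (G := D) 3 (by rw [hD]; norm_num)
  set X := zpowers (x : G) with hX
  have hXD : X ≤ D := zpowers_le.2 x.2
  have hX3 : Nat.card X = 3 := by rw [Nat.card_zpowers, Subgroup.orderOf_coe, hx]
  have hidx : (X.subgroupOf D).index = 2 := by
    have h := card_mul_index (X.subgroupOf D)
    rw [Nat.card_congr (subgroupOfEquivOfLe hXD).toEquiv, hX3, hD] at h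
    omega
  have hpow : ∀ y ∈ X, y ^ 3 = 1 := fun y hy => by
    have := pow_card_eq_one' (G := X) (x := ⟨y, hy⟩)
    rw [hX3] at this
    exact congrArg Subtype.val this
  have huniq : ∀ y ∈ D, y ^ 3 = 1 → y ∈ X := by
    intro y hy hy3
    have h2 : y ^ 2 ∈ X := (Subgroup.sq_mem_of_index_two hidx (⟨y, hy⟩ : D) :)
    have h4 : (y ^ 2) ^ 2 = y := by rw [← pow_mul, show 2 * 2 = 3 + 1 by rfl, pow_succ, hy3, one_mul]
    rw [← h4]
    exact X.pow_mem h2 2
  refine ⟨X, hXD, hX3, fun h hh => ?_, ?_⟩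
  · refine Cfsg.Lib.Core.mem_normalizer_iff_map_conj.2 (eq_of_le_of_card_ge ?_
      (card_map_of_injective (MulAut.conj h).injective).ge)
    rintro _ ⟨y, hy, rfl⟩
    exact huniq _ ((mem_normalizer_iff.1 hh y).1 (hXD hy)) (by rw [← map_pow, hpow y hy, map_one])
  · refine le_antisymm ?_ (le_inf hXD ?_)
    · rintro y ⟨hy, hyc⟩
      by_contra hyX
      refine hna ⟨⟨fun a b => Subtype.ext ?_⟩⟩
      have key : ∀ a ∈ D, a ∈ X ∨ ∃ z ∈ X, a = y * z := fun a ha => by
        by_cases h : a ∈ X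
        · exact Or.inl h
        · refine Or.inr ⟨y⁻¹ * a, ?_, by rw [mul_inv_cancel_left]⟩
          exact ((Subgroup.mul_mem_iff_of_index_two hidx (a := (⟨y⁻¹, inv_mem hy⟩ : D)) (b := ⟨a, ha⟩)).2
            (iff_of_false (fun h' => hyX (by simpa using X.inv_mem h')) h) :)
      have hcx : ∀ z ∈ X, ∀ w ∈ X, Commute z w := fun z hz w hw =>
        congrArg Subtype.val ((IsCyclic.isMulCommutative (α := X)).is_comm.comm ⟨z, hz⟩ ⟨w, hw⟩)
      have hcy : ∀ z ∈ X, Commute y z := fun z hz => (mem_centralizer_iff.1 hyc z hz).symm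
      rcases key a a.2 with ha | ⟨z, hz, ha⟩ <;> rcases key b b.2 with hb | ⟨w, hw, hb⟩
      · exact hcx _ ha _ hb
      · show (a : G) * b = b * a
        rw [hb]; exact ((hcy _ ha).symm.mul_right (hcx _ ha _ hw)).eq
      · show (a : G) * b = b * a
        rw [ha]; exact ((hcy _ hb).symm.mul_right (hcx _ hb _ hz)).symm.eq
      · show (a : G) * b = b * a
        rw [ha, hb]
        exact (((Commute.refl y).mul_right (hcy w hw)).mul_left ((hcy z hz).symm.mul_right (hcx z hz w hw))).eq
    · intro y hy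
      refine mem_centralizer_iff.2 fun z hz => ?_
      exact congrArg Subtype.val ((IsCyclic.isMulCommutative (α := X)).is_comm.comm ⟨z, hz⟩ ⟨y, hy⟩)

/-- A simple group with a self-centralizing subgroup of order three is `A₅` or `PSL₂(7)`. -/
theorem simple_three {T : Type*} [Group T] [Finite T] [IsSimpleGroup T] (hna : ¬ IsMulCommutative T)
    (X : Subgroup T) (hX : Nat.card X = 3) (hC : centralizer (X : Set T) = X) :
    Nonempty (T ≃* alternatingGroup (Fin 5)) ∨
      Nonempty (T ≃* Matrix.ProjectiveSpecialLinearGroup (Fin 2) (ZMod 7)) := by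
  have hbot : ∀ N : Subgroup T, N.Normal → Group.IsSolvable N → N = ⊥ := by
    intro N hN hs
    refine hN.eq_bot_or_eq_top.resolve_right fun h => hna ?_
    subst h
    haveI : Group.IsSolvable T := Group.isSolvable_of_surjective
      (f := (topEquiv (G := T)).toMonoidHom) topEquiv.surjective
    exact ⟨⟨fun a b => IsSimpleGroup.comm_iff_isSolvable.2 inferInstance a b⟩⟩
  rcases Cfsg.Agent.S3331.result X hX hC with ⟨N, hN, hNn, -, h⟩ | ⟨N, hN, hNc, -, ⟨e⟩⟩ | h
  · exfalso
    haveI := hNn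
    have hN1 : N = ⊥ := hbot N hN inferInstance
    subst hN1
    have hcard : Nat.card T = 3 * 2 ^ 0 ∨ Nat.card T = 3 * 2 ^ 1 := by
      rw [← Nat.card_congr (QuotientGroup.quotientBot (G := T)).toEquiv]
      rcases h with h | ⟨⟨e⟩⟩
      · exact Or.inl h
      · right; rw [Nat.card_congr e.toEquiv, Nat.card_perm, Nat.card_fin]; rfl
    have hs : Group.IsSolvable T := by rcases hcard with h | h <;> exact isSolvable_three_two h
    exact hna ⟨⟨fun a b => IsSimpleGroup.comm_iff_isSolvable.2 hs a b⟩⟩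
  · left
    have hN1 : N = ⊥ := hbot N hN (Cfsg.Lib.Core.isSolvable_of_isMulCommutative N)
    subst hN1
    exact ⟨(QuotientGroup.quotientBot (G := T)).symm.trans e⟩
  · exact Or.inr h

theorem card_psl_seven :
    Nat.card (Matrix.ProjectiveSpecialLinearGroup (Fin 2) (ZMod 7)) = 168 := by
  haveI : Fact (Nat.Prime 7) := ⟨by norm_num⟩
  have h := Cfsg.Lib.Linear.Two.card_PSL_two (F := ZMod 7)
  rw [ZMod.card] at h
  norm_num [show Nat.gcd 2 (7 - 1) = 2 by rfl, -Nat.card_eq_fintype_card] at h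
  omega

/-- An almost simple group over a projective special linear group over a prime field. -/
theorem psl_or_pgl_prime {p : ℕ} [Fact p.Prime] (hodd : Odd p) (E : Subgroup G) [E.Normal]
    (e : E ≃* Matrix.ProjectiveSpecialLinearGroup (Fin 2) (ZMod p)) (hC : centralizer (E : Set G) = ⊥) :
    Nonempty (G ≃* Matrix.ProjectiveSpecialLinearGroup (Fin 2) (ZMod p)) ∨
      Nonempty (G ≃* Matrix.ProjGenLinGroup (Fin 2) (ZMod p)) := by
  refine GW.PGL.psl_or_pgl e (by rw [ZMod.card]; exact hodd) hC (eq_top_iff.2 fun x _ => ?_)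
  obtain ⟨A, σ, hA⟩ := GW.PGL.exists_decomp_two (GW.PGL.autHom e x)
  have hσ : σ = 1 := RingEquiv.ext fun z => by
    have := RingHom.ext_zmod (σ.toRingHom) (RingHom.id (ZMod p))
    exact DFunLike.congr_fun this z
  exact ⟨A, by rw [hA, hσ, map_one, mul_one]⟩

/-- An almost simple group over the alternating group of degree five. -/
theorem perm_five (E : Subgroup G) [E.Normal] (e : E ≃* alternatingGroup (Fin 5))
    (hC : centralizer (E : Set G) = ⊥) (hidx : E.index = 2) : Nonempty (G ≃* Equiv.Perm (Fin 5)) := by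
  let α : G →* MulAut (alternatingGroup (Fin 5)) :=
    (MulAut.congr e).toMonoidHom.comp MulAut.conjNormal
  have hα : Function.Injective α := by
    rw [← MonoidHom.ker_eq_bot_iff, eq_bot_iff]
    intro x hx
    rw [← hC, mem_centralizer_iff]
    intro y hy
    have h := DFunLike.congr_fun (MonoidHom.mem_ker.1 hx) (e ⟨y, hy⟩)
    have h0 : α x (e ⟨y, hy⟩) = e (MulAut.conjNormal x (e.symm (e ⟨y, hy⟩))) := rfl
    rw [h0, e.symm_apply_apply, MulAut.one_apply, e.apply_eq_iff_eq] at h
    have h' := congrArg Subtype.val h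
    rw [MulAut.conjNormal_apply] at h'
    exact (mul_inv_eq_iff_eq_mul.1 h').symm
  let β : Equiv.Perm (Fin 5) ≃* MulAut (alternatingGroup (Fin 5)) :=
    MulEquiv.ofBijective (MulAut.conjNormal : Equiv.Perm (Fin 5) →* MulAut (alternatingGroup (Fin 5)))
      ⟨Cfsg.Agent.S4231.conj_inj 5 (by norm_num),
        fun φ => Cfsg.Agent.S4231.mem_range 5 le_rfl φ (Or.inl (by norm_num))⟩
  let γ : G →* Equiv.Perm (Fin 5) := β.symm.toMonoidHom.comp α
  have hγ : Function.Injective γ := β.symm.injective.comp hα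
  refine ⟨MulEquiv.ofBijective γ ((Nat.bijective_iff_injective_and_card γ).2 ⟨hγ, ?_⟩)⟩
  rw [← card_mul_index E, hidx, Nat.card_congr e.toEquiv, nat_card_alternatingGroup, Nat.card_perm,
    Nat.card_fin]
  norm_num [Nat.factorial]

namespace Setup

variable {n : ℕ} {t : ℤ → G} {T : Subgroup G}

theorem isSimpleGroup_of_top (hS : Setup n t T) (hT : T = ⊤) :
    IsSimpleGroup G ∧ ¬ IsMulCommutative G := by
  subst hT
  haveI := hS.simple
  exact ⟨(topEquiv (G := G)).symm.isSimpleGroup,
    fun h => hS.nab ⟨⟨fun a b => Subtype.ext (h.is_comm.comm (a : G) b)⟩⟩⟩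

/-- `n = 1`: the group is `A₅`. -/
theorem case_one (hS : Setup 1 t T) : Nonempty (G ≃* alternatingGroup (Fin 5)) := by
  have hT := hS.top_one
  obtain ⟨hs, hna⟩ := hS.isSimpleGroup_of_top hT
  haveI := hs
  set H := seg t 0 (1 + 1) with hHd
  have hTH : T ⊓ H = H := by rw [hT, top_inf_eq]
  have hH6 : Nat.card H = 6 := hS.card_top
  have hHna : ¬ IsMulCommutative H := hTH ▸ hS.nab
  obtain ⟨X, hXH, hX3, hn, hc⟩ := six_structure hH6 hHna
  have hX1 : X ≠ ⊥ := fun h => by rw [h, card_bot] at hX3; omega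
  have hN := hS.prim.normalizer_eq hXH (le_normalizer.trans hn) hX1
  have hC : centralizer (X : Set G) = X := by
    rwa [hHd, ← hN, inf_eq_right.2 (centralizer_le_normalizer _)] at hc
  rcases simple_three hna X hX3 hC with h | ⟨⟨e⟩⟩
  · exact h
  · exfalso
    have h168 : Nat.card G = 168 := (Nat.card_congr e.toEquiv).trans card_psl_seven
    rcases (Cfsg.Agent.S1008.result h168).1 H hS.prim.coatom with ⟨⟨f⟩⟩ | ⟨h, -⟩
    · rw [Nat.card_congr f.toEquiv, Nat.card_perm, Nat.card_fin] at hH6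
      norm_num [Nat.factorial] at hH6
    · omega

/-- `n = 2`, outside the socle: the group is `S₅` or `PGL₂(7)`. -/
theorem case_two_outer (hS : Setup 2 t T) (hidx : T.index = 2)
    (h6 : Nat.card ↥(T ⊓ seg t 0 (2 + 1)) = 6) :
    Nonempty (G ≃* Equiv.Perm (Fin 5)) ∨
      Nonempty (G ≃* GL (Fin 2) (ZMod 7) ⧸ Subgroup.center (GL (Fin 2) (ZMod 7))) := by
  haveI := hS.normal
  haveI := hS.simple
  set H := seg t 0 (2 + 1) with hHd
  obtain ⟨X, hXD, hX3, hn, hc⟩ := six_structure h6 hS.nab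
  have hX1 : X ≠ ⊥ := fun h => by rw [h, card_bot] at hX3; omega
  have hHn : H ≤ normalizer (X : Set G) := fun x hx => hn (mem_normalizer_inf
    (by rw [normalizer_eq_top_iff.2 hS.normal]; exact mem_top x) (le_normalizer hx))
  have hN := hS.prim.normalizer_eq (hXD.trans inf_le_right) hHn hX1
  have hXT : X ≤ T := hXD.trans inf_le_left
  have hC : centralizer ((X.subgroupOf T : Subgroup T) : Set T) = X.subgroupOf T := by
    have hiff : ∀ y : T, y ∈ centralizer ((X.subgroupOf T : Subgroup T) : Set T) ↔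
        (y : G) ∈ centralizer (X : Set G) := fun y =>
      ⟨fun h => mem_centralizer_iff.2 fun z hz =>
          congrArg Subtype.val (mem_centralizer_iff.1 h ⟨z, hXT hz⟩ hz),
        fun h => mem_centralizer_iff.2 fun z hz => Subtype.ext (mem_centralizer_iff.1 h (z : G) hz)⟩
    ext y
    rw [hiff, mem_subgroupOf]
    refine ⟨fun hy => ?_, fun hy => (hc.ge hy).2⟩
    exact hc.le ⟨⟨y.2, (hN.le (centralizer_le_normalizer _ hy) : (y : G) ∈ H)⟩, hy⟩
  rcases simple_three hS.nonab _ ((Nat.card_congr (subgroupOfEquivOfLe hXT).toEquiv).trans hX3) hC with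
    ⟨⟨e⟩⟩ | ⟨⟨e⟩⟩
  · exact Or.inl (perm_five T e hS.cent hidx)
  · right
    haveI : Fact (Nat.Prime 7) := ⟨by norm_num⟩
    refine (psl_or_pgl_prime (by decide) T e hS.cent).resolve_left fun ⟨f⟩ => ?_
    have h1 := card_mul_index T
    rw [hidx, Nat.card_congr e.toEquiv, ← Nat.card_congr f.toEquiv] at h1
    have : 0 < Nat.card G := Nat.card_pos
    omega

/-- For `n = 2` the middle involution is central in the point stabilizer. -/
theorem centralizer_two (hS : Setup 2 t T) (s : ℤ) :
    centralizer ({t (s + 1)} : Set G) = seg t s (2 + 1) := by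
  have hV := hS.vertex
  obtain ⟨lam, -, hle, hlam, -, -, hlo⟩ := hV.exists_lam
  have hl2 : lam = 2 := by
    by_contra h
    have := hlo (by omega)
    omega
  subst hl2
  have key : centralizer ({t 1} : Set G) = seg t 0 (2 + 1) := by
    have hle : seg t 0 (2 + 1) ≤ centralizer ({t 1} : Set G) := fun x hx =>
      mem_centralizer_singleton_iff.2
        (seg_le_centralizer (fun k h1 h2 => hV.toSeq.comm_of hlam (by omega) (by omega)) hx).eq
    refine (eq_or_lt_of_le hle).elim Eq.symm fun hlt => ?_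
    exfalso
    have htop := hS.prim.coatom.2 _ hlt
    have hc : t 1 ∈ centralizer (T : Set G) := mem_centralizer_iff.2 fun y _ =>
      (mem_centralizer_singleton_iff.1 (htop ▸ mem_top y))
    rw [hS.cent, mem_bot] at hc
    exact hV.toSeq.ne_one hV.pos 1 hc
  obtain ⟨h, hh⟩ := hV.conj
  have e1 : t (s + 1) = h ^ s * t 1 * (h ^ s)⁻¹ := by rw [← hh 1 s, add_comm]
  refine le_antisymm (fun x hx => ?_) (fun x hx => ?_)
  · have hx' : (h ^ s)⁻¹ * x * h ^ s ∈ seg t 0 (2 + 1) := by
      rw [← key, mem_centralizer_singleton_iff]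
      have hxc := mem_centralizer_singleton_iff.1 hx
      rw [e1] at hxc
      calc (h ^ s)⁻¹ * x * h ^ s * t 1 = (h ^ s)⁻¹ * (x * (h ^ s * t 1 * (h ^ s)⁻¹)) * h ^ s := by group
        _ = (h ^ s)⁻¹ * (h ^ s * t 1 * (h ^ s)⁻¹ * x) * h ^ s := by rw [hxc]
        _ = t 1 * ((h ^ s)⁻¹ * x * h ^ s) := by group
    have hle : seg t 0 (2 + 1) ≤ (seg t s (2 + 1)).comap (MulAut.conj (h ^ s)).toMonoidHom :=
      seg_le fun k h1 h2 => by
        show h ^ s * t k * (h ^ s)⁻¹ ∈ seg t s (2 + 1)
        rw [← hh]; exact mem_seg t (by omega) (by omega)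
    have := hle hx'
    have e2 : (MulAut.conj (h ^ s)).toMonoidHom ((h ^ s)⁻¹ * x * h ^ s) = x := by
      show h ^ s * ((h ^ s)⁻¹ * x * h ^ s) * (h ^ s)⁻¹ = x
      group
    rwa [mem_comap, e2] at this
  · exact mem_centralizer_singleton_iff.2
      (seg_le_centralizer (fun k h1 h2 => hV.toSeq.comm_of hlam (by omega) (by omega)) hx).eq

/-- `n = 2`, inside the socle: the group is `PSL₂(11)` or `PSL₂(13)`. -/
theorem case_two_inner (hS : Setup 2 t T) (hT : T = ⊤) :
    Nonempty (G ≃* Matrix.ProjectiveSpecialLinearGroup (Fin 2) (ZMod 11)) ∨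
      Nonempty (G ≃* Matrix.ProjectiveSpecialLinearGroup (Fin 2) (ZMod 13)) := by
  haveI : Fact (Nat.Prime 2) := ⟨Nat.prime_two⟩
  obtain ⟨hs, hna⟩ := hS.isSimpleGroup_of_top hT
  haveI := hs
  haveI := Fintype.ofFinite G
  have hV := hS.vertex
  have hCz : centralizer ({t 1} : Set G) = seg t 0 (2 + 1) := by
    have := hS.centralizer_two 0
    rwa [zero_add] at this
  set z := t 1 with hz
  have hz2 : orderOf z = 2 := orderOf_eq_prime (by rw [pow_two]; exact hV.sq 1) (hV.toSeq.ne_one hV.pos 1)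
  set P := seg t 1 2 with hPd
  have hP4 : Nat.card P = 4 := hV.card 1 2 le_rfl
  obtain ⟨S, hPS⟩ := (IsPGroup.of_card (p := 2) (n := 2) (by rw [hP4]; rfl) : IsPGroup 2 P).exists_le_sylow
  have hPH : P ≤ seg t 0 (2 + 1) := seg_mono t (by norm_num) (by norm_num)
  have hSH : (S : Subgroup G) ⊓ seg t 0 (2 + 1) = P := by
    refine (eq_of_le_of_card_ge (le_inf hPS hPH) ?_).symm
    obtain ⟨j, hj⟩ := (S.2.to_le (inf_le_left : (S : Subgroup G) ⊓ seg t 0 (2 + 1) ≤ S)).exists_card_eq
    have hd : 2 ^ j ∣ 3 * 2 ^ 2 := hj ▸ hS.card_top ▸ card_dvd_of_le inf_le_right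
    rw [hj, hP4]
    exact Nat.le_of_dvd (by norm_num) ((Nat.Coprime.pow_left j (by norm_num)).dvd_of_dvd_mul_left hd :)
  have hzS : z ∈ (S : Subgroup G) := hPS (mem_seg t le_rfl (by norm_num))
  -- the centralizer of `z` in `S`
  have hCS : Nat.card ↥(centralizer ({(⟨z, hzS⟩ : ↥(S : Subgroup G))} : Set ↥(S : Subgroup G))) = 4 := by
    rw [← hP4, ← hSH]
    refine Nat.card_congr
      { toFun := fun x => ⟨(x : ↥(S : Subgroup G)), x.1.2, hCz ▸ mem_centralizer_singleton_iff.2
          (congrArg Subtype.val (mem_centralizer_singleton_iff.1 x.2))⟩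
        invFun := fun x => ⟨⟨x, x.2.1⟩, mem_centralizer_singleton_iff.2 (Subtype.ext
          (mem_centralizer_singleton_iff.1 (hCz.symm ▸ x.2.2)))⟩
        left_inv := fun x => rfl
        right_inv := fun x => rfl }
  -- a larger Sylow subgroup is impossible
  have hS4 : Nat.card (S : Subgroup G) = 4 := by
    by_contra hne
    have hzo : orderOf (⟨z, hzS⟩ : ↥(S : Subgroup G)) = 2 := by rw [Subgroup.orderOf_mk, hz2]
    obtain ⟨x, hxi⟩ : ∃ x : ↥(S : Subgroup G), (zpowers x).index = 2 := by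
      rcases Cfsg.Agent.S3224.result S.2 _ hzo hCS with ⟨m, ⟨e⟩⟩ | hq | h
      · refine ⟨e.symm (DihedralGroup.r 1), ?_⟩
        haveI : Finite (DihedralGroup m) := Finite.of_equiv _ e.toEquiv
        have hm : NeZero m := ⟨fun h => by subst h; exact not_finite (DihedralGroup 0)⟩
        have h1 := card_mul_index (zpowers (e.symm (DihedralGroup.r 1)))
        rw [Nat.card_zpowers, MulEquiv.orderOf_eq, DihedralGroup.orderOf_r_one,
          Nat.card_congr e.toEquiv, DihedralGroup.nat_card, mul_comm 2] at h1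
        exact Nat.eq_of_mul_eq_mul_left (Nat.pos_of_ne_zero hm.out) h1
      · obtain ⟨m, ⟨d⟩⟩ := Cfsg.Lib.TwoGroup.exists_sd hq
        exact ⟨d.x, d.index_x⟩
      · exact absurd h hne
    set M := (zpowers x).map (S : Subgroup G).subtype with hM
    have hMc : 2 * Nat.card M = Nat.card (S : Subgroup G) := by
      rw [hM, card_map_of_injective (S : Subgroup G).subtype_injective, ← card_mul_index (zpowers x), hxi,
        mul_comm]
    have hG2 : 2 < Nat.card G := by
      have := card_le_of_le (le_top : seg t 0 (2 + 1) ≤ ⊤)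
      rw [Subgroup.card_top, hS.card_top] at this
      omega
    obtain ⟨g, hg⟩ := Cfsg.Lib.MEleven.exists_conj_mem_index_two hG2 S M (map_subtype_le _) hMc hz2
    obtain ⟨u, hu, hug⟩ := hg
    -- the involution of the cyclic subgroup is central
    have hu2 : orderOf u = 2 := by
      rw [← Subgroup.orderOf_coe, show ((u : ↥(S : Subgroup G)) : G) = g * z * g⁻¹ from hug, ← hz2]
      exact (MulAut.conj g).orderOf_eq z
    haveI : (zpowers x).Normal := normal_of_index_eq_two hxi
    have hcen : ∀ s : ↥(S : Subgroup G), s * u = u * s := by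
      intro s
      have hsu : s * u * s⁻¹ = u := Cfsg.Lib.Invol.eq_of_pow_two_group_cyclic (inferInstance : IsCyclic (zpowers x))
        ((inferInstance : (zpowers x).Normal).conj_mem u hu s) hu (((MulAut.conj s).orderOf_eq u).trans hu2) hu2
      exact mul_inv_eq_iff_eq_mul.1 hsu
    have hle : (S : Subgroup G) ≤ centralizer ({g * z * g⁻¹} : Set G) := fun s hs => by
      rw [← hug]
      exact mem_centralizer_singleton_iff.2 (congrArg Subtype.val (hcen ⟨s, hs⟩))
    have hd := card_dvd_of_le hle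
    rw [Cfsg.Lib.MEleven.card_centralizer_conj, hCz, hS.card_top] at hd
    obtain ⟨j, hj⟩ := S.2.exists_card_eq
    rw [hj] at hd hne
    have hd4 : 2 ^ j ∣ 4 := (Nat.Coprime.pow_left j (by norm_num)).dvd_of_dvd_mul_left
      (show 2 ^ j ∣ 3 * 4 from hd)
    have hge : 4 ∣ 2 ^ j := hj ▸ hP4 ▸ card_dvd_of_le hPS
    exact hne (Nat.dvd_antisymm hd4 hge)
  -- so the Sylow subgroup is a four group
  have hSP : (S : Subgroup G) = P := (eq_of_le_of_card_ge hPS (by rw [hS4, hP4])).symm
  have hex : ∀ x ∈ P, x * x = 1 := by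
    obtain ⟨lam, -, -, hlam, -, -, hlo⟩ := hV.exists_lam
    intro x hx
    have hl2 : 2 ≤ lam := by
      by_contra h
      have := hlo (by omega)
      omega
    exact hV.sq_of_mem hlam hl2 hx
  have hdih : Cfsg.Lib.GW.SylowDihedral G := by
    intro R
    obtain ⟨x, hx⟩ := MulAction.exists_smul_eq G R S
    let e := R.equiv S
    haveI : Nontrivial (S : Subgroup G) := Finite.one_lt_card_iff_nontrivial.1 (by rw [hS4]; norm_num)
    haveI : IsKleinFour (S : Subgroup G) := by
      refine ⟨hS4, (Monoid.exponent_eq_prime_iff Nat.prime_two).2 fun y hy1 => orderOf_eq_prime ?_ hy1⟩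
      exact Subtype.ext (by rw [SubmonoidClass.coe_pow, pow_two]; exact hex _ (hSP.le y.2))
    haveI : IsKleinFour (DihedralGroup 2) := inferInstance
    exact ⟨2, le_rfl, ⟨e.trans (IsKleinFour.nonempty_mulEquiv).some⟩⟩
  rcases Cfsg.Lib.GW.simpleGW G hna hdih with ⟨F, hF, hFf, hodd, h3, ⟨e⟩⟩ | ⟨⟨e⟩⟩
  · have h12 : Nat.card (centralizer ({e z} : Set (Matrix.ProjectiveSpecialLinearGroup (Fin 2) F))) = 12 := by
      rw [← show Nat.card (centralizer ({z} : Set G)) = 12 by rw [hCz, hS.card_top]; rfl]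
      exact (Nat.card_congr (e.toEquiv.subtypeEquiv fun x => by
        show x ∈ centralizer ({z} : Set G) ↔ e x ∈ centralizer ({e z} : Set _)
        rw [mem_centralizer_singleton_iff, mem_centralizer_singleton_iff, ← map_mul, ← map_mul,
          e.apply_eq_iff_eq])).symm
    have hq5 : 7 ≤ Fintype.card F := by
      by_contra hlt
      have hq : Fintype.card F = 5 := by obtain ⟨k, hk⟩ := hodd; omega
      have hc := Cfsg.Lib.Linear.Two.card_PSL_two (F := F)
      rw [hq, ← Nat.card_congr e.toEquiv] at hc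
      have h60 : Nat.card G = 60 := by norm_num [show Nat.gcd 2 (5 - 1) = 2 by rfl, -Nat.card_eq_fintype_card] at hc; omega
      obtain ⟨f⟩ := Cfsg.Lib.Dickson.iso_alternating_five (G := G) (fun N hN hcyc => by
        refine hN.eq_bot_or_eq_top.resolve_right fun h => hna ?_
        subst h
        haveI : IsCyclic G := isCyclic_of_surjective (topEquiv (G := G)).toMonoidHom topEquiv.surjective
        exact IsCyclic.isMulCommutative) h60
      haveI : Fact (Nat.Prime 3) := ⟨Nat.prime_three⟩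
      obtain ⟨x, hx⟩ := exists_prime_orderOf_dvd_card' (G := seg t 0 (2 + 1)) 3
        (hS.card_top ▸ Dvd.intro _ rfl)
      have hxc : Commute z (x : G) := (mem_centralizer_singleton_iff.1 (hCz.symm ▸ x.2)).symm
      have h6 : orderOf (z * (x : G)) = 6 := by
        rw [hxc.orderOf_mul_eq_mul_orderOf_of_coprime (by rw [hz2, Subgroup.orderOf_coe, hx]; norm_num),
          hz2, Subgroup.orderOf_coe, hx]
      have hsmall : ∀ σ : Equiv.Perm (Fin 5), Equiv.Perm.sign σ = 1 → σ ^ 2 = 1 ∨ σ ^ 3 = 1 ∨ σ ^ 5 = 1 := by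
        decide +kernel
      have ho : orderOf ((f (z * x) : alternatingGroup (Fin 5)) : Equiv.Perm (Fin 5)) = 6 := by
        rw [Subgroup.orderOf_coe, MulEquiv.orderOf_eq, h6]
      rcases hsmall _ (Equiv.Perm.mem_alternatingGroup.1 (f (z * x)).2) with h | h | h <;>
        · have := orderOf_dvd_of_pow_eq_one h
          rw [ho] at this
          norm_num at this
    have hee : (e z) ^ 2 = 1 ∧ e z ≠ 1 := ⟨(map_pow e z 2).symm.trans (by
      rw [show z ^ 2 = 1 by rw [pow_two]; exact hV.sq 1, map_one]),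
      fun h => (hV.toSeq.ne_one hV.pos 1) (e.injective (h.trans (map_one e).symm))⟩
    have hcc := Cfsg.Lib.Dickson.card_centralizer_involution (Nat.odd_iff.1 hodd) hq5 hee.1 hee.2
    have hq : Fintype.card F = 11 ∨ Fintype.card F = 13 := by
      obtain ⟨k, hk⟩ := hodd
      rcases (show Fintype.card F % 4 = 1 ∨ Fintype.card F % 4 = 3 by omega) with h | h
      · have := hcc.1 h; omega
      · have := hcc.2 h; omega
    rcases hq with hq | hq
    · left
      haveI : Fact (Nat.Prime 11) := ⟨by norm_num⟩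
      exact ⟨e.trans (Cfsg.Lib.Dickson.pslEquiv (FiniteField.ringEquivOfCardEq (by rw [ZMod.card, hq])))⟩
    · right
      haveI : Fact (Nat.Prime 13) := ⟨by norm_num⟩
      exact ⟨e.trans (Cfsg.Lib.Dickson.pslEquiv (FiniteField.ringEquivOfCardEq (by rw [ZMod.card, hq])))⟩
  · exfalso
    have h := card_mul_index (S : Subgroup G)
    rw [hS4, Nat.card_congr e.toEquiv, nat_card_alternatingGroup, Nat.card_fin] at h
    have h2 := S.not_dvd_index
    norm_num [Nat.factorial] at h
    omega

end Setup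

end Cfsg.Lib.Perm.SubThree
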